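import Cfsg.Agent.ProdFus42.DD.Basic
import Cfsg.Agent.Lib.Thompson.Alperin
import Cfsg.Agent.Lib.Coprime.Action

/-!
# Fusion tools
-/

set_option autoImplicit false
set_option linter.style.haveILetI false
set_option linter.unusedSectionVars false

namespace Cfsg.Agent.ProdFus42

open Subgroup
open Cfsg.Agent.Thompson.Alperin

variable {G : Type*} [Group G] [Finite G]

/-- A fully normalised subgroup satisfying the conditions of Goldschmidt. -/
structure GoodSub (P : Sylow 2 G) (Q : Subgroup G) : Prop where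
  le : Q ≤ (P : Subgroup G)
  fully : FullyIn 2 (P : Subgroup G) Q
  good : Good 2 (P : Subgroup G) Q

/-- A preorder preserved by the normalisers of good subgroups is preserved by fusion. -/
theorem fusion_induction (P : Sylow 2 G) (R : G → G → Prop) (hrefl : ∀ a, R a a)
    (htrans : ∀ a b c, R a b → R b c → R a c)
    (hstep : ∀ Q, GoodSub P Q → ∀ x ∈ normalizer (Q : Set G), ∀ a ∈ Q, R a (x⁻¹ * a * x))
    {a g : G} (ha : a ∈ (P : Subgroup G)) (hg : g⁻¹ * a * g ∈ (P : Subgroup G)) :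
    R a (g⁻¹ * a * g) := by
  haveI := Fact.mk Nat.prime_two
  have hgP : Good 2 (P : Subgroup G) (P : Subgroup G) := ⟨inf_le_left, inf_le_left⟩
  have key := chain_of_fusion P (free := True)
    (step := fun D x => D ≤ (P : Subgroup G) ∧ x ∈ normalizer (D : Set G) ∧
      FullyIn 2 (P : Subgroup G) D ∧ Good 2 (P : Subgroup G) D)
    (fun D x ⟨h1, h2, h3, h4⟩ => ⟨h1, inv_mem h2, h3, h4⟩) (fun D x h => h.2.1)
    (fun x hx => ⟨le_rfl, hx, fullyIn_self P, hgP⟩)
    (fun Q U x h1 h2 _ h4 _ h6 => ⟨h1 ▸ inf_le_left, h4, h2, h6 trivial⟩) {a} g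
    (Set.singleton_subset_iff.mpr ha) (by rintro _ ⟨b, rfl, rfl⟩; exact hg)
  have main : ∀ (A : Set G) (g : G),
      Chain (fun D x => D ≤ (P : Subgroup G) ∧ x ∈ normalizer (D : Set G) ∧
        FullyIn 2 (P : Subgroup G) D ∧ Good 2 (P : Subgroup G) D) True A g →
      ∀ b ∈ A, R b (g⁻¹ * b * g) := by
    intro A g h
    induction h with
    | one A => intro b _; simpa using hrefl b
    | @cons A D x g hs hA _ ih =>
      intro b hb
      have h1 := hstep D ⟨hs.1, hs.2.2.1, hs.2.2.2⟩ x hs.2.1 b (hA hb)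
      have h2 := htrans _ _ _ h1 (ih _ ⟨b, hb, rfl⟩)
      simpa [mul_assoc] using h2
    | @move A c g _ hc _ ih =>
      intro b hb
      have h1 : c⁻¹ * b * c = b := by
        rw [mul_assoc, mem_centralizer_iff.mp hc b hb, inv_mul_cancel_left]
      rw [show (c * g)⁻¹ * b * (c * g) = g⁻¹ * (c⁻¹ * b * c) * g by group, h1]
      exact ih b hb
  exact main _ g key a rfl

theorem sq_eq_one_two : ∀ y : Multiplicative (ZMod 2), y ^ 2 = 1 := by decide

/-- No normal subgroup of index two means no fusion-invariant character of order two. -/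
theorem false_of_invariant (h2 : ∀ N : Subgroup G, N.Normal → N.index ≠ 2) (P : Sylow 2 G)
    (χ : (P : Subgroup G) →* Multiplicative (ZMod 2)) (hχ : ∃ x, χ x ≠ 1)
    (hinv : ∀ Q, GoodSub P Q → ∀ x ∈ normalizer (Q : Set G), ∀ a ∈ Q,
      ∀ (ha : a ∈ (P : Subgroup G)) (hb : x⁻¹ * a * x ∈ (P : Subgroup G)),
        χ ⟨x⁻¹ * a * x, hb⟩ = χ ⟨a, ha⟩) : False := by
  classical
  haveI := Fact.mk Nat.prime_two
  have hfus : ∀ (a g : G) (ha : a ∈ (P : Subgroup G)) (hg : g⁻¹ * a * g ∈ (P : Subgroup G)),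
      χ ⟨g⁻¹ * a * g, hg⟩ = χ ⟨a, ha⟩ := by
    intro a g ha hg
    have h := fusion_induction P (fun a b => ∀ (ha : a ∈ (P : Subgroup G)),
      ∃ hb : b ∈ (P : Subgroup G), χ ⟨b, hb⟩ = χ ⟨a, ha⟩) (fun a ha => ⟨ha, rfl⟩)
      (fun a b c h1 h2 ha => by
        obtain ⟨hb, e1⟩ := h1 ha
        obtain ⟨hc, e2⟩ := h2 hb
        exact ⟨hc, e2.trans e1⟩)
      (fun Q hQ x hx b hb hbP => by
        have hm : x⁻¹ * b * x ∈ Q := by
          simpa using (mem_normalizer_iff.mp (inv_mem hx) b).mp hb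
        exact ⟨hQ.le hm, hinv Q hQ x hx b hb hbP (hQ.le hm)⟩) ha hg ha
    obtain ⟨_, e⟩ := h
    exact e
  obtain ⟨x, hx⟩ := hχ
  haveI : (P : Subgroup G).FiniteIndex := inferInstance
  set τ := MonoidHom.transfer χ with hτ
  have hτx : τ (x : G) = χ x ^ (P : Subgroup G).index := by
    haveI := (P : Subgroup G).fintypeQuotientOfFiniteIndex
    rw [hτ, MonoidHom.transfer_eq_prod_quotient_orbitRel_zpowers_quot,
      index_eq_sum_minimalPeriod (P : Subgroup G) (x : G), ← Finset.prod_pow_eq_pow_sum]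
    refine Finset.prod_congr rfl fun q _ => ?_
    rw [← map_pow]
    refine hfus ((x : G) ^ _) q.out.out (pow_mem x.2 _) ?_
  have hodd : Odd (P : Subgroup G).index := by
    rw [← Nat.not_even_iff_odd, even_iff_two_dvd]
    exact P.not_dvd_index
  have hsq : χ x ^ 2 = 1 :=
    sq_eq_one_two _
  obtain ⟨k, hk⟩ := hodd
  rw [hk, pow_succ, pow_mul, hsq, one_pow, one_mul] at hτx
  refine h2 τ.ker inferInstance ?_
  have hcard : Nat.card (Multiplicative (ZMod 2)) = 2 := by simp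
  have hdvd : Nat.card τ.range ∣ 2 := (card_subgroup_dvd_card τ.range).trans hcard.dvd
  rw [Subgroup.index_ker]
  rcases (Nat.dvd_prime Nat.prime_two).mp hdvd with h | h
  · exfalso
    rw [Subgroup.card_eq_one] at h
    have : τ (x : G) ∈ τ.range := ⟨_, rfl⟩
    rw [h, mem_bot] at this
    exact hx (hτx ▸ this)
  · exact h

/-- Burnside's fusion lemma for central subsets. -/
theorem burnside (P : Sylow 2 G) {A : Set G} {g : G}
    (hA : ∀ a ∈ A, ∀ y ∈ (P : Subgroup G), a * y = y * a)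
    (hgA : ∀ a ∈ A, ∀ y ∈ (P : Subgroup G), g * a * g⁻¹ * y = y * (g * a * g⁻¹)) :
    ∃ n ∈ normalizer ((P : Subgroup G) : Set G), ∀ a ∈ A, n * a * n⁻¹ = g * a * g⁻¹ := by
  haveI := Fact.mk Nat.prime_two
  set B := (fun a => g * a * g⁻¹) '' A with hB
  set C := centralizer B with hC
  have hP : (P : Subgroup G) ≤ C := fun y hy => mem_centralizer_iff.mpr (by
    rintro _ ⟨a, ha, rfl⟩; exact hgA a ha y hy)
  have hgP : ((g • P : Sylow 2 G) : Subgroup G) ≤ C := by
    rw [Sylow.coe_subgroup_smul]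
    rintro _ ⟨y, hy, rfl⟩
    refine mem_centralizer_iff.mpr ?_
    rintro _ ⟨a, ha, rfl⟩
    show g * a * g⁻¹ * (g * y * g⁻¹) = g * y * g⁻¹ * (g * a * g⁻¹)
    calc g * a * g⁻¹ * (g * y * g⁻¹) = g * (a * y) * g⁻¹ := by group
      _ = g * (y * a) * g⁻¹ := by rw [hA a ha y hy]
      _ = _ := by group
  obtain ⟨c, hc⟩ := MulAction.exists_smul_eq C ((g • P).subtype hgP) (P.subtype hP)
  rw [Sylow.smul_subtype] at hc
  have hcP : (c : G) • (g • P) = P := Sylow.subtype_injective hc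
  refine ⟨c * g, Sylow.smul_eq_iff_mem_normalizer.mp (by rw [mul_smul]; exact hcP), fun a ha => ?_⟩
  have h1 : g * a * g⁻¹ * (c : G) = c * (g * a * g⁻¹) := mem_centralizer_iff.mp c.2 _ ⟨a, ha, rfl⟩
  calc c * g * a * (c * g)⁻¹ = c * (g * a * g⁻¹) * (c : G)⁻¹ := by group
    _ = g * a * g⁻¹ * c * (c : G)⁻¹ := by rw [← h1]
    _ = g * a * g⁻¹ := mul_inv_cancel_right _ _

theorem GoodSub.self (P : Sylow 2 G) : GoodSub P (P : Subgroup G) :=
  ⟨le_rfl, haveI := Fact.mk Nat.prime_two; fullyIn_self P, inf_le_left, inf_le_left⟩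

/-- The normaliser of a fully normalised subgroup is generated by its part in the Sylow subgroup and
its elements of odd order. -/
theorem normalizer_le {P : Sylow 2 G} {Q K : Subgroup G}
    (hf : FullyIn 2 (P : Subgroup G) Q)
    (hP : (P : Subgroup G) ⊓ normalizer (Q : Set G) ≤ K)
    (hodd : ∀ x ∈ normalizer (Q : Set G), Odd (orderOf x) → x ∈ K) :
    normalizer (Q : Set G) ≤ K := by
  haveI := Fact.mk Nat.prime_two
  set N := normalizer (Q : Set G) with hN
  obtain ⟨S₀, hS₀⟩ := exists_sylow_of_fully hf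
  set R : Subgroup N := Subgroup.closure {x : N | Odd (orderOf x)} with hR
  haveI hRn : R.Normal := ⟨fun x hx y => by
    suffices R ≤ R.comap (MulAut.conj y).toMonoidHom from this hx
    refine (closure_le _).mpr fun w hw => subset_closure ?_
    show Odd (orderOf (y * w * y⁻¹))
    rw [Involution.orderOf_conj]; exact hw⟩
  have hq : IsPGroup 2 (N ⧸ R) := by
    intro w
    obtain ⟨y, rfl⟩ := QuotientGroup.mk'_surjective R w
    obtain ⟨k, m, hm, hkm⟩ := Nat.exists_eq_two_pow_mul_odd (orderOf_pos y).ne'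
    refine ⟨k, ?_⟩
    rw [← map_pow, QuotientGroup.mk'_apply, QuotientGroup.eq_one_iff]
    refine subset_closure ?_
    show Odd (orderOf (y ^ 2 ^ k))
    rw [orderOf_pow' y (by positivity), hkm, Nat.gcd_eq_right (dvd_mul_right _ _),
      Nat.mul_div_cancel_left _ (by positivity)]
    exact hm
  obtain ⟨k, hk⟩ := IsPGroup.iff_card.mp hq
  have htop : (S₀ : Subgroup N) ⊔ R = ⊤ := by
    rw [← index_eq_one]
    have h1 : ((S₀ : Subgroup N) ⊔ R).index ∣ 2 ^ k := hk ▸ (index_eq_card R ▸ index_dvd_of_le le_sup_right)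
    have h2 : Odd ((S₀ : Subgroup N) ⊔ R).index := by
      rw [← Nat.not_even_iff_odd, even_iff_two_dvd]
      exact fun h => S₀.not_dvd_index (h.trans (index_dvd_of_le le_sup_left))
    exact Nat.eq_one_of_dvd_coprimes ((Nat.coprime_two_right.mpr h2).pow_right k) dvd_rfl h1
  have hle : (⊤ : Subgroup N) ≤ K.subgroupOf N := by
    rw [← htop]
    refine sup_le (fun w hw => hP ?_) ((closure_le _).mpr fun w hw => hodd w w.2 ?_)
    · rw [← hS₀]; exact mem_map_of_mem _ hw
    · rw [Subgroup.orderOf_coe]; exact hw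
  exact fun w hw => hle (x := ⟨w, hw⟩) trivial

/-- An element of the Sylow subgroup lying in a subnormal piece of the normaliser that acts as a
2-group lies in the good subgroup. -/
theorem mem_of_subnormal {P : Sylow 2 G} {Q L M : Subgroup G} (hQ : GoodSub P Q)
    (hLN : L ≤ normalizer (Q : Set G)) (hNL : normalizer (Q : Set G) ≤ normalizer (L : Set G))
    (hML : M ≤ L) (hLM : L ≤ normalizer (M : Set G))
    (hev : ∀ m ∈ M, ∃ k : ℕ, m ^ 2 ^ k ∈ centralizer (Q : Set G)) {t : G}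
    (ht : t ∈ (P : Subgroup G)) (htM : t ∈ M) : t ∈ Q := by
  haveI := Fact.mk Nat.prime_two
  set N := normalizer (Q : Set G) with hN
  obtain ⟨hC, -⟩ := good_structure P hQ.le hQ.fully hQ.good
  set π := QuotientGroup.mk' (pPrimeCore 2 N) with hπ
  have hMN : M ≤ N := hML.trans hLN
  have hp : IsPGroup 2 ((M.subgroupOf N).map π) := by
    rintro ⟨_, m, hm, rfl⟩
    obtain ⟨k, hk⟩ := hev _ hm
    obtain ⟨w, hw, hwe⟩ := hC hk
    have h3 : π (m ^ 2 ^ k) ∈ pCore 2 (N ⧸ pPrimeCore 2 N) := by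
      have e : w = m ^ 2 ^ k := Subtype.ext (by simpa using hwe)
      exact e ▸ hw
    obtain ⟨j, hj⟩ := Thompson.isPGroup_pCore (p := 2) ⟨_, h3⟩
    refine ⟨k + j, Subtype.ext ?_⟩
    have h4 := congrArg Subtype.val hj
    simp only [SubgroupClass.coe_pow, OneMemClass.coe_one] at h4 ⊢
    rw [pow_add, pow_mul, ← map_pow]
    exact h4
  have hs : (M.subgroupOf N).IsSubnormal := by
    refine .step _ (L.subgroupOf N) (fun w hw => hML hw) (.step _ ⊤ le_top .top ?_) ?_
    · haveI : (L.subgroupOf N).Normal := ⟨fun w hw y =>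
        ((mem_normalizer_iff.mp (hNL y.2) w).mp hw : _)⟩
      infer_instance
    · exact ⟨fun w hw y => ((mem_normalizer_iff.mp (hLM y.2) _).mp hw : _)⟩
  have hle : (M.subgroupOf N).map π ≤ pCore 2 (N ⧸ pPrimeCore 2 N) :=
    Thompson.le_pCore_of_isSubnormal (hs.map (QuotientGroup.mk'_surjective _)) hp
  refine hQ.good.2 ⟨ht, ⟨t, hMN htM⟩, ?_, rfl⟩
  exact Subgroup.mem_comap.mpr (hle (mem_map_of_mem π (show (⟨t, hMN htM⟩ : N) ∈ M.subgroupOf N from htM)))

end Cfsg.Agent.ProdFus42
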