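import Cfsg.Agent.ProdFus42.Hyp

/-!
# A Sylow 2-subgroup that is a product of two dihedral groups
-/

set_option autoImplicit false
set_option linter.style.haveILetI false
set_option linter.unusedSectionVars false

namespace Cfsg.Agent.ProdFus42

open Subgroup
open scoped Pointwise

variable {G : Type*} [Group G] [Finite G]

namespace DihLike

variable {S C : Subgroup G} (h : DihLike S C)
include h

/-- The involution of the cyclic part. -/
noncomputable def zed : G := h.exists_invol.choose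

theorem zed_mem : h.zed ∈ C := h.exists_invol.choose_spec.1

theorem zed_mem' : h.zed ∈ S := h.le h.zed_mem

theorem orderOf_zed : orderOf h.zed = 2 := h.exists_invol.choose_spec.2

theorem zed_ne_one : h.zed ≠ 1 := Involution.ne_one_of_orderOf h.orderOf_zed

theorem zed_sq : h.zed * h.zed = 1 := Involution.mul_self_of_orderOf h.orderOf_zed

theorem zed_comm {x : G} (hx : x ∈ S) : x * h.zed = h.zed * x :=
  h.central_cyclic_invol h.zed_mem h.orderOf_zed hx

theorem eq_zed {x : G} (hx : x ∈ C) (hx2 : x * x = 1) : x = 1 ∨ x = h.zed :=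
  or_iff_not_imp_left.mpr fun h1 =>
    h.unique hx h.zed_mem (Involution.orderOf_eq_two_iff'.mpr ⟨hx2, h1⟩) h.orderOf_zed

theorem refl_sq {r : G} (hr : r ∈ S) (hrC : r ∉ C) : r * r = 1 := h.sq r hr hrC

theorem refl_inv {r : G} (hr : r ∈ S) (hrC : r ∉ C) : r⁻¹ = r :=
  inv_eq_of_mul_eq_one_right (h.sq r hr hrC)

theorem refl_ne_one {r : G} (hrC : r ∉ C) : r ≠ 1 := fun e => hrC (e ▸ one_mem C)

theorem refl_ne_zed {r : G} (hrC : r ∉ C) : r ≠ h.zed := fun e => hrC (e ▸ h.zed_mem)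

theorem refl_mul_cyclic {r c : G} (hr : r ∈ S) (hrC : r ∉ C) (hc : c ∈ C) : r * c ∉ C :=
  fun h' => hrC (by simpa using mul_mem h' (inv_mem hc))

theorem cyclic_mul_refl {r c : G} (hrC : r ∉ C) (hc : c ∈ C) : c * r ∉ C :=
  fun h' => hrC (by simpa using mul_mem (inv_mem hc) h')

theorem zed_mul_refl {r : G} (hrC : r ∉ C) : h.zed * r ∉ C := h.cyclic_mul_refl hrC h.zed_mem

theorem refl_conj {r c : G} (hr : r ∈ S) (hrC : r ∉ C) (hc : c ∈ C) :
    c * r * c⁻¹ = c * c * r := by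
  have h1 := h.inverts hr hrC (inv_mem hc)
  rw [inv_inv, mul_inv_eq_iff_eq_mul] at h1
  rw [mul_assoc, h1, mul_assoc]

/-- The four-group of a reflection. -/
def V (r : G) : Subgroup G := Subgroup.closure {h.zed, r}

theorem mem_V {r : G} (hr : r ∈ S) (hrC : r ∉ C) {x : G} :
    x ∈ h.V r ↔ x = 1 ∨ x = h.zed ∨ x = r ∨ x = h.zed * r := by
  have hE : IsFourIn (Set.univ : Set G) (h.V r) := ⟨h.zed, r, trivial, trivial, trivial,
    h.orderOf_zed, Involution.orderOf_eq_two_iff'.mpr ⟨h.refl_sq hr hrC, h.refl_ne_one hrC⟩,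
    (h.zed_comm hr).symm, (h.refl_ne_zed hrC).symm, rfl⟩
  refine ⟨fun hx => ?_, ?_⟩
  · obtain ⟨u, v, -, -, -, -, -, -, -, -⟩ := hE.mem_iff_exists
    have hle : h.V r ≤
        { carrier := {x | x = 1 ∨ x = h.zed ∨ x = r ∨ x = h.zed * r}
          one_mem' := Or.inl rfl
          mul_mem' := by
            have hz := h.zed_sq
            have hr2 := h.refl_sq hr hrC
            have hc := h.zed_comm hr
            have r1 : ∀ w, h.zed * (h.zed * w) = w := fun w => by rw [← mul_assoc, hz, one_mul]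
            have r2 : ∀ w, r * (r * w) = w := fun w => by rw [← mul_assoc, hr2, one_mul]
            have r3 : ∀ w, r * (h.zed * w) = h.zed * (r * w) := fun w => by
              rw [← mul_assoc, hc, mul_assoc]
            rintro a b (rfl | rfl | rfl | rfl) (rfl | rfl | rfl | rfl) <;>
              simp [hz, hr2, hc, r1, r2, r3, mul_assoc]
          inv_mem' := by
            rintro a (rfl | rfl | rfl | rfl) <;>
              simp [Involution.inv_of_orderOf h.orderOf_zed, h.refl_inv hr hrC, mul_inv_rev,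
                h.zed_comm hr] } := (closure_le _).mpr (by rintro w (rfl | rfl) <;> simp)
    exact hle hx
  · rintro (rfl | rfl | rfl | rfl)
    · exact one_mem _
    · exact subset_closure (by simp)
    · exact subset_closure (by simp)
    · exact mul_mem (subset_closure (by simp)) (subset_closure (by simp))

theorem zed_mem_V (r : G) : h.zed ∈ h.V r := subset_closure (by simp)

theorem self_mem_V (r : G) : r ∈ h.V r := subset_closure (by simp)

theorem V_le {r : G} (hr : r ∈ S) : h.V r ≤ S := (closure_le _).mpr (by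
  rintro w (rfl | rfl)
  exacts [h.zed_mem', hr])

theorem sq_of_mem_V {r x : G} (hr : r ∈ S) (hrC : r ∉ C) (hx : x ∈ h.V r) : x * x = 1 := by
  rcases (h.mem_V hr hrC).mp hx with rfl | rfl | rfl | rfl
  · simp
  · exact h.zed_sq
  · exact h.refl_sq hr hrC
  · exact h.refl_sq (mul_mem h.zed_mem' hr) (h.zed_mul_refl hrC)

theorem mem_V_of_commute {r x : G} (hr : r ∈ S) (hrC : r ∉ C) (hx : x ∈ S)
    (hc : x * r = r * x) : x ∈ h.V r := by
  rw [h.mem_V hr hrC]
  by_cases hxC : x ∈ C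
  · have h1 := h.inverts hr hrC hxC
    rw [← hc, mul_inv_cancel_right, eq_inv_iff_mul_eq_one] at h1
    rcases h.eq_zed hxC h1 with h' | h' <;> simp [h']
  · have h1 : x * r ∈ C := h.mul x hx r hr hxC hrC
    have h2 : x * r * (x * r) = 1 := by
      calc x * r * (x * r) = x * (r * x) * r := by group
        _ = x * x * (r * r) := by rw [← hc]; group
        _ = 1 := by rw [h.refl_sq hx hxC, h.refl_sq hr hrC, one_mul]
    have e : x = x * r * r := by rw [mul_assoc, h.refl_sq hr hrC, mul_one]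
    rcases h.eq_zed h1 h2 with h' | h'
    · rw [h', one_mul] at e; exact Or.inr (Or.inr (Or.inl e))
    · rw [h'] at e; exact Or.inr (Or.inr (Or.inr e))

theorem V_comm {r x y : G} (hr : r ∈ S) (hrC : r ∉ C) (hx : x ∈ h.V r) (hy : y ∈ h.V r) :
    x * y = y * x := by
  have h1 := h.sq_of_mem_V hr hrC (mul_mem hx hy)
  have hxi : x⁻¹ = x := inv_eq_of_mul_eq_one_right (h.sq_of_mem_V hr hrC hx)
  have hyi : y⁻¹ = y := inv_eq_of_mul_eq_one_right (h.sq_of_mem_V hr hrC hy)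
  rw [← eq_inv_iff_mul_eq_one, mul_inv_rev, hxi, hyi] at h1
  exact h1

theorem V_congr {r r' : G} (hr : r ∈ S) (hrC : r ∉ C) (hr' : r' ∈ h.V r) (hr'C : r' ∉ C) :
    h.V r' = h.V r := by
  refine le_antisymm ((closure_le _).mpr ?_) ((closure_le _).mpr ?_)
  · rintro w (rfl | rfl)
    exacts [h.zed_mem_V r, hr']
  · rintro w (rfl | rfl)
    · exact h.zed_mem_V r'
    · rcases (h.mem_V hr hrC).mp hr' with e | e | e | e
      · exact absurd (e ▸ one_mem C) hr'C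
      · exact absurd (e ▸ h.zed_mem) hr'C
      · exact e ▸ h.self_mem_V r'
      · rw [show w = h.zed * r' by rw [e, ← mul_assoc, h.zed_sq, one_mul]]
        exact mul_mem (h.zed_mem_V r') (h.self_mem_V r')

theorem exists_gen : ∃ c ∈ C, ∀ x ∈ C, ∃ k : ℕ, c ^ k = x := by
  haveI := h.cyclic
  obtain ⟨g, hg⟩ := IsCyclic.exists_generator (α := C)
  refine ⟨g, g.2, fun x hx => ?_⟩
  obtain ⟨k, hk⟩ := mem_zpowers_iff.mp (hg ⟨x, hx⟩)
  obtain ⟨n, hn⟩ := (isOfFinOrder_of_finite g).mem_powers_iff_mem_zpowers.mpr ⟨k, hk⟩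
  exact ⟨n, congrArg Subtype.val hn⟩

theorem exists_tau (h4 : 4 ∣ Nat.card C) :
    ∃ t ∈ C, orderOf t = 4 ∧ t * t = h.zed ∧ ∀ r ∈ S, r ∉ C → t * r * t⁻¹ = h.zed * r := by
  haveI := h.cyclic
  obtain ⟨g, hg⟩ := IsCyclic.exists_ofOrder_eq_natCard (α := C)
  obtain ⟨j, hj⟩ := h4
  set t := (g : G) ^ j with ht
  have ho : orderOf t = 4 := by
    have hj0 : 0 < j := by
      have := Nat.card_pos (α := C)
      omega
    rw [ht, orderOf_pow' _ hj0.ne', Subgroup.orderOf_coe, hg, hj, Nat.gcd_eq_right (dvd_mul_left j 4),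
      Nat.mul_div_cancel _ hj0]
  have htC : t ∈ C := pow_mem g.2 j
  have h2 : orderOf (t * t) = 2 := by
    rw [← pow_two, orderOf_pow' _ two_ne_zero, ho]
    norm_num
  have hz := h.unique (mul_mem htC htC) h.zed_mem h2 h.orderOf_zed
  exact ⟨t, htC, ho, hz, fun r hr hrC => by rw [h.refl_conj hr hrC htC, hz]⟩

theorem exists_refl : ∃ r ∈ S, r ∉ C := h.out

theorem comm_of_two (h2 : Nat.card C = 2) {x y : G} (hx : x ∈ S) (hy : y ∈ S) : x * y = y * x := by
  obtain ⟨r, hr, hrC⟩ := h.out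
  have hall : ∀ w ∈ S, w ∈ h.V r := by
    intro w hw
    have hC : ∀ c ∈ C, c = 1 ∨ c = h.zed := fun c hc => h.eq_zed hc (by
      have := C.pow_mem hc 1
      haveI := Fintype.ofFinite C
      rw [← pow_two, ← h2]
      exact congrArg Subtype.val (pow_card_eq_one' (G := C) (x := ⟨c, hc⟩)))
    refine h.mem_V_of_commute hr hrC hw ?_
    by_cases hwC : w ∈ C
    · rcases hC w hwC with rfl | rfl
      · simp
      · exact (h.zed_comm hr).symm
    · have h1 := h.mul w hw r hr hwC hrC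
      have e : w = w * r * r := by rw [mul_assoc, h.refl_sq hr hrC, mul_one]
      rcases hC _ h1 with h' | h' <;> rw [h'] at e <;> rw [e]
      · simp
      · rw [mul_assoc, h.refl_sq hr hrC, mul_one, ← mul_assoc, h.zed_comm hr, mul_assoc,
          h.refl_sq hr hrC, mul_one]
  exact h.V_comm hr hrC (hall x hx) (hall y hy)

end DihLike

/-- A Sylow 2-subgroup with two dihedral factors. -/
structure DD (G : Type*) [Group G] where
  P : Sylow 2 G
  D₁ : Subgroup G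
  D₂ : Subgroup G
  C₁ : Subgroup G
  C₂ : Subgroup G
  dih₁ : DihLike D₁ C₁
  dih₂ : DihLike D₂ C₂
  le₁ : D₁ ≤ P
  le₂ : D₂ ≤ P
  comm : ∀ a ∈ D₁, ∀ b ∈ D₂, a * b = b * a
  disj : D₁ ⊓ D₂ = ⊥
  sup : D₁ ⊔ D₂ = P

namespace DD

/-- Exchange the factors. -/
def swap (D : DD G) : DD G where
  P := D.P
  D₁ := D.D₂
  D₂ := D.D₁
  C₁ := D.C₂
  C₂ := D.C₁
  dih₁ := D.dih₂
  dih₂ := D.dih₁
  le₁ := D.le₂
  le₂ := D.le₁
  comm := fun a ha b hb => (D.comm b hb a ha).symm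
  disj := by rw [inf_comm]; exact D.disj
  sup := by rw [sup_comm]; exact D.sup

variable (D : DD G)

/-- The two involutions of the cyclic parts. -/
noncomputable abbrev z₁ : G := D.dih₁.zed

/-- The second one. -/
noncomputable abbrev z₂ : G := D.dih₂.zed

theorem exists_coords {x : G} (hx : x ∈ (D.P : Subgroup G)) :
    ∃ ab : G × G, ab.1 ∈ D.D₁ ∧ ab.2 ∈ D.D₂ ∧ ab.1 * ab.2 = x := by
  have h : x ∈ (D.D₁ : Set G) * (D.D₂ : Set G) := by
    rw [← coe_mul_of_left_le_normalizer_right D.D₁ D.D₂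
      (le_trans (fun a ha => mem_centralizer_iff.mpr fun b hb => (D.comm a ha b hb).symm)
        (centralizer_le_normalizer _)), D.sup]
    exact hx
  obtain ⟨a, ha, b, hb, rfl⟩ := Set.mem_mul.mp h
  exact ⟨(a, b), ha, hb, rfl⟩

open Classical in
/-- The first coordinate. -/
noncomputable def fst (x : G) : G :=
  if hx : x ∈ (D.P : Subgroup G) then (D.exists_coords hx).choose.1 else 1

open Classical in
/-- The second coordinate. -/
noncomputable def snd (x : G) : G :=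
  if hx : x ∈ (D.P : Subgroup G) then (D.exists_coords hx).choose.2 else 1

variable {D}

theorem fst_mem {x : G} (hx : x ∈ (D.P : Subgroup G)) : D.fst x ∈ D.D₁ := by
  rw [fst, dif_pos hx]; exact (D.exists_coords hx).choose_spec.1

theorem snd_mem {x : G} (hx : x ∈ (D.P : Subgroup G)) : D.snd x ∈ D.D₂ := by
  rw [snd, dif_pos hx]; exact (D.exists_coords hx).choose_spec.2.1

theorem fst_mul_snd {x : G} (hx : x ∈ (D.P : Subgroup G)) : D.fst x * D.snd x = x := by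
  rw [fst, snd, dif_pos hx, dif_pos hx]; exact (D.exists_coords hx).choose_spec.2.2

theorem mul_mem_P {a b : G} (ha : a ∈ D.D₁) (hb : b ∈ D.D₂) : a * b ∈ (D.P : Subgroup G) :=
  mul_mem (D.le₁ ha) (D.le₂ hb)

theorem coords_eq {a b a' b' : G} (ha : a ∈ D.D₁) (hb : b ∈ D.D₂) (ha' : a' ∈ D.D₁)
    (hb' : b' ∈ D.D₂) (h : a * b = a' * b') : a = a' ∧ b = b' := by
  have h1 : a'⁻¹ * a ∈ D.D₁ ⊓ D.D₂ := mem_inf.mpr ⟨mul_mem (inv_mem ha') ha, by
    rw [show a'⁻¹ * a = b' * b⁻¹ by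
      rw [show a'⁻¹ * a = a'⁻¹ * (a * b) * b⁻¹ by group, h]; group]
    exact mul_mem hb' (inv_mem hb)⟩
  rw [D.disj, mem_bot, inv_mul_eq_one] at h1
  subst h1
  exact ⟨rfl, mul_left_cancel h⟩

theorem fst_eq {a b : G} (ha : a ∈ D.D₁) (hb : b ∈ D.D₂) : D.fst (a * b) = a :=
  (coords_eq (fst_mem (mul_mem_P ha hb)) (snd_mem (mul_mem_P ha hb)) ha hb
    (fst_mul_snd (mul_mem_P ha hb))).1

theorem snd_eq {a b : G} (ha : a ∈ D.D₁) (hb : b ∈ D.D₂) : D.snd (a * b) = b :=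
  (coords_eq (fst_mem (mul_mem_P ha hb)) (snd_mem (mul_mem_P ha hb)) ha hb
    (fst_mul_snd (mul_mem_P ha hb))).2

theorem fst_left {a : G} (ha : a ∈ D.D₁) : D.fst a = a := by
  simpa using fst_eq ha (one_mem D.D₂)

theorem snd_left {a : G} (ha : a ∈ D.D₁) : D.snd a = 1 := by
  simpa using snd_eq ha (one_mem D.D₂)

theorem fst_right {b : G} (hb : b ∈ D.D₂) : D.fst b = 1 := by
  simpa using fst_eq (one_mem D.D₁) hb

theorem snd_right {b : G} (hb : b ∈ D.D₂) : D.snd b = b := by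
  simpa using snd_eq (one_mem D.D₁) hb

theorem mul_coords {x y : G} (hx : x ∈ (D.P : Subgroup G)) (hy : y ∈ (D.P : Subgroup G)) :
    x * y = D.fst x * D.fst y * (D.snd x * D.snd y) := by
  conv_lhs => rw [← fst_mul_snd hx, ← fst_mul_snd hy]
  calc D.fst x * D.snd x * (D.fst y * D.snd y)
      = D.fst x * (D.snd x * D.fst y) * D.snd y := by group
    _ = D.fst x * (D.fst y * D.snd x) * D.snd y := by
        rw [D.comm _ (fst_mem hy) _ (snd_mem hx)]
    _ = _ := by group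

theorem fst_mul {x y : G} (hx : x ∈ (D.P : Subgroup G)) (hy : y ∈ (D.P : Subgroup G)) :
    D.fst (x * y) = D.fst x * D.fst y := by
  rw [mul_coords hx hy, fst_eq (mul_mem (fst_mem hx) (fst_mem hy)) (mul_mem (snd_mem hx) (snd_mem hy))]

theorem snd_mul {x y : G} (hx : x ∈ (D.P : Subgroup G)) (hy : y ∈ (D.P : Subgroup G)) :
    D.snd (x * y) = D.snd x * D.snd y := by
  rw [mul_coords hx hy, snd_eq (mul_mem (fst_mem hx) (fst_mem hy)) (mul_mem (snd_mem hx) (snd_mem hy))]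

theorem fst_one : D.fst (1 : G) = 1 := fst_left (one_mem _)

theorem snd_one : D.snd (1 : G) = 1 := snd_right (one_mem _)

theorem fst_inv {x : G} (hx : x ∈ (D.P : Subgroup G)) : D.fst x⁻¹ = (D.fst x)⁻¹ :=
  eq_inv_of_mul_eq_one_left (by rw [← fst_mul (inv_mem hx) hx, inv_mul_cancel, fst_one])

theorem snd_inv {x : G} (hx : x ∈ (D.P : Subgroup G)) : D.snd x⁻¹ = (D.snd x)⁻¹ :=
  eq_inv_of_mul_eq_one_left (by rw [← snd_mul (inv_mem hx) hx, inv_mul_cancel, snd_one])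

theorem ext_coords {x y : G} (hx : x ∈ (D.P : Subgroup G)) (hy : y ∈ (D.P : Subgroup G))
    (h₁ : D.fst x = D.fst y) (h₂ : D.snd x = D.snd y) : x = y := by
  rw [← fst_mul_snd hx, ← fst_mul_snd hy, h₁, h₂]

theorem commute_iff {x y : G} (hx : x ∈ (D.P : Subgroup G)) (hy : y ∈ (D.P : Subgroup G)) :
    x * y = y * x ↔ D.fst x * D.fst y = D.fst y * D.fst x ∧ D.snd x * D.snd y = D.snd y * D.snd x := by
  refine ⟨fun h => ⟨?_, ?_⟩, fun ⟨h₁, h₂⟩ => ?_⟩
  · rw [← fst_mul hx hy, h, fst_mul hy hx]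
  · rw [← snd_mul hx hy, h, snd_mul hy hx]
  · exact ext_coords (mul_mem hx hy) (mul_mem hy hx) (by rw [fst_mul hx hy, fst_mul hy hx, h₁])
      (by rw [snd_mul hx hy, snd_mul hy hx, h₂])

theorem sq_iff {x : G} (hx : x ∈ (D.P : Subgroup G)) :
    x * x = 1 ↔ D.fst x * D.fst x = 1 ∧ D.snd x * D.snd x = 1 := by
  refine ⟨fun h => ⟨?_, ?_⟩, fun ⟨h₁, h₂⟩ => ?_⟩
  · rw [← fst_mul hx hx, h, fst_one]
  · rw [← snd_mul hx hx, h, snd_one]
  · rw [mul_coords hx hx, h₁, h₂, one_mul]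

/-- The product of a subgroup of each factor. -/
def prod (D : DD G) (A B : Subgroup G) : Subgroup G where
  carrier := {x | x ∈ (D.P : Subgroup G) ∧ D.fst x ∈ A ∧ D.snd x ∈ B}
  one_mem' := ⟨one_mem _, by rw [fst_one]; exact one_mem _, by rw [snd_one]; exact one_mem _⟩
  mul_mem' := fun ⟨hx, h1, h2⟩ ⟨hy, k1, k2⟩ =>
    ⟨mul_mem hx hy, by rw [fst_mul hx hy]; exact mul_mem h1 k1,
      by rw [snd_mul hx hy]; exact mul_mem h2 k2⟩
  inv_mem' := fun ⟨hx, h1, h2⟩ =>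
    ⟨inv_mem hx, by rw [fst_inv hx]; exact inv_mem h1, by rw [snd_inv hx]; exact inv_mem h2⟩

theorem mem_prod {A B : Subgroup G} {x : G} :
    x ∈ D.prod A B ↔ x ∈ (D.P : Subgroup G) ∧ D.fst x ∈ A ∧ D.snd x ∈ B := Iff.rfl

theorem prod_le {A B : Subgroup G} : D.prod A B ≤ (D.P : Subgroup G) := fun _ h => h.1

theorem mul_mem_prod {A B : Subgroup G} (hA : A ≤ D.D₁) (hB : B ≤ D.D₂) {a b : G} (ha : a ∈ A)
    (hb : b ∈ B) : a * b ∈ D.prod A B :=
  mem_prod.mpr ⟨mul_mem_P (hA ha) (hB hb), by rwa [fst_eq (hA ha) (hB hb)],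
    by rwa [snd_eq (hA ha) (hB hb)]⟩

theorem left_le_prod {A B : Subgroup G} (hA : A ≤ D.D₁) : A ≤ D.prod A B := fun a ha =>
  mem_prod.mpr ⟨D.le₁ (hA ha), by rwa [fst_left (hA ha)], by rw [snd_left (hA ha)]; exact one_mem _⟩

theorem right_le_prod {A B : Subgroup G} (hB : B ≤ D.D₂) : B ≤ D.prod A B := fun b hb =>
  mem_prod.mpr ⟨D.le₂ (hB hb), by rw [fst_right (hB hb)]; exact one_mem _, by rwa [snd_right (hB hb)]⟩

theorem prod_top : D.prod D.D₁ D.D₂ = (D.P : Subgroup G) :=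
  le_antisymm prod_le fun _ hx => ⟨hx, fst_mem hx, snd_mem hx⟩

theorem fst_swap {x : G} (hx : x ∈ (D.P : Subgroup G)) : D.swap.fst x = D.snd x := by
  conv_lhs => rw [← fst_mul_snd hx, D.comm _ (fst_mem hx) _ (snd_mem hx)]
  exact fst_eq (D := D.swap) (snd_mem hx) (fst_mem hx)

theorem snd_swap {x : G} (hx : x ∈ (D.P : Subgroup G)) : D.swap.snd x = D.fst x := by
  conv_lhs => rw [← fst_mul_snd hx, D.comm _ (fst_mem hx) _ (snd_mem hx)]
  exact snd_eq (D := D.swap) (snd_mem hx) (fst_mem hx)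

theorem prod_swap (A B : Subgroup G) : D.swap.prod A B = D.prod B A := by
  ext x
  constructor
  · rintro ⟨hx, h1, h2⟩
    rw [fst_swap (D := D) hx] at h1
    rw [snd_swap (D := D) hx] at h2
    exact ⟨hx, h2, h1⟩
  · rintro ⟨hx, h1, h2⟩
    refine ⟨hx, ?_, ?_⟩
    · rw [fst_swap (D := D) hx]; exact h2
    · rw [snd_swap (D := D) hx]; exact h1

/-- The rank four subgroup of two reflections. -/
noncomputable def eSub (D : DD G) (r u : G) : Subgroup G := D.prod (D.dih₁.V r) (D.dih₂.V u)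

theorem eSub_swap (r u : G) : D.swap.eSub u r = D.eSub r u := prod_swap (D := D) _ _

/-- `r` and `u` are reflections. -/
def IsRefl (D : DD G) (r u : G) : Prop := (r ∈ D.D₁ ∧ r ∉ D.C₁) ∧ u ∈ D.D₂ ∧ u ∉ D.C₂

theorem IsRefl.swap {r u : G} (h : D.IsRefl r u) : D.swap.IsRefl u r := ⟨h.2, h.1⟩

theorem eSub_le {r u : G} : D.eSub r u ≤ (D.P : Subgroup G) := prod_le

theorem eSub_sq {r u : G} (h : D.IsRefl r u) {x : G} (hx : x ∈ D.eSub r u) : x * x = 1 :=
  (sq_iff hx.1).mpr ⟨D.dih₁.sq_of_mem_V h.1.1 h.1.2 hx.2.1, D.dih₂.sq_of_mem_V h.2.1 h.2.2 hx.2.2⟩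

theorem eSub_comm {r u : G} (h : D.IsRefl r u) {x y : G} (hx : x ∈ D.eSub r u)
    (hy : y ∈ D.eSub r u) : x * y = y * x :=
  (commute_iff hx.1 hy.1).mpr ⟨D.dih₁.V_comm h.1.1 h.1.2 hx.2.1 hy.2.1,
    D.dih₂.V_comm h.2.1 h.2.2 hx.2.2 hy.2.2⟩

theorem z₁_mem_eSub (r u : G) : D.z₁ ∈ D.eSub r u :=
  ⟨D.le₁ D.dih₁.zed_mem', by rw [fst_left D.dih₁.zed_mem']; exact D.dih₁.zed_mem_V r,
    by rw [snd_left D.dih₁.zed_mem']; exact one_mem _⟩

theorem z₂_mem_eSub (r u : G) : D.z₂ ∈ D.eSub r u := by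
  rw [← eSub_swap]; exact z₁_mem_eSub (D := D.swap) u r

theorem left_mem_eSub {r u : G} (h : D.IsRefl r u) : r ∈ D.eSub r u :=
  ⟨D.le₁ h.1.1, by rw [fst_left h.1.1]; exact D.dih₁.self_mem_V r,
    by rw [snd_left h.1.1]; exact one_mem _⟩

theorem mem_eSub_iff_commute {r u : G} (h : D.IsRefl r u) {x : G} (hx : x ∈ (D.P : Subgroup G)) :
    x ∈ D.eSub r u ↔ x * (r * u) = r * u * x := by
  have hru := mul_mem_P (D := D) h.1.1 h.2.1
  rw [commute_iff hx hru, fst_eq h.1.1 h.2.1, snd_eq h.1.1 h.2.1]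
  refine ⟨fun hx' => ⟨D.dih₁.V_comm h.1.1 h.1.2 hx'.2.1 (D.dih₁.self_mem_V r),
    D.dih₂.V_comm h.2.1 h.2.2 hx'.2.2 (D.dih₂.self_mem_V u)⟩, fun ⟨h₁, h₂⟩ => ?_⟩
  exact ⟨hx, D.dih₁.mem_V_of_commute h.1.1 h.1.2 (fst_mem hx) h₁,
    D.dih₂.mem_V_of_commute h.2.1 h.2.2 (snd_mem hx) h₂⟩

/-- Every element squaring to one lies in one of these subgroups. -/
theorem exists_eSub {x : G} (hx : x ∈ (D.P : Subgroup G)) (hx2 : x * x = 1) :
    ∃ r u, D.IsRefl r u ∧ x ∈ D.eSub r u := by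
  obtain ⟨h1, h2⟩ := (sq_iff hx).mp hx2
  have key : ∀ {S C : Subgroup G} (h : DihLike S C) {a : G}, a ∈ S → a * a = 1 →
      ∃ r ∈ S, r ∉ C ∧ a ∈ h.V r := by
    intro S C h a ha ha2
    by_cases haC : a ∈ C
    · obtain ⟨r, hr, hrC⟩ := h.out
      rcases h.eq_zed haC ha2 with rfl | rfl
      · exact ⟨r, hr, hrC, one_mem _⟩
      · exact ⟨r, hr, hrC, h.zed_mem_V r⟩
    · exact ⟨a, ha, haC, h.self_mem_V a⟩
  obtain ⟨r, hr, hrC, hr'⟩ := key D.dih₁ (fst_mem hx) h1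
  obtain ⟨u, hu, huC, hu'⟩ := key D.dih₂ (snd_mem hx) h2
  exact ⟨r, u, ⟨⟨hr, hrC⟩, hu, huC⟩, hx, hr', hu'⟩

/-- The centre of the Sylow subgroup. -/
theorem central_iff {x : G} (hx : x ∈ (D.P : Subgroup G)) :
    (∀ y ∈ (D.P : Subgroup G), x * y = y * x) ↔
      (∀ a ∈ D.D₁, D.fst x * a = a * D.fst x) ∧ ∀ b ∈ D.D₂, D.snd x * b = b * D.snd x := by
  refine ⟨fun h => ⟨fun a ha => ?_, fun b hb => ?_⟩, fun ⟨h₁, h₂⟩ y hy => ?_⟩
  · have := ((commute_iff hx (D.le₁ ha)).mp (h a (D.le₁ ha))).1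
    rwa [fst_left ha] at this
  · have := ((commute_iff hx (D.le₂ hb)).mp (h b (D.le₂ hb))).2
    rwa [snd_right hb] at this
  · exact (commute_iff hx hy).mpr ⟨h₁ _ (fst_mem hy), h₂ _ (snd_mem hy)⟩

theorem z₁_central {y : G} (hy : y ∈ (D.P : Subgroup G)) : D.z₁ * y = y * D.z₁ :=
  (central_iff (D.le₁ D.dih₁.zed_mem')).mpr
    ⟨fun a ha => by rw [fst_left D.dih₁.zed_mem']; exact (D.dih₁.zed_comm ha).symm,
      fun b _ => by rw [snd_left D.dih₁.zed_mem', one_mul, mul_one]⟩ y hy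

theorem fst_of_central (h4 : 4 ∣ Nat.card D.C₁) {x : G} (hx : x ∈ (D.P : Subgroup G))
    (hc : ∀ y ∈ (D.P : Subgroup G), x * y = y * x) : D.fst x = 1 ∨ D.fst x = D.z₁ := by
  obtain ⟨t, ht, hto, htt, htr⟩ := D.dih₁.exists_tau h4
  have h := ((central_iff hx).mp hc).1
  obtain ⟨r, hr, hrC⟩ := D.dih₁.out
  have hf := fst_mem hx
  rcases (D.dih₁.mem_V hr hrC).mp (D.dih₁.mem_V_of_commute hr hrC hf (h r hr)) with e | e | e | e
  · exact Or.inl e
  · exact Or.inr e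
  all_goals
    exfalso
    have hmem : D.fst x ∉ D.C₁ := by
      rw [e]
      first
        | exact hrC
        | exact D.dih₁.zed_mul_refl hrC
    have h1 := htr _ hf hmem
    rw [← h t (D.dih₁.le ht), mul_inv_cancel_right] at h1
    exact D.dih₁.zed_ne_one (mul_eq_right.mp h1.symm)

end DD

end Cfsg.Agent.ProdFus42
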