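import Cfsg.Agent.ProdFus42.DD.Classify

/-!
# The strongly closed factor generated by the conjugates of the central involution
-/

set_option autoImplicit false
set_option linter.style.haveILetI false
set_option linter.unusedSectionVars false

namespace Cfsg.Agent.ProdFus42.DD

open Subgroup
open Cfsg

variable {G : Type*} [Group G] [Finite G]

/-- `e` is conjugate to the central involution of the first factor. -/
def ConjZ (D : DD G) (e : G) : Prop := ∃ g, g * e * g⁻¹ = D.z₁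

variable {D : DD G}

theorem ConjZ.conj {e : G} (h : D.ConjZ e) (g : G) : D.ConjZ (g * e * g⁻¹) := by
  obtain ⟨k, hk⟩ := h
  exact ⟨k * g⁻¹, by rw [← hk]; group⟩

theorem ConjZ.sq {e : G} (h : D.ConjZ e) : e * e = 1 := by
  obtain ⟨k, hk⟩ := h
  rw [show e = k⁻¹ * D.z₁ * k by rw [← hk]; group,
    show k⁻¹ * D.z₁ * k * (k⁻¹ * D.z₁ * k) = k⁻¹ * (D.z₁ * D.z₁) * k by group, D.dih₁.zed_sq]
  group

theorem ConjZ.ne_one {e : G} (h : D.ConjZ e) : e ≠ 1 := fun h1 => by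
  obtain ⟨k, hk⟩ := h
  rw [h1, mul_one, mul_inv_cancel] at hk
  exact D.dih₁.zed_ne_one hk.symm

theorem ConjZ.orderOf {e : G} (h : D.ConjZ e) : orderOf e = 2 :=
  Involution.orderOf_eq_two_iff'.mpr ⟨h.sq, h.ne_one⟩

theorem conjZ_self : D.ConjZ D.z₁ := ⟨1, by simp⟩

theorem snd_pow {x : G} (hx : x ∈ (D.P : Subgroup G)) (k : ℕ) : D.snd (x ^ k) = D.snd x ^ k := by
  rw [← fst_swap (D := D) (pow_mem hx k), ← fst_swap (D := D) hx]
  exact fst_pow (D := D.swap) hx k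

/-- A factor. -/
structure Factor (D : DD G) (B₀ S : Subgroup G) : Prop where
  le : S ≤ (D.P : Subgroup G)
  iso : Nonempty (S ≃* DihedralGroup (Nat.card D.C₁))
  snd_mem : ∀ x ∈ S, D.snd x ∈ B₀
  surj : ∀ x ∈ D.D₁, ∃ y ∈ S, D.fst y = x
  inj : ∀ x ∈ S, D.fst x = 1 → x = 1
  zed_mem : D.z₁ ∈ S
  conj_mem : ∀ e ∈ (D.P : Subgroup G), D.ConjZ e → e ∈ S
  sc : IsStronglyClosed S (D.P : Subgroup G)

theorem exists_factor (h₁ : 4 ∣ Nat.card D.C₁) {B₀ : Subgroup G}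
    (hB₀ : ∀ u ∈ D.D₂, u ∉ D.C₂ → B₀ ≤ D.dih₂.V u)
    (hex : ∀ r ∈ D.D₁, r ∉ D.C₁ → ∃ e ∈ (D.P : Subgroup G), D.ConjZ e ∧ D.fst e = r)
    (huniq : ∀ e ∈ (D.P : Subgroup G), ∀ e' ∈ (D.P : Subgroup G), D.ConjZ e → D.ConjZ e' →
      D.fst e = D.fst e' → e = e')
    (hsnd : ∀ e ∈ (D.P : Subgroup G), D.ConjZ e →
      (e = D.z₁ ∨ D.fst e ∉ D.C₁) ∧ D.snd e ∈ B₀) :
    ∃ S, D.Factor B₀ S := by
  obtain ⟨u₀, hu₀, hu₀C⟩ := D.dih₂.out
  have hBD : B₀ ≤ D.D₂ := (hB₀ u₀ hu₀ hu₀C).trans (D.dih₂.V_le hu₀)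
  have hBsq : ∀ x ∈ B₀, x * x = 1 := fun x hx => D.dih₂.sq_of_mem_V hu₀ hu₀C (hB₀ u₀ hu₀ hu₀C hx)
  obtain ⟨g, hg, hgen⟩ := D.dih₁.exists_gen
  obtain ⟨s, hs, hsC⟩ := D.dih₁.out
  obtain ⟨a, haP, haZ, haf⟩ := hex s hs hsC
  have hg' : g⁻¹ * s ∉ D.C₁ := D.dih₁.cyclic_mul_refl hsC (inv_mem hg)
  obtain ⟨b, hbP, hbZ, hbf⟩ := hex (g⁻¹ * s) (mul_mem (D.dih₁.le (inv_mem hg)) hs) hg'
  set S := Subgroup.closure ({a, b} : Set G) with hS
  have haS : a ∈ S := subset_closure (by simp)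
  have hbS : b ∈ S := subset_closure (by simp)
  set K := D.prod D.D₁ B₀ with hK
  have hKP : ∀ e ∈ (D.P : Subgroup G), D.ConjZ e → e ∈ K := fun e he hz =>
    ⟨he, fst_mem he, (hsnd e he hz).2⟩
  have hSK : S ≤ K := (closure_le _).mpr (by
    rintro w (rfl | rfl); exacts [hKP _ haP haZ, hKP _ hbP hbZ])
  have hSP : S ≤ (D.P : Subgroup G) := hSK.trans prod_le
  set y := a * b with hy
  have hyP : y ∈ (D.P : Subgroup G) := mul_mem haP hbP
  have hyS : y ∈ S := mul_mem haS hbS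
  have hyf : D.fst y = g := by
    rw [hy, fst_mul haP hbP, haf, hbf, ← mul_assoc]
    have e := D.dih₁.inverts hs hsC (inv_mem hg)
    rwa [inv_inv, D.dih₁.refl_inv hs hsC] at e
  have hys : D.snd y * D.snd y = 1 := hBsq _ (hSK hyS).2.2
  have hgo : orderOf g = Nat.card D.C₁ := by
    refine dvd_antisymm (D.C₁.orderOf_dvd_natCard hg) ?_
    rw [← Nat.card_zpowers]
    exact card_dvd_of_le fun x hx => by
      obtain ⟨j, hj⟩ := hgen x hx
      exact ⟨j, by simpa using hj⟩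
  have hyo : orderOf y = Nat.card D.C₁ := by
    refine dvd_antisymm (orderOf_dvd_of_pow_eq_one ?_) ?_
    · obtain ⟨j, hj⟩ := dvd_trans (by norm_num : 2 ∣ 4) h₁
      refine ext_coords (pow_mem hyP _) (one_mem _) ?_ ?_
      · rw [fst_pow hyP, hyf, fst_one, ← hgo, pow_orderOf_eq_one]
      · rw [snd_pow hyP, snd_one, hj, pow_mul, pow_two, hys, one_pow]
    · rw [← hgo]
      refine orderOf_dvd_of_pow_eq_one ?_
      rw [← hyf, ← fst_pow hyP, pow_orderOf_eq_one, fst_one]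
  have hinj : ∀ x ∈ S, D.fst x = 1 → x = 1 := by
    intro x hx hx1
    obtain ⟨i, hi⟩ := (Involution.mem_closure_pair_involutions haZ.sq hbZ.sq).mp hx
    obtain ⟨n, hn⟩ := (isOfFinOrder_of_finite y).mem_powers_iff_mem_zpowers.mpr ⟨i, rfl⟩
    have hn : y ^ n = y ^ i := hn
    rw [← hy] at hi
    rw [← hn] at hi
    rcases hi with rfl | rfl
    · rw [fst_pow hyP, hyf] at hx1
      exact orderOf_dvd_iff_pow_eq_one.mp (hyo ▸ hgo ▸ orderOf_dvd_of_pow_eq_one hx1)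
    · exfalso
      rw [fst_mul haP (pow_mem hyP n), fst_pow hyP, hyf, haf] at hx1
      exact D.dih₁.refl_mul_cyclic hs hsC (pow_mem hg n) (hx1 ▸ one_mem _)
  have hfeq : ∀ x ∈ S, ∀ w ∈ S, D.fst x = D.fst w → x = w := fun x hx w hw h => by
    refine mul_inv_eq_one.mp (hinj _ (mul_mem hx (inv_mem hw)) ?_)
    rw [fst_mul (hSP hx) (inv_mem (hSP hw)), fst_inv (hSP hw), h, mul_inv_cancel]
  obtain ⟨t, ht, -, htt, -⟩ := D.dih₁.exists_tau h₁
  have hzS : D.z₁ ∈ S := by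
    obtain ⟨k, hk⟩ := hgen t ht
    have e : y ^ (2 * k) = D.z₁ := by
      refine ext_coords (pow_mem hyP _) (D.le₁ D.dih₁.zed_mem') ?_ ?_
      · rw [fst_pow hyP, hyf, fst_left D.dih₁.zed_mem', two_mul, pow_add, hk, htt]
      · rw [snd_pow hyP, snd_left D.dih₁.zed_mem', pow_mul, pow_two, hys, one_pow]
    exact e ▸ pow_mem hyS _
  have hcm : ∀ e ∈ (D.P : Subgroup G), D.ConjZ e → e ∈ S := by
    intro e he hz
    rcases (hsnd e he hz).1 with rfl | hf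
    · exact hzS
    have hfD := fst_mem (D := D) he
    obtain ⟨i, hi⟩ := hgen _ (D.dih₁.mul _ hfD s hs hf hsC)
    have hfe : D.fst e = g ^ i * s := by
      rw [hi, mul_assoc, D.dih₁.refl_sq hs hsC, mul_one]
    rcases Nat.even_or_odd i with ⟨j, rfl⟩ | ⟨j, rfl⟩
    · have hy' : y ^ j ∈ S := pow_mem hyS j
      refine huniq e he _ (hSP (mul_mem (mul_mem hy' haS) (inv_mem hy'))) hz (haZ.conj (y ^ j)) ?_
        ▸ mul_mem (mul_mem hy' haS) (inv_mem hy')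
      rw [fst_mul (mul_mem (pow_mem hyP j) haP) (inv_mem (pow_mem hyP j)),
        fst_mul (pow_mem hyP j) haP, fst_inv (pow_mem hyP j), fst_pow hyP, hyf, haf,
        D.dih₁.refl_conj hs hsC (pow_mem hg j), ← pow_add, hfe]
    · have hy' : y ^ (j + 1) ∈ S := pow_mem hyS _
      refine huniq e he _ (hSP (mul_mem (mul_mem hy' hbS) (inv_mem hy'))) hz
        (hbZ.conj (y ^ (j + 1))) ?_ ▸ mul_mem (mul_mem hy' hbS) (inv_mem hy')
      rw [fst_mul (mul_mem (pow_mem hyP _) hbP) (inv_mem (pow_mem hyP _)),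
        fst_mul (pow_mem hyP _) hbP, fst_inv (pow_mem hyP _), fst_pow hyP, hyf, hbf,
        D.dih₁.refl_conj (mul_mem (D.dih₁.le (inv_mem hg)) hs) hg' (pow_mem hg _), hfe,
        ← mul_assoc (g ^ (j + 1) * g ^ (j + 1)), ← pow_add,
        show j + 1 + (j + 1) = 2 * j + 1 + 1 by omega, pow_succ g (2 * j + 1), mul_inv_cancel_right]
  have hinv : ∀ w ∈ S, w * w = 1 → w = 1 ∨ D.ConjZ w := by
    intro w hw hw2
    by_cases hf : D.fst w ∈ D.C₁
    · rcases D.dih₁.eq_zed hf ((sq_iff (hSP hw)).mp hw2).1 with h | h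
      · exact Or.inl (hinj w hw h)
      · refine Or.inr ?_
        rw [hfeq w hw D.z₁ hzS (by rw [h, fst_left D.dih₁.zed_mem'])]
        exact conjZ_self
    · obtain ⟨e, he, hz, hef⟩ := hex _ (fst_mem (hSP hw)) hf
      rw [hfeq w hw e (hcm e he hz) hef.symm]
      exact Or.inr hz
  refine ⟨S, hSP, ?_, fun x hx => (hSK hx).2.2, ?_, hinj, hzS, hcm, hSP, ?_⟩
  · rw [← hyo]
    exact Involution.closure_pair_equiv_dihedral haZ.orderOf hbZ.orderOf
  · intro x hx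
    by_cases hxC : x ∈ D.C₁
    · obtain ⟨i, hi⟩ := hgen x hxC
      exact ⟨y ^ i, pow_mem hyS i, by rw [fst_pow hyP, hyf, hi]⟩
    · obtain ⟨e, he, hz, hef⟩ := hex x hx hxC
      exact ⟨e, hcm e he hz, hef⟩
  intro x hx n hn
  have h := fusion_induction D.P (fun v w => v ∈ S → w ∈ S) (fun _ h => h)
    (fun _ _ _ h h' hv => h' (h hv)) ?_ (g := n⁻¹) (hSP hx) (by simpa using hn) hx
  · simpa using h
  intro Q hQ v hv w hw hwS
  have hvQ : ∀ q ∈ Q, v⁻¹ * q * v ∈ Q := fun q hq => by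
    simpa using (mem_normalizer_iff.mp (inv_mem hv) q).mp hq
  obtain ⟨A, B, hA, hB, hQe⟩ := classify hQ
  have hB0 : B₀ ≤ B := by
    rcases hB with rfl | ⟨u, hu, huC, rfl⟩
    exacts [hBD, hB₀ u hu huC]
  rcases hA with rfl | ⟨r, hr, hrC, rfl⟩
  · have hSQ : S ≤ Q := fun x hx => by
      rw [hQe]
      exact ⟨hSP hx, fst_mem (hSP hx), hB0 (hSK hx).2.2⟩
    suffices h : S ≤ S.comap (MulAut.conj v⁻¹).toMonoidHom by
      have h1 : v⁻¹ * w * v⁻¹⁻¹ ∈ S := h hwS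
      rwa [inv_inv] at h1
    refine (closure_le _).mpr ?_
    rintro e he
    show v⁻¹ * e * v⁻¹⁻¹ ∈ S
    have hz : D.ConjZ e := by rcases he with rfl | rfl <;> assumption
    refine hcm _ (hQ.le ?_) (hz.conj v⁻¹)
    rw [inv_inv]
    exact hvQ e (hSQ (subset_closure he))
  · have hw' := hw
    rw [hQe] at hw'
    have hw2 : w * w = 1 :=
      (sq_iff hw'.1).mpr ⟨D.dih₁.sq_of_mem_V hr hrC hw'.2.1, hBsq _ (hSK hwS).2.2⟩
    rcases hinv w hwS hw2 with rfl | hz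
    · simp
    · refine hcm _ (hQ.le (hvQ w hw)) ?_
      simpa using hz.conj v⁻¹

end Cfsg.Agent.ProdFus42.DD
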