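import Cfsg.Agent.ProdFus42.DD.Propagate
import Cfsg.Agent.ProdFus42.DD.Factor
import Cfsg.Agent.ProdFus42.Assemble

/-!
# Two nonabelian dihedral factors
-/

set_option autoImplicit false
set_option linter.style.haveILetI false
set_option linter.unusedSectionVars false

namespace Cfsg.Agent.ProdFus42.DD

open Subgroup
open Cfsg

variable {G : Type*} [Group G] [Finite G] {D : DD G}

section
variable (h₁ : 4 ∣ Nat.card D.C₁) (h₂ : 4 ∣ Nat.card D.C₂)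
  (h2 : ∀ N : Subgroup G, N.Normal → N.index ≠ 2)
include h₁ h₂ h2

/-- The conjugates of `z₁` in a rank four subgroup. -/
theorem exists_three {r u : G} (hR : D.IsRefl r u) :
    ∃ c, D.ConjZ c ∧ D.ConjZ (D.z₁ * c) ∧ c ∈ D.eSub r u ∧ D.fst c ∉ D.C₁ ∧
      (D.snd c = 1 ∨ D.snd c = D.z₂) ∧
      ∀ e ∈ D.eSub r u, D.ConjZ e → e = D.z₁ ∨ e = c ∨ e = D.z₁ * c := by
  obtain ⟨t, ht, -, -, htr⟩ := D.dih₁.exists_tau h₁
  obtain ⟨t', ht', -, -, htr'⟩ := D.dih₂.exists_tau h₂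
  obtain ⟨n, hn, hc⟩ := moved_all h₁ h₂ h2 hR
  obtain ⟨hk, hkz, hcf, -⟩ := moved_centre ht htr (ne_z₂ h₁) hR hn hc
  obtain ⟨hs, hall⟩ := eq_of_conj_z₁ ht htr (ne_z₂ h₁) hR ht' htr' (ne_mul h₁)
    (moved_all (D := D.swap) h₂ h₁ h2 hR.swap) hn hc
  refine ⟨_, ⟨n⁻¹, by group⟩, ⟨(n * t * n⁻¹)⁻¹, ?_⟩, hk.centre_mem, hcf, hs,
    fun e he hz => hall e he hz⟩
  rw [← hkz]; group

theorem conjZ_form {e : G} (he : e ∈ (D.P : Subgroup G)) (hz : D.ConjZ e) :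
    (e = D.z₁ ∨ D.fst e ∉ D.C₁) ∧ D.snd e ∈ zpowers D.z₂ := by
  obtain ⟨r, u, hR, heE⟩ := exists_eSub he hz.sq
  obtain ⟨c, -, -, hcE, hcf, hs, hall⟩ := exists_three h₁ h₂ h2 hR
  have hz1 := D.le₁ D.dih₁.zed_mem'
  have hsc : D.snd c ∈ zpowers D.z₂ := by
    rcases hs with h | h <;> rw [h]
    exacts [one_mem _, mem_zpowers _]
  rcases hall e heE hz with h | h | h <;> rw [h]
  · exact ⟨Or.inl rfl, by rw [snd_left D.dih₁.zed_mem']; exact one_mem _⟩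
  · exact ⟨Or.inr hcf, hsc⟩
  · refine ⟨Or.inr ?_, ?_⟩
    · rw [fst_mul hz1 hcE.1, fst_left D.dih₁.zed_mem']
      exact D.dih₁.zed_mul_refl hcf
    · rw [snd_mul hz1 hcE.1, snd_left D.dih₁.zed_mem', one_mul]
      exact hsc

theorem conjZ_unique {e e' : G} (he : e ∈ (D.P : Subgroup G)) (he' : e' ∈ (D.P : Subgroup G))
    (hz : D.ConjZ e) (hz' : D.ConjZ e') (h : D.fst e = D.fst e') : e = e' := by
  obtain ⟨r, u, hR, heE⟩ := exists_eSub he hz.sq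
  have he'E : e' ∈ D.eSub r u :=
    ⟨he', h ▸ heE.2.1, zpowers_le.mpr (D.dih₂.zed_mem_V u) (conjZ_form h₁ h₂ h2 he' hz').2⟩
  obtain ⟨c, -, -, hcE, hcf, -, hall⟩ := exists_three h₁ h₂ h2 hR
  have hz1 := D.le₁ D.dih₁.zed_mem'
  have f1 : D.fst D.z₁ = D.z₁ := fst_left D.dih₁.zed_mem'
  have f2 : D.fst (D.z₁ * c) = D.z₁ * D.fst c := by rw [fst_mul hz1 hcE.1, f1]
  have n1 : D.fst c ≠ D.z₁ := D.dih₁.refl_ne_zed hcf
  have n2 : D.z₁ * D.fst c ≠ D.z₁ := fun k => hcf (by rw [mul_eq_left.mp k]; exact one_mem _)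
  have n3 : D.z₁ * D.fst c ≠ D.fst c := fun k => D.dih₁.zed_ne_one (mul_eq_right.mp k)
  rcases hall e heE hz with rfl | rfl | rfl <;> rcases hall e' he'E hz' with rfl | rfl | rfl <;>
    first
      | rfl
      | exact absurd (by simpa [f1, f2] using h) n1
      | exact absurd (by simpa [f1, f2] using h.symm) n1
      | exact absurd (by simpa [f1, f2] using h) n2
      | exact absurd (by simpa [f1, f2] using h.symm) n2
      | exact absurd (by simpa [f1, f2] using h) n3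

theorem exists_conjZ {r : G} (hr : r ∈ D.D₁) (hrC : r ∉ D.C₁) :
    ∃ e ∈ (D.P : Subgroup G), D.ConjZ e ∧ D.fst e = r := by
  obtain ⟨u, hu, huC⟩ := D.dih₂.out
  obtain ⟨c, hc, hc', hcE, hcf, -, -⟩ := exists_three h₁ h₂ h2 (r := r) (u := u) ⟨⟨hr, hrC⟩, hu, huC⟩
  rcases (D.dih₁.mem_V hr hrC).mp hcE.2.1 with h | h | h | h
  · exact absurd (h ▸ one_mem _) hcf
  · exact absurd (h ▸ D.dih₁.zed_mem) hcf
  · exact ⟨c, hcE.1, hc, h⟩
  · refine ⟨D.z₁ * c, mul_mem (D.le₁ D.dih₁.zed_mem') hcE.1, hc', ?_⟩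
    rw [fst_mul (D.le₁ D.dih₁.zed_mem') hcE.1, fst_left D.dih₁.zed_mem', h, ← mul_assoc,
      D.dih₁.zed_sq, one_mul]

theorem exists_factor_one : ∃ S, D.Factor (zpowers D.z₂) S :=
  exists_factor h₁ (fun u _ _ => zpowers_le.mpr (D.dih₂.zed_mem_V u))
    (fun _ hr hrC => exists_conjZ h₁ h₂ h2 hr hrC)
    (fun _ he _ he' hz hz' h => conjZ_unique h₁ h₂ h2 he he' hz hz' h)
    (fun _ he hz => conjZ_form h₁ h₂ h2 he hz)

/-- The factorisation of the Sylow subgroup. -/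
theorem exists_hyp : ∃ H : Hyp G, H.P = D.P ∧
    Nonempty (H.S₁ ≃* DihedralGroup (Nat.card D.C₁)) ∧
    Nonempty (H.S₂ ≃* DihedralGroup (Nat.card D.C₂)) := by
  obtain ⟨S₁, hS₁⟩ := exists_factor_one h₁ h₂ h2
  obtain ⟨S₂, hS₂⟩ := exists_factor_one (D := D.swap) h₂ h₁ h2
  have hP₂ : S₂ ≤ (D.P : Subgroup G) := hS₂.le
  have hz1 : ∀ x ∈ zpowers D.z₁, x = 1 ∨ x = D.z₁ := by
    intro x hx
    obtain ⟨r, hr, hrC⟩ := D.dih₁.out
    exact D.dih₁.eq_zed (zpowers_le.mpr D.dih₁.zed_mem hx)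
      (D.dih₁.sq_of_mem_V hr hrC (zpowers_le.mpr (D.dih₁.zed_mem_V r) hx))
  have hfz : ∀ x ∈ S₂, D.fst x = 1 ∨ D.fst x = D.z₁ := fun x hx =>
    hz1 _ (by rw [← snd_swap (D := D) (hP₂ hx)]; exact hS₂.snd_mem x hx)
  have hz2comm : ∀ x ∈ zpowers D.z₂, ∀ w ∈ D.D₂, x * w = w * x := fun x hx w hw =>
    (mem_centralizer_singleton_iff.mp
      (zpowers_le.mpr (mem_centralizer_singleton_iff.mpr (D.dih₂.zed_comm hw).symm) hx))
  have hpos₁ : 2 ≤ Nat.card D.C₁ := (Nat.le_of_dvd Nat.card_pos h₁).trans' (by norm_num)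
  have hpos₂ : 2 ≤ Nat.card D.C₂ := (Nat.le_of_dvd Nat.card_pos h₂).trans' (by norm_num)
  obtain ⟨-, -, -, C₁, hd₁⟩ := exists_dihLike (D.P.isPGroup'.to_le hS₁.le) hpos₁ hS₁.iso.some
  obtain ⟨-, -, -, C₂, hd₂⟩ := exists_dihLike (D.P.isPGroup'.to_le hP₂) hpos₂ hS₂.iso.some
  refine ⟨⟨D.P, S₁, S₂, C₁, C₂, hd₁, hd₂, hS₁.le, hP₂, ?_, ?_, ?_, hS₁.sc, hS₂.sc⟩, rfl,
    hS₁.iso, hS₂.iso⟩
  · intro a ha b hb
    refine (commute_iff (hS₁.le ha) (hP₂ hb)).mpr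
      ⟨?_, hz2comm _ (hS₁.snd_mem a ha) _ (snd_mem (hP₂ hb))⟩
    rcases hfz b hb with h | h <;> rw [h]
    · simp
    · exact D.dih₁.zed_comm (fst_mem (hS₁.le ha))
  · rw [eq_bot_iff]
    rintro x ⟨hx₁, hx₂⟩
    rw [mem_bot]
    rcases hfz x hx₂ with h | h
    · exact hS₁.inj x hx₁ h
    exfalso
    have e : x = D.z₁ := by
      refine mul_inv_eq_one.mp (hS₁.inj _ (mul_mem hx₁ (inv_mem hS₁.zed_mem)) ?_)
      rw [fst_mul (hS₁.le hx₁) (inv_mem (hS₁.le hS₁.zed_mem)), fst_inv (hS₁.le hS₁.zed_mem), h,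
        fst_left D.dih₁.zed_mem', mul_inv_cancel]
    refine D.dih₁.zed_ne_one (hS₂.inj D.z₁ (e ▸ hx₂) ?_)
    rw [fst_swap (D := D) (D.le₁ D.dih₁.zed_mem'), snd_left D.dih₁.zed_mem']
  · have hz2' : zpowers D.z₂ ≤ S₁ ⊔ S₂ := zpowers_le.mpr (mem_sup_right hS₂.zed_mem)
    have hz1' : zpowers D.z₁ ≤ S₁ ⊔ S₂ := zpowers_le.mpr (mem_sup_left hS₁.zed_mem)
    refine le_antisymm (sup_le hS₁.le hP₂) ?_
    rw [← D.sup]
    refine sup_le (fun x hx => ?_) (fun x hx => ?_)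
    · obtain ⟨y, hy, rfl⟩ := hS₁.surj x hx
      rw [eq_mul_inv_of_mul_eq (fst_mul_snd (hS₁.le hy))]
      exact mul_mem (mem_sup_left hy) (inv_mem (hz2' (hS₁.snd_mem y hy)))
    · obtain ⟨y, hy, rfl⟩ := hS₂.surj x hx
      have h' := hS₂.snd_mem y hy
      rw [snd_swap (D := D) (hP₂ hy)] at h'
      rw [fst_swap (D := D) (hP₂ hy), eq_inv_mul_of_mul_eq (fst_mul_snd (hP₂ hy))]
      exact mul_mem (inv_mem (hz1' h')) (mem_sup_right hy)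

end

end Cfsg.Agent.ProdFus42.DD
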