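import Cfsg.Agent.ProdFus42.DD.Propagate
import Cfsg.Agent.ProdFus42.DD.Factor
import Cfsg.Agent.ProdFus42.Assemble

/-!
# A nonabelian dihedral factor and a four-group
-/

set_option autoImplicit false
set_option linter.style.haveILetI false
set_option linter.unusedSectionVars false

namespace Cfsg.Agent.ProdFus42.DD

open Subgroup
open Cfsg
open scoped Pointwise

variable {G : Type*} [Group G] [Finite G]

/-- A central complement of `z₁`. -/
structure IsComp (D : DD G) (F : Subgroup G) : Prop where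
  le : F ≤ (D.P : Subgroup G)
  fst_mem : ∀ f ∈ F, D.fst f = 1 ∨ D.fst f = D.z₁
  zed_not : D.z₁ ∉ F
  cover : ∀ b ∈ D.D₂, b ∈ F ∨ D.z₁ * b ∈ F

variable {D : DD G}

open Cfsg.Agent.Thompson.Alperin in
theorem fullyIn_self_two (P : Sylow 2 G) : FullyIn 2 (P : Subgroup G) (P : Subgroup G) :=
  haveI := Fact.mk Nat.prime_two
  fullyIn_self P

theorem IsComp.inj {F : Subgroup G} (hF : D.IsComp F) {f f' : G} (hf : f ∈ F) (hf' : f' ∈ F)
    (h : D.snd f = D.snd f') : f = f' := by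
  have hm := mul_mem hf (inv_mem hf')
  have hs : D.snd (f * f'⁻¹) = 1 := by
    rw [snd_mul (hF.le hf) (inv_mem (hF.le hf')), snd_inv (hF.le hf'), h, mul_inv_cancel]
  rw [← mul_inv_eq_one]
  have e := fst_mul_snd (hF.le hm)
  rw [hs, mul_one] at e
  rcases hF.fst_mem _ hm with h1 | h1 <;> rw [h1] at e
  · exact e.symm
  · exact absurd (e ▸ hm) hF.zed_not

theorem IsComp.exists_snd {F : Subgroup G} (hF : D.IsComp F) {b : G} (hb : b ∈ D.D₂) :
    ∃ f ∈ F, D.snd f = b := by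
  rcases hF.cover b hb with h | h
  · exact ⟨b, h, snd_right hb⟩
  · exact ⟨_, h, snd_eq D.dih₁.zed_mem' hb⟩

section
variable (h₁ : 4 ∣ Nat.card D.C₁) (hC₂ : Nat.card D.C₂ = 2)
  (h2 : ∀ N : Subgroup G, N.Normal → N.index ≠ 2)
include h₁ hC₂

theorem central_of_fst {x : G} (hx : x ∈ (D.P : Subgroup G)) (hf : D.fst x = 1 ∨ D.fst x = D.z₁) :
    ∀ y ∈ (D.P : Subgroup G), x * y = y * x :=
  (central_iff hx).mpr ⟨fun a ha => by
    rcases hf with h | h <;> rw [h]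
    exacts [by simp, (D.dih₁.zed_comm ha).symm],
    fun b hb => D.dih₂.comm_of_two hC₂ (snd_mem hx) hb⟩

theorem D₂_central {b : G} (hb : b ∈ D.D₂) : ∀ y ∈ (D.P : Subgroup G), b * y = y * b :=
  central_of_fst h₁ hC₂ (D.le₂ hb) (Or.inl (fst_right hb))

theorem mem_eSub_right {r u b : G} (hR : D.IsRefl r u) (hb : b ∈ D.D₂) : b ∈ D.eSub r u :=
  ⟨D.le₂ hb, by rw [fst_right hb]; exact one_mem _,
    by rw [snd_right hb, V_eq_of_two hC₂ hR.2.1 hR.2.2]; exact hb⟩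

theorem eq_z₁ {e : G} (he : e ∈ (D.P : Subgroup G)) (hz : D.ConjZ e) (hf : D.fst e ∈ D.C₁) :
    e = D.z₁ := by
  obtain ⟨g, hg⟩ := hz
  refine not_conj_central h₁ (central_of_fst h₁ hC₂ he
    (D.dih₁.eq_zed hf ((sq_iff he).mp (ConjZ.sq ⟨g, hg⟩)).1)) (g := g⁻¹) ?_
  rw [← hg]; group

theorem odd_normalises_two {Q : Subgroup G} (hQ : GoodSub D.P Q) {x : G}
    (hx : x ∈ normalizer (Q : Set G)) (hodd : Odd (orderOf x)) {r u : G} (hR : D.IsRefl r u)
    (hle : D.eSub r u ≤ Q) : x ∈ normalizer (D.eSub r u : Set G) := by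
  obtain ⟨A, B, hA, hB, rfl⟩ := classify hQ
  have hBe : B = D.dih₂.V u := by
    rw [V_eq_of_two hC₂ hR.2.1 hR.2.2]
    rcases hB with rfl | ⟨v, hv, hvC, rfl⟩
    exacts [rfl, V_eq_of_two hC₂ hv hvC]
  subst hBe
  rcases hA with rfl | ⟨r₀, hr₀, hr₀C, rfl⟩
  · rw [← prod_swap] at hx hle
    rw [← eSub_swap] at hle ⊢
    exact odd_normalises_half (D := D.swap) h₁ hR.2.1 hR.2.2 hx hodd hle hR.swap
  · have heq : D.eSub r u = D.prod (D.dih₁.V r₀) (D.dih₂.V u) :=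
      eq_of_le_of_card_ge hle (by rw [card_eSub hR, ← eSub, card_eSub ⟨⟨hr₀, hr₀C⟩, hR.2⟩])
    rw [heq]; exact hx

include h2

theorem moved_two {r u : G} (hR : D.IsRefl r u) : D.Moved r u := by
  obtain ⟨t, ht, -, -, htr⟩ := D.dih₁.exists_tau h₁
  obtain ⟨u', hR', h⟩ := exists_moved h2 h₁ ht htr (ne_z₂ h₁)
    (fun Q hQ x hx hodd r' u' hR' hle => odd_normalises_two h₁ hC₂ hQ hx hodd hR' hle) hR.1.1 hR.1.2
  have e : D.eSub r u' = D.eSub r u := by
    rw [eSub, eSub, V_eq_of_two hC₂ hR'.2.1 hR'.2.2, V_eq_of_two hC₂ hR.2.1 hR.2.2]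
  rw [Moved, e] at h
  exact h

/-- The conjugates of `z₁` and the complement in a rank four subgroup. -/
theorem exists_local {r u : G} (hR : D.IsRefl r u) :
    ∃ c F, D.ConjZ c ∧ D.ConjZ (D.z₁ * c) ∧ c ∈ D.eSub r u ∧ D.fst c ∉ D.C₁ ∧
      (∀ e ∈ D.eSub r u, D.ConjZ e → e = D.z₁ ∨ e = c ∨ e = D.z₁ * c) ∧
      D.IsComp F ∧ ∀ v ∈ normalizer (D.eSub r u : Set G), ∀ f ∈ F, v * f * v⁻¹ ∈ F := by
  obtain ⟨t, ht, -, -, htr⟩ := D.dih₁.exists_tau h₁
  obtain ⟨hTt, hform⟩ := isTrans_tau ht htr hR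
  obtain ⟨n, hn, hnc⟩ := moved_two h₁ hC₂ h2 hR
  obtain ⟨hk, hkz, hcf, htc⟩ := moved_centre ht htr (ne_z₂ h₁) hR hn hnc
  set k := n * t * n⁻¹ with hkd
  set c := n * D.z₁ * n⁻¹ with hcd
  set E := D.eSub r u with hE
  set F := E ⊓ centralizer ({t, k} : Set G) with hF
  have memF : ∀ f, f ∈ F ↔ f ∈ E ∧ t * f * t⁻¹ = f ∧ k * f * k⁻¹ = f := fun f => by
    rw [hF, mem_inf, mem_centralizer_iff]
    simp only [Set.mem_insert_iff, Set.mem_singleton_iff, forall_eq_or_imp, forall_eq,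
      mul_inv_eq_iff_eq_mul]
  have hcE := hk.centre_mem
  have hz1E : D.z₁ ∈ E := z₁_mem_eSub r u
  have hzc : D.z₁ * c = c * D.z₁ := eSub_comm hR hz1E hcE
  have hc2 := eSub_sq hR hcE
  have hk3 : k * (D.z₁ * c) * k⁻¹ = D.z₁ := by
    rw [show k * (D.z₁ * c) * k⁻¹ = k * D.z₁ * k⁻¹ * (k * c * k⁻¹) by group, hkz, hk.fix, mul_assoc,
      hc2, mul_one]
  have hff : ∀ f ∈ F, D.fst f = 1 ∨ D.fst f = D.z₁ := fun f hf => by
    obtain ⟨hfE, hft, -⟩ := (memF f).mp hf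
    refine D.dih₁.eq_zed ?_ ((sq_iff hfE.1).mp (eSub_sq hR hfE)).1
    by_contra h
    rw [(hform f hfE).2 h] at hft
    exact D.dih₁.zed_ne_one (mul_eq_left.mp hft)
  have hcov : ∀ w ∈ E, D.fst w ∈ D.C₁ → w ∈ F ∨ D.z₁ * w ∈ F := by
    intro w hw hwf
    have h1 := (hform w hw).1 hwf
    rcases hk.cases w hw with h | h
    · exact Or.inl ((memF w).mpr ⟨hw, h1, h⟩)
    · refine Or.inr ((memF _).mpr ⟨mul_mem hz1E hw, ?_, ?_⟩)
      · refine (hform _ (mul_mem hz1E hw)).1 ?_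
        rw [fst_mul hz1E.1 hw.1, fst_left D.dih₁.zed_mem']
        exact mul_mem D.dih₁.zed_mem hwf
      · rw [show k * (D.z₁ * w) * k⁻¹ = k * D.z₁ * k⁻¹ * (k * w * k⁻¹) by group, h, hkz,
          mul_assoc, eSub_comm hR hcE (mul_mem hw hcE), mul_assoc w c c, hc2, mul_one]
  have hcomp : D.IsComp F := by
    refine ⟨fun f hf => ((memF f).mp hf).1.1, hff, fun h => ?_, fun b hb => ?_⟩
    · have := ((memF _).mp h).2.2
      rw [hkz] at this
      exact hk.centre_ne (mul_eq_left.mp this)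
    · exact hcov b (mem_eSub_right h₁ hC₂ hR hb) (by rw [fst_right hb]; exact one_mem _)
  have htc' : t * c * t⁻¹ = D.z₁ * c := htc.trans hzc.symm
  have hall : ∀ e ∈ E, D.ConjZ e → e = D.z₁ ∨ e = c ∨ e = D.z₁ * c := by
    intro e he hz
    by_cases hef : D.fst e ∈ D.C₁
    · exact Or.inl (eq_z₁ h₁ hC₂ he.1 hz hef)
    refine Or.inr ?_
    have hce := mul_mem hcE he
    have hcef : D.fst (c * e) ∈ D.C₁ := by
      rw [fst_mul hcE.1 he.1]; exact D.dih₁.mul _ (fst_mem hcE.1) _ (fst_mem he.1) hcf hef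
    obtain ⟨f, hfF, hfe⟩ : ∃ f ∈ F, e = c * f ∨ e = D.z₁ * c * f := by
      rcases hcov _ hce hcef with h | h
      · exact ⟨_, h, Or.inl (by rw [← mul_assoc, hc2, one_mul])⟩
      · refine ⟨_, h, Or.inr ?_⟩
        calc e = D.z₁ * D.z₁ * (c * c) * e := by rw [D.dih₁.zed_sq, hc2]; group
          _ = D.z₁ * (D.z₁ * c) * c * e := by group
          _ = D.z₁ * (c * D.z₁) * c * e := by rw [hzc]
          _ = _ := by group
    obtain ⟨hfE, hft, hfk⟩ := (memF f).mp hfF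
    obtain ⟨v, hv⟩ : ∃ v, v * e * v⁻¹ = D.z₁ * f := by
      rcases hfe with h | h
      · refine ⟨k * t, ?_⟩
        rw [h, show k * t * (c * f) * (k * t)⁻¹ = k * (t * c * t⁻¹) * k⁻¹ * (k * (t * f * t⁻¹) * k⁻¹)
          by group, htc', hk3, hft, hfk]
      · refine ⟨k, ?_⟩
        rw [h, show k * (D.z₁ * c * f) * k⁻¹ = k * (D.z₁ * c) * k⁻¹ * (k * f * k⁻¹) by group, hk3,
          hfk]
    have hzf : D.z₁ * f = D.z₁ := by
      refine eq_z₁ h₁ hC₂ (mul_mem hz1E.1 hfE.1) (hv ▸ hz.conj v) ?_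
      rw [fst_mul hz1E.1 hfE.1, fst_left D.dih₁.zed_mem']
      rcases hff f hfF with h | h <;> rw [h]
      · simpa using D.dih₁.zed_mem
      · exact mul_mem D.dih₁.zed_mem D.dih₁.zed_mem
    rw [mul_eq_left.mp hzf, mul_one, mul_one] at hfe
    exact hfe
  have hfixT : ∀ m ∈ normalizer (E : Set G), ∀ f ∈ F, m * t * m⁻¹ * f * (m * t * m⁻¹)⁻¹ = f := by
    intro m hm f hf
    obtain ⟨hfE, hft, hfk⟩ := (memF f).mp hf
    have hm' := hTt.conj_of_mem hm
    rcases hall _ hm'.centre_mem ⟨m⁻¹, by group⟩ with h | h | h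
    · have h' : IsTrans E (m * t * m⁻¹) D.z₁ := h ▸ hm'
      rw [sameAct_of_commute ht htr (ne_z₂ h₁) hR h' hTt (g₁ := m) (g₂ := 1) h (by simp) h'.fix
        hTt.fix f hfE]
      exact hft
    · have h' : IsTrans E (m * t * m⁻¹) c := h ▸ hm'
      rw [sameAct_of_commute ht htr (ne_z₂ h₁) hR h' hk (g₁ := m) (g₂ := n) h rfl h'.fix
        hk.fix f hfE]
      exact hfk
    · have h' : IsTrans E (m * t * m⁻¹) (D.z₁ * c) := h ▸ hm'
      have hk'' : IsTrans E (t * k * t⁻¹) (D.z₁ * c) := htc' ▸ hk.conj_of_mem hTt.mem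
      rw [sameAct_of_commute ht htr (ne_z₂ h₁) hR h' hk'' (g₁ := m) (g₂ := t * n) h
        (by rw [← htc', hcd]; group) h'.fix hk''.fix f hfE]
      have hti : t⁻¹ * f * t = f := by
        conv_lhs => rw [← hft]
        group
      rw [show t * k * t⁻¹ * f * (t * k * t⁻¹)⁻¹ = t * (k * (t⁻¹ * f * t) * k⁻¹) * t⁻¹ by group,
        hti, hfk, hft]
  refine ⟨c, F, ⟨n⁻¹, by rw [hcd]; group⟩, ⟨k, hk3⟩, hcE, hcf, hall, hcomp, fun v hv f hf => ?_⟩
  have hfE := ((memF f).mp hf).1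
  refine (memF _).mpr ⟨(mem_normalizer_iff.mp hv f).mp hfE, ?_, ?_⟩
  · have := hfixT v⁻¹ (inv_mem hv) f hf
    rw [show t * (v * f * v⁻¹) * t⁻¹ = v * (v⁻¹ * t * v⁻¹⁻¹ * f * (v⁻¹ * t * v⁻¹⁻¹)⁻¹) * v⁻¹ by group,
      this]
  · have := hfixT (v⁻¹ * n) (mul_mem (inv_mem hv) hn) f hf
    rw [show k * (v * f * v⁻¹) * k⁻¹ =
      v * (v⁻¹ * n * t * (v⁻¹ * n)⁻¹ * f * (v⁻¹ * n * t * (v⁻¹ * n)⁻¹)⁻¹) * v⁻¹ by
        rw [hkd]; group, this]

theorem exists_factor_two : ∃ S, D.Factor D.D₂ S := by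
  refine exists_factor h₁ (fun u hu huC => (V_eq_of_two hC₂ hu huC).ge) ?_ ?_ ?_
  · intro r hr hrC
    obtain ⟨u, hu, huC⟩ := D.dih₂.out
    obtain ⟨c, F, hc, hc', hcE, hcf, -⟩ :=
      exists_local h₁ hC₂ h2 (r := r) (u := u) ⟨⟨hr, hrC⟩, hu, huC⟩
    rcases (D.dih₁.mem_V hr hrC).mp hcE.2.1 with h | h | h | h
    · exact absurd (h ▸ one_mem _) hcf
    · exact absurd (h ▸ D.dih₁.zed_mem) hcf
    · exact ⟨c, hcE.1, hc, h⟩
    · refine ⟨D.z₁ * c, mul_mem (D.le₁ D.dih₁.zed_mem') hcE.1, hc', ?_⟩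
      rw [fst_mul (D.le₁ D.dih₁.zed_mem') hcE.1, fst_left D.dih₁.zed_mem', h, ← mul_assoc,
        D.dih₁.zed_sq, one_mul]
  · intro e he e' he' hz hz' h
    by_cases hf : D.fst e ∈ D.C₁
    · rw [eq_z₁ h₁ hC₂ he hz hf, eq_z₁ h₁ hC₂ he' hz' (h ▸ hf)]
    obtain ⟨u, hu, huC⟩ := D.dih₂.out
    have hR : D.IsRefl (D.fst e) u := ⟨⟨fst_mem he, hf⟩, hu, huC⟩
    have hm : ∀ w, w ∈ (D.P : Subgroup G) → D.fst w = D.fst e → w ∈ D.eSub (D.fst e) u :=
      fun w hw hwe => ⟨hw, hwe ▸ D.dih₁.self_mem_V _,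
        by rw [V_eq_of_two hC₂ hu huC]; exact snd_mem hw⟩
    obtain ⟨c, F, -, -, hcE, hcf, hall, -⟩ := exists_local h₁ hC₂ h2 hR
    have hz1 := D.le₁ D.dih₁.zed_mem'
    have f2 : D.fst (D.z₁ * c) = D.z₁ * D.fst c := by
      rw [fst_mul hz1 hcE.1, fst_left D.dih₁.zed_mem']
    have n3 : D.z₁ * D.fst c ≠ D.fst c := fun k => D.dih₁.zed_ne_one (mul_eq_right.mp k)
    have hne1 : ∀ w, D.fst w = D.fst e → w ≠ D.z₁ := fun w hw hwz => hf (by
      rw [← hw, hwz, fst_left D.dih₁.zed_mem']; exact D.dih₁.zed_mem)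
    rcases hall e (hm e he rfl) hz with k | k | k <;>
      rcases hall e' (hm e' he' h.symm) hz' with k' | k' | k'
    all_goals first
      | exact absurd k (hne1 e rfl)
      | exact absurd k' (hne1 e' h.symm)
      | exact k.trans k'.symm
      | (rw [k, k', f2] at h; exact absurd h.symm n3)
      | (rw [k, k', f2] at h; exact absurd h n3)
  · intro e he hz
    refine ⟨?_, snd_mem he⟩
    by_cases hf : D.fst e ∈ D.C₁
    exacts [Or.inl (eq_z₁ h₁ hC₂ he hz hf), Or.inr hf]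

/-- Some element of odd order of the normaliser of the Sylow subgroup moves its centre. -/
theorem exists_mover {S : Subgroup G} (hS : D.Factor D.D₂ S) :
    ∃ α ∈ normalizer ((D.P : Subgroup G) : Set G), Odd (orderOf α) ∧
      ∃ b ∈ D.D₂, α * b * α⁻¹ ≠ b := by
  by_contra hno
  push Not at hno
  obtain ⟨u, hu, huC⟩ := D.dih₂.out
  have hN : normalizer ((D.P : Subgroup G) : Set G) ≤ centralizer (D.D₂ : Set G) := by
    refine normalizer_le (fullyIn_self_two D.P) (fun y hy => mem_centralizer_iff.mpr fun b hb => ?_) fun x hx hodd =>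
      mem_centralizer_iff.mpr fun b hb => ?_
    · exact D₂_central h₁ hC₂ hb y hy.1
    · exact (mul_inv_eq_iff_eq_mul.mp (hno x hx hodd b hb)).symm
  -- conjugate central elements are equal
  have hfix : ∀ (v a : G), a ∈ (D.P : Subgroup G) → (D.fst a = 1 ∨ D.fst a = D.z₁) →
      v * a * v⁻¹ ∈ (D.P : Subgroup G) → (D.fst (v * a * v⁻¹) = 1 ∨ D.fst (v * a * v⁻¹) = D.z₁) →
      v * a * v⁻¹ = a := by
    intro v a ha haf hva hvaf
    obtain ⟨m, hm, hme⟩ := burnside D.P (A := {a}) (g := v)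
      (by rintro _ rfl y hy; exact central_of_fst h₁ hC₂ ha haf y hy)
      (by rintro _ rfl y hy; exact central_of_fst h₁ hC₂ hva hvaf y hy)
    rw [← hme a rfl]
    have e2 : m * D.snd a * m⁻¹ = D.snd a := by
      rw [← mem_centralizer_iff.mp (hN hm) _ (snd_mem ha), mul_inv_cancel_right]
    have e1 : m * D.fst a * m⁻¹ = D.fst a := by
      rcases haf with k | k <;> rw [k]
      exacts [by simp, z₁_fixed h₁ hm]
    conv_lhs => rw [← fst_mul_snd ha]
    rw [show m * (D.fst a * D.snd a) * m⁻¹ = m * D.fst a * m⁻¹ * (m * D.snd a * m⁻¹) by group, e1, e2,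
      fst_mul_snd ha]
  set M := S ⊔ zpowers D.z₂ with hM
  have hMmem : ∀ {w}, w ∈ M → ∃ s ∈ S, ∃ z ∈ zpowers D.z₂, s * z = w := by
    intro w hw
    have : w ∈ (S : Set G) * (zpowers D.z₂ : Set G) := by
      rw [← coe_mul_of_left_le_normalizer_right S (zpowers D.z₂) (le_trans
        (fun s hs => mem_centralizer_iff.mpr fun z hz =>
          D₂_central h₁ hC₂ (zpowers_le.mpr D.dih₂.zed_mem' hz) s (hS.le hs))
        (centralizer_le_normalizer _))]
      exact hw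
    obtain ⟨s, hs, z, hz, e⟩ := Set.mem_mul.mp this
    exact ⟨s, hs, z, hz, e⟩
  have hzM : D.z₂ ∈ M := mem_sup_right (mem_zpowers _)
  have huM : u ∉ M := by
    intro hmem
    obtain ⟨s, hs, z, hz, e⟩ := hMmem hmem
    have hz' : z ∈ D.D₂ := zpowers_le.mpr D.dih₂.zed_mem' hz
    have h0 : D.fst s = 1 := by
      have := congrArg D.fst e
      rwa [fst_mul (hS.le hs) (D.le₂ hz'), fst_right hz', fst_right hu, mul_one] at this
    rw [hS.inj s hs h0, one_mul] at e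
    exact huC (e ▸ zpowers_le.mpr D.dih₂.zed_mem hz)
  have hdec : ∀ a ∈ (D.P : Subgroup G), ∃ s ∈ S, D.fst s = D.fst a ∧ ∃ b ∈ D.D₂, a = s * b := by
    intro a ha
    obtain ⟨s, hs, hsa⟩ := hS.surj _ (fst_mem ha)
    refine ⟨s, hs, hsa, (D.snd s)⁻¹ * D.snd a, mul_mem (inv_mem (snd_mem (hS.le hs))) (snd_mem ha), ?_⟩
    calc a = D.fst a * D.snd a := (fst_mul_snd ha).symm
      _ = D.fst s * D.snd s * ((D.snd s)⁻¹ * D.snd a) := by rw [hsa]; group
      _ = _ := by rw [fst_mul_snd (hS.le hs)]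
  have hhalf : ∀ a ∈ (D.P : Subgroup G), a ∉ M → u * a ∈ M := by
    intro a ha haM
    obtain ⟨s, hs, -, b, hb, rfl⟩ := hdec a ha
    have hsM : s ∈ M := mem_sup_left hs
    rw [← V_eq_of_two hC₂ hu huC, D.dih₂.mem_V hu huC] at hb
    rcases hb with rfl | rfl | rfl | rfl
    · exact absurd (by simpa using hsM) haM
    · exact absurd (mul_mem hsM hzM) haM
    · rw [← mul_assoc, D₂_central h₁ hC₂ hu s (hS.le hs), mul_assoc, D.dih₂.refl_sq hu huC, mul_one]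
      exact hsM
    · rw [← mul_assoc, D₂_central h₁ hC₂ hu s (hS.le hs), mul_assoc, ← mul_assoc u,
        D.dih₂.zed_comm hu, mul_assoc, D.dih₂.refl_sq hu huC, mul_one]
      exact mul_mem hsM hzM
  classical
  let χ : (D.P : Subgroup G) →* Multiplicative (ZMod 2) :=
    MonoidHom.mk' (fun x => if (x : G) ∈ M then 1 else Multiplicative.ofAdd 1) fun x y => by
      simp only [Subgroup.coe_mul]
      by_cases hx : (x : G) ∈ M <;> by_cases hy : (y : G) ∈ M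
      · simp [hx, hy, mul_mem hx hy]
      · rw [if_pos hx, if_neg hy, if_neg fun h => hy (by simpa using mul_mem (inv_mem hx) h)]
        simp
      · rw [if_neg hx, if_pos hy, if_neg fun h => hx (by simpa using mul_mem h (inv_mem hy))]
        simp
      · rw [if_neg hx, if_neg hy, if_pos]
        · decide
        have := mul_mem (hhalf _ x.2 hx) (hhalf _ y.2 hy)
        rwa [D₂_central h₁ hC₂ hu _ x.2, mul_assoc, ← mul_assoc u u, D.dih₂.refl_sq hu huC,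
          one_mul] at this
  refine false_of_invariant h2 D.P χ ⟨⟨u, D.le₂ hu⟩, ?_⟩ ?_
  · simp only [χ, MonoidHom.mk'_apply]
    rw [if_neg huM]
    decide
  intro Q hQ x hx a ha haP hbP
  have hxQ : ∀ q ∈ Q, x⁻¹ * q * x ∈ Q := fun q hq => by
    simpa using (mem_normalizer_iff.mp (inv_mem hx) q).mp hq
  suffices h : a ∈ M ↔ x⁻¹ * a * x ∈ M by
    simp only [χ, MonoidHom.mk'_apply, h]
  obtain ⟨s, hs, hsa, b, hb, hab⟩ := hdec a haP
  obtain ⟨A, B, hA, hB, hQe⟩ := classify hQ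
  have hBe : B = D.D₂ := by
    rcases hB with rfl | ⟨v, hv, hvC, rfl⟩
    exacts [rfl, V_eq_of_two hC₂ hv hvC]
  subst hBe
  have hsQ : s ∈ Q := by
    have ha' := ha
    rw [hQe] at ha' ⊢
    exact ⟨hS.le hs, hsa ▸ ha'.2.1, snd_mem (hS.le hs)⟩
  have hs' : x⁻¹ * s * x ∈ S := by
    simpa using hS.sc.2 s hs x⁻¹ (by simpa using hQ.le (hxQ s hsQ))
  obtain ⟨i, hi, hbi⟩ : ∃ i ∈ S, x⁻¹ * b * x = i * b := by
    rcases hA with rfl | ⟨r, hr, hrC, rfl⟩
    · rw [prod_top] at hQe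
      subst hQe
      exact ⟨1, one_mem _, by
        rw [one_mul, mul_assoc, mem_centralizer_iff.mp (hN hx) b hb, inv_mul_cancel_left]⟩
    · obtain ⟨u₀, hu₀, hu₀C⟩ := D.dih₂.out
      have hR : D.IsRefl r u₀ := ⟨⟨hr, hrC⟩, hu₀, hu₀C⟩
      have hQE : Q = D.eSub r u₀ := by rw [hQe, eSub, V_eq_of_two hC₂ hu₀ hu₀C]
      obtain ⟨c, F, -, -, -, -, -, hF, hinv⟩ := exists_local h₁ hC₂ h2 hR
      have key : ∀ f ∈ F, x⁻¹ * f * x = f := fun f hf => by
        have h3 := hinv x⁻¹ (hQE ▸ inv_mem hx) f hf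
        simpa using hfix x⁻¹ f (hF.le hf) (hF.fst_mem f hf) (hF.le h3) (hF.fst_mem _ h3)
      rcases hF.cover b hb with hbF | hbF
      · exact ⟨1, one_mem _, by rw [key b hbF, one_mul]⟩
      · have hzQ : D.z₁ ∈ Q := hQE ▸ z₁_mem_eSub r u₀
        have hzS : x⁻¹ * D.z₁ * x ∈ S := by
          simpa using hS.sc.2 _ hS.zed_mem x⁻¹ (by simpa using hQ.le (hxQ _ hzQ))
        refine ⟨(x⁻¹ * D.z₁ * x)⁻¹ * D.z₁, mul_mem (inv_mem hzS) hS.zed_mem, ?_⟩
        calc x⁻¹ * b * x = (x⁻¹ * D.z₁ * x)⁻¹ * (x⁻¹ * (D.z₁ * b) * x) := by group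
          _ = (x⁻¹ * D.z₁ * x)⁻¹ * (D.z₁ * b) := by rw [key _ hbF]
          _ = _ := (mul_assoc _ _ _).symm
  have e : x⁻¹ * a * x = x⁻¹ * s * x * i * b := by
    rw [hab, mul_assoc (x⁻¹ * s * x), ← hbi]; group
  rw [e, hab]
  exact ⟨fun h => mul_mem (mem_sup_left (mul_mem hs' hi))
      ((inv_mul_cancel_left s b) ▸ mul_mem (inv_mem (mem_sup_left hs : s ∈ M)) h),
    fun h => mul_mem (mem_sup_left hs) ((inv_mul_cancel_left (x⁻¹ * s * x * i) b) ▸
      mul_mem (inv_mem (mem_sup_left (mul_mem hs' hi) : x⁻¹ * s * x * i ∈ M)) h)⟩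

omit h2 in
/-- Two invariant complements are equal. -/
theorem comp_le {F F' : Subgroup G} (hF : D.IsComp F) (hF' : D.IsComp F') {α : G}
    (hα : α ∈ normalizer ((D.P : Subgroup G) : Set G)) (hodd : Odd (orderOf α))
    (hm : ∀ f ∈ F, α * f * α⁻¹ ∈ F) (hm' : ∀ f ∈ F', α * f * α⁻¹ ∈ F')
    (hmove : ∃ b ∈ D.D₂, α * b * α⁻¹ ≠ b) : F ≤ F' := by
  classical
  by_contra hnot
  obtain ⟨f, hf, hf'⟩ := SetLike.not_le_iff_exists.mp hnot
  obtain ⟨u, hu, huC⟩ := D.dih₂.out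
  have hall : ∀ q ∈ D.D₂, q = 1 ∨ q = D.z₂ ∨ q = u ∨ q = D.z₂ * u := fun q hq => by
    rw [← V_eq_of_two hC₂ hu huC] at hq; exact (D.dih₂.mem_V hu huC).mp hq
  have hb := snd_mem (D := D) (hF.le hf)
  have hb1 : D.snd f ≠ 1 := fun h => hf' (by
    rw [hF.inj hf (one_mem F) (by rw [h, snd_one])]; exact one_mem F')
  have hz2u : D.z₂ * u ∈ D.D₂ := mul_mem D.dih₂.zed_mem' hu
  obtain ⟨b', hb', hb'1, hb'b⟩ : ∃ b' ∈ D.D₂, b' ≠ 1 ∧ b' ≠ D.snd f := by
    by_cases h : D.snd f = D.z₂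
    · exact ⟨u, hu, D.dih₂.refl_ne_one huC, h ▸ D.dih₂.refl_ne_zed huC⟩
    · exact ⟨D.z₂, D.dih₂.zed_mem', D.dih₂.zed_ne_one, Ne.symm h⟩
  obtain ⟨g, hg, hgb⟩ := hF.exists_snd hb'
  -- an element in both
  have hflip : ∀ q ∈ F, q ∉ F' → D.z₁ * q ∈ F' := by
    intro q hq hq'
    obtain ⟨q', hq'F, hq's⟩ := hF'.exists_snd (snd_mem (hF.le hq))
    rcases hF.fst_mem q hq with h | h <;> rcases hF'.fst_mem q' hq'F with h' | h'
    all_goals
      have e := fst_mul_snd (hF.le hq)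
      have e' := fst_mul_snd (hF'.le hq'F)
      rw [h] at e
      rw [h', hq's] at e'
    · exact absurd (e ▸ e'.symm ▸ hq'F) hq'
    · simp only [one_mul] at e
      rw [e] at e'
      exact e' ▸ hq'F
    · simp only [one_mul] at e'
      rw [← e, e', ← mul_assoc, D.dih₁.zed_sq, one_mul]
      exact hq'F
    · exact absurd (e ▸ e'.symm ▸ hq'F) hq'
  obtain ⟨w, hw, hw', hw1, hwb⟩ : ∃ w ∈ F, w ∈ F' ∧ D.snd w ≠ 1 ∧ D.snd w ≠ D.snd f := by
    by_cases h : g ∈ F'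
    · exact ⟨g, hg, h, hgb ▸ hb'1, hgb ▸ hb'b⟩
    · have h1 := mul_mem (hflip f hf hf') (hflip g hg h)
      have hs : D.snd (f * g) = D.snd f * b' := by rw [snd_mul (hF.le hf) (hF.le hg), hgb]
      refine ⟨f * g, mul_mem hf hg, ?_, ?_, ?_⟩
      · rwa [show D.z₁ * f * (D.z₁ * g) = D.z₁ * (f * D.z₁) * g by group,
          ← z₁_central (hF.le hf), ← mul_assoc, D.dih₁.zed_sq, one_mul] at h1
      · rw [hs]
        intro h2'
        have hsq : D.snd f * D.snd f = 1 := D.dih₂.sq_of_mem_V hu huC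
          (by rw [V_eq_of_two hC₂ hu huC]; exact hb)
        exact hb'b (mul_left_cancel (h2'.trans hsq.symm))
      · rw [hs]
        exact fun h2' => hb'1 (mul_eq_left.mp h2')
  set wb := D.snd w with hwbd
  have hwD : wb ∈ D.D₂ := snd_mem (hF.le hw)
  have hfour : ∀ q ∈ D.D₂, q = 1 ∨ q = wb ∨ q = D.snd f ∨ q = wb * D.snd f := by
    have hcard : Nat.card D.D₂ = 4 := by rw [← V_eq_of_two hC₂ hu huC, D.dih₂.card_V hu huC]
    haveI := Fintype.ofFinite D.D₂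
    let T : Finset D.D₂ := {1, ⟨wb, hwD⟩, ⟨D.snd f, hb⟩, ⟨wb * D.snd f, mul_mem hwD hb⟩}
    have hT : T = Finset.univ := by
      refine Finset.eq_univ_of_card T ?_
      rw [← Nat.card_eq_fintype_card, hcard]
      have a1 : wb * D.snd f ≠ 1 := fun h => hwb (by
        rw [mul_eq_one_iff_eq_inv.mp h, inv_eq_of_mul_eq_one_right (D.dih₂.sq_of_mem_V hu huC
          (by rw [V_eq_of_two hC₂ hu huC]; exact hb))])
      have a2 : wb * D.snd f ≠ wb := fun h => hb1 (mul_eq_left.mp h)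
      have a3 : wb * D.snd f ≠ D.snd f := fun h => hw1 (mul_eq_right.mp h)
      simp [T, Subtype.ext_iff, hw1.symm, hb1.symm, hwb, a1.symm, a2.symm, a3.symm]
    intro q hq
    have := Finset.mem_univ (⟨q, hq⟩ : D.D₂)
    rw [← hT] at this
    simpa [T, Subtype.ext_iff] using this
  have hFq : ∀ q ∈ F, q = 1 ∨ q = w ∨ q = f ∨ q = w * f := by
    intro q hq
    rcases hfour _ (snd_mem (hF.le hq)) with h | h | h | h
    · exact Or.inl (hF.inj hq (one_mem F) (h.trans snd_one.symm))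
    · exact Or.inr (Or.inl (hF.inj hq hw h))
    · exact Or.inr (Or.inr (Or.inl (hF.inj hq hf h)))
    · exact Or.inr (Or.inr (Or.inr (hF.inj hq (mul_mem hw hf)
        (by rw [h, snd_mul (hF.le hw) (hF.le hf)]))))
  have hαw : α * w * α⁻¹ = w := by
    rcases hFq _ (hm w hw) with h | h | h | h
    · have : w = 1 := by rwa [mul_inv_eq_one, mul_eq_left] at h
      exact absurd (by rw [hwbd, this, snd_one]) hw1
    · exact h
    · exact absurd (h ▸ hm' w hw') hf'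
    · exact absurd (inv_mul_cancel_left w f ▸ mul_mem (inv_mem hw') (h ▸ hm' w hw')) hf'
  have hαf : α * f * α⁻¹ = f ∨ α * f * α⁻¹ = w * f := by
    rcases hFq _ (hm f hf) with h | h | h | h
    · have : f = 1 := by rwa [mul_inv_eq_one, mul_eq_left] at h
      exact absurd (by rw [this, snd_one]) hb1
    · have : f = w := mul_left_cancel (mul_right_cancel (h.trans hαw.symm))
      exact absurd (this ▸ hw') hf'
    · exact Or.inl h
    · exact Or.inr h
  have hw2 : w * w = 1 := by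
    refine (sq_iff (hF.le hw)).mpr ⟨?_, D.dih₂.sq_of_mem_V hu huC
      (by rw [V_eq_of_two hC₂ hu huC]; exact hwD)⟩
    rcases hF.fst_mem w hw with h | h <;> rw [h]
    exacts [one_mul 1, D.dih₁.zed_sq]
  have hα2 : α * α * f * (α * α)⁻¹ = f := by
    rw [show α * α * f * (α * α)⁻¹ = α * (α * f * α⁻¹) * α⁻¹ by group]
    rcases hαf with h | h
    · rw [h, h]
    · rw [h, show α * (w * f) * α⁻¹ = α * w * α⁻¹ * (α * f * α⁻¹) by group, hαw, h, ← mul_assoc,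
        hw2, one_mul]
  have hαfix : α * f * α⁻¹ = f := by
    obtain ⟨k, hk⟩ := hodd
    have hc : α * α ∈ centralizer ({f} : Set G) :=
      mem_centralizer_singleton_iff.mpr (mul_inv_eq_iff_eq_mul.mp hα2)
    have h := pow_orderOf_eq_one α
    rw [hk, pow_succ, pow_mul, pow_two] at h
    have hαc : α ∈ centralizer ({f} : Set G) := by
      rw [eq_inv_of_mul_eq_one_right h]; exact inv_mem (pow_mem hc k)
    exact mul_inv_eq_iff_eq_mul.mpr (mem_centralizer_singleton_iff.mp hαc)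
  have hαF : ∀ q ∈ F, α * q * α⁻¹ = q := by
    intro q hq
    rcases hFq q hq with rfl | rfl | rfl | rfl
    · simp
    · exact hαw
    · exact hαfix
    · rw [show α * (w * f) * α⁻¹ = α * w * α⁻¹ * (α * f * α⁻¹) by group, hαw, hαfix]
  obtain ⟨b, hbD, hbne⟩ := hmove
  refine hbne ?_
  rcases hF.cover b hbD with h | h
  · exact hαF b h
  · calc α * b * α⁻¹ = (α * D.z₁ * α⁻¹)⁻¹ * (α * (D.z₁ * b) * α⁻¹) := by group
      _ = b := by rw [z₁_fixed h₁ hα, hαF _ h, inv_mul_cancel_left]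

/-- The factorisation of the Sylow subgroup. -/
theorem exists_hyp_two : ∃ H : Hyp G, H.P = D.P ∧
    Nonempty (H.S₁ ≃* DihedralGroup (Nat.card D.C₁)) ∧ Nonempty (H.S₂ ≃* DihedralGroup 2) := by
  obtain ⟨S, hS⟩ := exists_factor_two h₁ hC₂ h2
  obtain ⟨α, hα, hαodd, hαmove⟩ := exists_mover h₁ hC₂ h2 hS
  obtain ⟨r₀, hr₀, hr₀C⟩ := D.dih₁.out
  obtain ⟨u, hu, huC⟩ := D.dih₂.out
  have hR₀ : D.IsRefl r₀ u := ⟨⟨hr₀, hr₀C⟩, hu, huC⟩
  obtain ⟨c₀, F, -, -, -, -, -, hF, hFinv⟩ := exists_local h₁ hC₂ h2 hR₀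
  have hPmem : ∀ {r' u'}, D.IsRefl r' u' → ∀ {x}, x ∈ normalizer ((D.P : Subgroup G) : Set G) →
      Odd (orderOf x) → x ∈ normalizer (D.eSub r' u' : Set G) := fun hR x hx hodd =>
    odd_normalises_two h₁ hC₂ (GoodSub.self D.P) hx hodd hR eSub_le
  have hInvP : ∀ x ∈ normalizer ((D.P : Subgroup G) : Set G), ∀ f ∈ F, x * f * x⁻¹ ∈ F := by
    have h : normalizer ((D.P : Subgroup G) : Set G) ≤ normalizer (F : Set G) := by
      refine normalizer_le (fullyIn_self_two D.P) (fun y hy => mem_normalizer_of_conj_le fun f hf => ?_)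
        fun x hx hodd => mem_normalizer_of_conj_le (hFinv x (hPmem hR₀ hx hodd))
      rw [← central_of_fst h₁ hC₂ (hF.le hf) (hF.fst_mem f hf) y hy.1, mul_inv_cancel_right]
      exact hf
    exact fun x hx f hf => (mem_normalizer_iff.mp (h hx) f).mp hf
  have hsc : IsStronglyClosed F (D.P : Subgroup G) := by
    refine ⟨hF.le, fun x hx g hg => ?_⟩
    have h := fusion_induction D.P (fun v w => v ∈ F → w ∈ F) (fun _ h => h)
      (fun _ _ _ h h' hv => h' (h hv)) ?_ (g := g⁻¹) (hF.le hx) (by simpa using hg) hx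
    · simpa using h
    intro Q hQ v hv w hw hwF
    obtain ⟨A, B, hA, hB, hQe⟩ := classify hQ
    have hBe : B = D.D₂ := by
      rcases hB with rfl | ⟨v, hv, hvC, rfl⟩
      exacts [rfl, V_eq_of_two hC₂ hv hvC]
    subst hBe
    rcases hA with rfl | ⟨r, hr, hrC, rfl⟩
    · rw [prod_top] at hQe
      subst hQe
      simpa using hInvP v⁻¹ (inv_mem hv) w hwF
    · have hR : D.IsRefl r u := ⟨⟨hr, hrC⟩, hu, huC⟩
      have hQE : Q = D.eSub r u := by rw [hQe, eSub, V_eq_of_two hC₂ hu huC]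
      obtain ⟨c, F', -, -, -, -, -, hF', hF'inv⟩ := exists_local h₁ hC₂ h2 hR
      have hm := hFinv α (hPmem hR₀ hα hαodd)
      have hm' := hF'inv α (hPmem hR hα hαodd)
      have heq : F = F' := le_antisymm (comp_le h₁ hC₂ hF hF' hα hαodd hm hm' hαmove)
        (comp_le h₁ hC₂ hF' hF hα hαodd hm' hm hαmove)
      rw [heq] at hwF ⊢
      simpa using hF'inv v⁻¹ (hQE ▸ inv_mem hv) w hwF
  obtain ⟨f, hf, hfs⟩ := hF.exists_snd D.dih₂.zed_mem'
  obtain ⟨f', hf', hf's⟩ := hF.exists_snd hu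
  have hFsq : ∀ q ∈ F, q * q = 1 := fun q hq => (sq_iff (hF.le hq)).mpr ⟨by
      rcases hF.fst_mem q hq with h | h <;> rw [h]
      exacts [one_mul 1, D.dih₁.zed_sq],
    D.dih₂.sq_of_mem_V hu huC (by rw [V_eq_of_two hC₂ hu huC]; exact snd_mem (hF.le hq))⟩
  have hord : ∀ q ∈ F, D.snd q ≠ 1 → orderOf q = 2 := fun q hq h =>
    Involution.orderOf_eq_two_iff'.mpr ⟨hFsq q hq, fun e => h (by rw [e, snd_one])⟩
  have hFgen : F = Subgroup.closure ({f, f'} : Set G) := by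
    refine le_antisymm (fun q hq => ?_) ((closure_le _).mpr (by
      rintro w (rfl | rfl); exacts [hf, hf']))
    have hq' := snd_mem (D := D) (hF.le hq)
    rw [← V_eq_of_two hC₂ hu huC, D.dih₂.mem_V hu huC] at hq'
    rcases hq' with h | h | h | h
    · rw [hF.inj hq (one_mem F) (h.trans snd_one.symm)]; exact one_mem _
    · rw [hF.inj hq hf (h.trans hfs.symm)]; exact subset_closure (by simp)
    · rw [hF.inj hq hf' (h.trans hf's.symm)]; exact subset_closure (by simp)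
    · rw [hF.inj hq (mul_mem hf hf') (by rw [h, snd_mul (hF.le hf) (hF.le hf'), hfs, hf's])]
      exact mul_mem (subset_closure (by simp)) (subset_closure (by simp))
  have hiso : Nonempty (F ≃* DihedralGroup 2) := by
    have h := Involution.closure_pair_equiv_dihedral
      (hord f hf (by rw [hfs]; exact D.dih₂.zed_ne_one))
      (hord f' hf' (by rw [hf's]; exact D.dih₂.refl_ne_one huC))
    rw [hord (f * f') (mul_mem hf hf') (by
      rw [snd_mul (hF.le hf) (hF.le hf'), hfs, hf's]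
      exact D.dih₂.refl_ne_one (D.dih₂.zed_mul_refl huC))] at h
    rwa [hFgen]
  have hpos : 2 ≤ Nat.card D.C₁ := (Nat.le_of_dvd Nat.card_pos h₁).trans' (by norm_num)
  obtain ⟨-, -, -, C₁, hd₁⟩ := exists_dihLike (D.P.isPGroup'.to_le hS.le) hpos hS.iso.some
  obtain ⟨-, -, -, C₂, hd₂⟩ := exists_dihLike (D.P.isPGroup'.to_le hF.le) le_rfl hiso.some
  refine ⟨⟨D.P, S, F, C₁, C₂, hd₁, hd₂, hS.le, hF.le, ?_, ?_, ?_, hS.sc, hsc⟩, rfl, hS.iso, hiso⟩
  · intro a ha b hb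
    exact (central_of_fst h₁ hC₂ (hF.le hb) (hF.fst_mem b hb) a (hS.le ha)).symm
  · rw [eq_bot_iff]
    rintro x ⟨hxS, hxF⟩
    rw [mem_bot]
    rcases hF.fst_mem x hxF with h | h
    · exact hS.inj x hxS h
    exfalso
    refine hF.zed_not ?_
    have e : x = D.z₁ := by
      refine mul_inv_eq_one.mp (hS.inj _ (mul_mem hxS (inv_mem hS.zed_mem)) ?_)
      rw [fst_mul (hS.le hxS) (inv_mem (hS.le hS.zed_mem)), fst_inv (hS.le hS.zed_mem), h,
        fst_left D.dih₁.zed_mem', mul_inv_cancel]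
    exact e ▸ hxF
  · refine le_antisymm (sup_le hS.le hF.le) ?_
    have h2' : D.D₂ ≤ S ⊔ F := fun b hb => by
      rcases hF.cover b hb with h | h
      · exact mem_sup_right h
      · rw [show b = D.z₁⁻¹ * (D.z₁ * b) by group]
        exact mul_mem (inv_mem (mem_sup_left hS.zed_mem)) (mem_sup_right h)
    rw [← D.sup]
    refine sup_le (fun x hx => ?_) h2'
    obtain ⟨y, hy, rfl⟩ := hS.surj x hx
    rw [eq_mul_inv_of_mul_eq (fst_mul_snd (hS.le hy))]
    exact mul_mem (mem_sup_left hy) (inv_mem (h2' (snd_mem (hS.le hy))))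

end

end Cfsg.Agent.ProdFus42.DD
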