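import Cfsg.Agent.ProdFus42.DD.Fusion
import Cfsg.Agent.Lib.PGroup.Basic

/-!
# The good subgroups of a product of two dihedral groups
-/

set_option autoImplicit false
set_option linter.style.haveILetI false
set_option linter.unusedSectionVars false

namespace Cfsg.Agent.ProdFus42.DD

open Subgroup

variable {G : Type*} [Group G] [Finite G] {D : DD G}

theorem fst_pow {x : G} (hx : x ∈ (D.P : Subgroup G)) (k : ℕ) : D.fst (x ^ k) = D.fst x ^ k := by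
  induction k with
  | zero => simp [fst_one]
  | succ k ih => rw [pow_succ, pow_succ, fst_mul (pow_mem hx k) hx, ih]

variable {Q : Subgroup G} (hQ : GoodSub D.P Q)
include hQ

theorem mem_of_centralizes {y : G} (hy : y ∈ (D.P : Subgroup G)) (h : ∀ q ∈ Q, y * q = q * y) :
    y ∈ Q :=
  hQ.good.1 ⟨hy, mem_centralizer_iff.mpr fun q hq => (h q hq).symm⟩

theorem z₁_mem : D.z₁ ∈ Q :=
  mem_of_centralizes hQ (D.le₁ D.dih₁.zed_mem') fun q hq => z₁_central (hQ.le hq)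

/-- The squares of `Q`. -/
private def sqs (Q : Subgroup G) : Subgroup G := Subgroup.closure ((fun q => q * q) '' (Q : Set G))

theorem dihedral_le (hC : D.C₁ ≤ Q) : D.D₁ ≤ Q := by
  haveI := Fact.mk Nat.prime_two
  suffices key : ∀ r ∈ D.D₁, r ∉ D.C₁ → r ∈ Q by
    intro x hx
    by_cases hxC : x ∈ D.C₁
    · exact hC hxC
    · exact key x hx hxC
  intro r hr hrC
  set Φ := sqs Q with hΦ
  have hΦQ : Φ ≤ Q := (closure_le _).mpr (by rintro _ ⟨q, hq, rfl⟩; exact mul_mem hq hq)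
  have hΦn : ∀ n ∈ normalizer (Q : Set G), ∀ w ∈ Φ, n * w * n⁻¹ ∈ Φ := by
    intro n hn w hw
    suffices Φ ≤ Φ.comap (MulAut.conj n).toMonoidHom from this hw
    refine (closure_le _).mpr ?_
    rintro _ ⟨q, hq, rfl⟩
    exact subset_closure ⟨n * q * n⁻¹, (mem_normalizer_iff.mp hn q).mp hq, by simp [mul_assoc]⟩
  let M : Subgroup G :=
    { carrier := {n | n ∈ normalizer (Q : Set G) ∧ ∀ q ∈ Q, n * q * n⁻¹ * q⁻¹ ∈ Φ}
      one_mem' := ⟨one_mem _, fun q _ => by simp⟩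
      mul_mem' := by
        rintro a b ⟨ha, ha'⟩ ⟨hb, hb'⟩
        refine ⟨mul_mem ha hb, fun q hq => ?_⟩
        rw [show a * b * q * (a * b)⁻¹ * q⁻¹ =
          a * (b * q * b⁻¹ * q⁻¹) * a⁻¹ * (a * q * a⁻¹ * q⁻¹) by group]
        exact mul_mem (hΦn a ha _ (hb' q hq)) (ha' q hq)
      inv_mem' := by
        rintro a ⟨ha, ha'⟩
        refine ⟨inv_mem ha, fun q hq => ?_⟩
        rw [show a⁻¹ * q * a⁻¹⁻¹ * q⁻¹ = a⁻¹ * (a * q * a⁻¹ * q⁻¹)⁻¹ * a⁻¹⁻¹ by group]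
        exact hΦn _ (inv_mem ha) _ (inv_mem (ha' q hq)) }
  refine mem_of_subnormal hQ (L := normalizer (Q : Set G)) (M := M) le_rfl le_normalizer
    (fun n hn => hn.1) ?_ ?_ (D.le₁ hr) ⟨?_, ?_⟩
  · refine Coprime.le_normalizer_of_conj_mem fun n hn a ha => ?_
    refine ⟨mul_mem (mul_mem hn ha.1) (inv_mem hn), fun q hq => ?_⟩
    have hq' : n⁻¹ * q * n ∈ Q := by simpa using (mem_normalizer_iff.mp (inv_mem hn) q).mp hq
    rw [show n * a * n⁻¹ * q * (n * a * n⁻¹)⁻¹ * q⁻¹ =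
      n * (a * (n⁻¹ * q * n) * a⁻¹ * (n⁻¹ * q * n)⁻¹) * n⁻¹ by group]
    exact hΦn n hn _ (ha.2 _ hq')
  · intro m hm
    obtain ⟨k, j, hj, hkj⟩ := Nat.exists_eq_two_pow_mul_odd (orderOf_pos m).ne'
    refine ⟨k, ?_⟩
    set o := m ^ 2 ^ k with ho
    have hoo : orderOf o = j := by
      rw [ho, orderOf_pow' m (by positivity), hkj, Nat.gcd_eq_right (dvd_mul_right _ _),
        Nat.mul_div_cancel_left _ (by positivity)]
    have hzM : zpowers o ≤ M := zpowers_le.mpr (pow_mem hm _)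
    obtain ⟨i, hi⟩ := IsPGroup.iff_card.mp
      ((D.P.isPGroup'.to_le hQ.le).to_subgroup (frattini Q))
    have hA := Coprime.le_centralizer_of_frattini (zpowers o) Q (fun a ha => (hzM ha).1)
      (by rw [Nat.card_zpowers, hoo, hi]; exact (Nat.coprime_two_right.mpr hj).pow_right i)
      (fun a ha q hq => by
        have h := (hzM ha).2 q hq
        refine (closure_le _).mpr ?_ h
        rintro _ ⟨w, hw, rfl⟩
        exact ⟨⟨w, hw⟩ ^ 2, PGroup.pow_mem_frattini (D.P.isPGroup'.to_le hQ.le) _,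
          by simp [pow_two]⟩)
    exact hA (mem_zpowers o)
  · refine mem_normalizer_iff.mpr fun q => ?_
    have key : ∀ q ∈ Q, r * q * r⁻¹ ∈ Q := by
      intro q hq
      have hqP := hQ.le hq
      have hrc : r * D.snd q = D.snd q * r := D.comm r hr _ (snd_mem hqP)
      have h1 : r * q * r⁻¹ = r * D.fst q * r⁻¹ * (D.fst q)⁻¹ * q := by
        conv_lhs => rw [← fst_mul_snd hqP]
        conv_rhs => arg 2; rw [← fst_mul_snd hqP]
        calc r * (D.fst q * D.snd q) * r⁻¹ = r * D.fst q * (D.snd q * r⁻¹) := by group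
          _ = r * D.fst q * (r⁻¹ * D.snd q) := by rw [(Commute.inv_left hrc).eq]
          _ = _ := by group
      rw [h1]
      refine mul_mem (hC ?_) hq
      by_cases hf : D.fst q ∈ D.C₁
      · rw [D.dih₁.inverts hr hrC hf]; exact mul_mem (inv_mem hf) (inv_mem hf)
      · have h2 := D.dih₁.mul r hr _ (fst_mem hqP) hrC hf
        rw [D.dih₁.refl_inv hr hrC, D.dih₁.refl_inv (fst_mem hqP) hf,
          show r * D.fst q * r * D.fst q = r * D.fst q * (r * D.fst q) by group]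
        exact mul_mem h2 h2
    refine ⟨key q, fun h => ?_⟩
    have h2 := key _ h
    rw [D.dih₁.refl_inv hr hrC] at h2
    have e : r * (r * q * r) * r = q := by
      rw [show r * (r * q * r) * r = r * r * q * (r * r) by group, D.dih₁.refl_sq hr hrC, one_mul,
        mul_one]
    rwa [e] at h2
  · intro q hq
    have hqP := hQ.le hq
    have hsq : r * q * r⁻¹ * q⁻¹ = r * D.fst q * r⁻¹ * (D.fst q)⁻¹ := by
      conv_lhs => rw [← fst_mul_snd hqP]
      calc r * (D.fst q * D.snd q) * r⁻¹ * (D.fst q * D.snd q)⁻¹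
          = r * D.fst q * (D.snd q * r⁻¹) * (D.snd q)⁻¹ * (D.fst q)⁻¹ := by group
        _ = r * D.fst q * (r⁻¹ * D.snd q) * (D.snd q)⁻¹ * (D.fst q)⁻¹ := by
            rw [(Commute.inv_left (D.comm r hr _ (snd_mem hqP))).eq]
        _ = _ := by group
    rw [hsq]
    obtain ⟨c, hc, hce⟩ : ∃ c ∈ D.C₁, r * D.fst q * r⁻¹ * (D.fst q)⁻¹ = c * c := by
      by_cases hf : D.fst q ∈ D.C₁
      · exact ⟨_, inv_mem hf, by rw [D.dih₁.inverts hr hrC hf]⟩
      · refine ⟨_, D.dih₁.mul r hr _ (fst_mem hqP) hrC hf, ?_⟩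
        rw [D.dih₁.refl_inv hr hrC, D.dih₁.refl_inv (fst_mem hqP) hf]; group
    rw [hce]
    exact subset_closure ⟨c, hC hc, rfl⟩

theorem cyclic_le (hZ : ∀ q ∈ Q, (∀ q' ∈ Q, q * q' = q' * q) → D.fst q ∈ D.C₁) : D.C₁ ≤ Q := by
  haveI := Fact.mk Nat.prime_two
  by_contra hnot
  obtain ⟨y, hy, hyQ⟩ := SetLike.not_le_iff_exists.mp hnot
  classical
  obtain ⟨n, hn⟩ := D.P.isPGroup' ⟨y, D.le₁ (D.dih₁.le hy)⟩
  have hn' : y ^ 2 ^ n ∈ Q := by
    have : y ^ 2 ^ n = 1 := congrArg Subtype.val hn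
    rw [this]; exact one_mem _
  have hex : ∃ k, y ^ 2 ^ k ∈ Q := ⟨n, hn'⟩
  obtain ⟨k, hk⟩ : ∃ k, Nat.find hex = k + 1 := Nat.exists_eq_succ_of_ne_zero fun h => hyQ (by
    have := Nat.find_spec hex
    rwa [h, pow_zero, pow_one] at this)
  set x := y ^ 2 ^ k with hx
  have hxC : x ∈ D.C₁ := pow_mem hy _
  have hxD := D.dih₁.le hxC
  have hxP := D.le₁ hxD
  have hxQ : x ∉ Q := Nat.find_min hex (by omega)
  have heQ : x * x ∈ Q := by
    have := Nat.find_spec hex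
    rwa [hk, pow_succ, pow_mul, ← hx, pow_two] at this
  set ZQ := Q ⊓ centralizer (Q : Set G) with hZQ
  set N := normalizer (Q : Set G) with hN
  set L := N ⊓ centralizer (ZQ : Set G) with hL
  have hNZ : ∀ n ∈ N, ∀ w ∈ ZQ, n * w * n⁻¹ ∈ ZQ := by
    intro n hn w hw
    refine mem_inf.mpr ⟨(mem_normalizer_iff.mp hn w).mp hw.1, mem_centralizer_iff.mpr fun q hq => ?_⟩
    have hq' : n⁻¹ * q * n ∈ Q := by simpa using (mem_normalizer_iff.mp (inv_mem hn) q).mp hq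
    have h := mem_centralizer_iff.mp hw.2 _ hq'
    calc q * (n * w * n⁻¹) = n * (n⁻¹ * q * n * w) * n⁻¹ := by group
      _ = n * (w * (n⁻¹ * q * n)) * n⁻¹ := by rw [h]
      _ = _ := by group
  set B := Subgroup.closure {b | ∃ n ∈ L, n * (x * x) * n⁻¹ = b} with hB
  have hBQ : B ≤ Q := (closure_le _).mpr (by
    rintro _ ⟨n, hn, rfl⟩; exact (mem_normalizer_iff.mp hn.1 _).mp heQ)
  have hLB : ∀ n ∈ L, ∀ b ∈ B, n * b * n⁻¹ ∈ B := by
    intro n hn b hb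
    suffices B ≤ B.comap (MulAut.conj n).toMonoidHom from this hb
    refine (closure_le _).mpr ?_
    rintro _ ⟨m, hm, rfl⟩
    exact subset_closure ⟨n * m, mul_mem hn hm, by simp [mul_assoc]⟩
  let M : Subgroup G :=
    { carrier := {n | n ∈ L ∧ (∀ b ∈ B, n * b * n⁻¹ = b) ∧ ∀ q ∈ Q, n * q * n⁻¹ * q⁻¹ ∈ B}
      one_mem' := ⟨one_mem _, fun b _ => by simp, fun q _ => by simp⟩
      mul_mem' := by
        rintro a b ⟨ha, ha', ha''⟩ ⟨hb, hb', hb''⟩
        refine ⟨mul_mem ha hb, fun w hw => ?_, fun q hq => ?_⟩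
        · rw [show a * b * w * (a * b)⁻¹ = a * (b * w * b⁻¹) * a⁻¹ by group, hb' w hw, ha' w hw]
        · rw [show a * b * q * (a * b)⁻¹ * q⁻¹ =
            a * (b * q * b⁻¹ * q⁻¹) * a⁻¹ * (a * q * a⁻¹ * q⁻¹) by group, ha' _ (hb'' q hq)]
          exact mul_mem (hb'' q hq) (ha'' q hq)
      inv_mem' := by
        rintro a ⟨ha, ha', ha''⟩
        refine ⟨inv_mem ha, fun w hw => ?_, fun q hq => ?_⟩
        · conv_lhs => rw [← ha' w hw]
          group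
        · rw [show a⁻¹ * q * a⁻¹⁻¹ * q⁻¹ = a⁻¹ * (a * q * a⁻¹ * q⁻¹)⁻¹ * a⁻¹⁻¹ by group]
          exact hLB _ (inv_mem ha) _ (inv_mem (ha'' q hq)) }
  have hxconj : ∀ q ∈ Q, x * q * x⁻¹ = q ∨ x * q * x⁻¹ = x * x * q := by
    intro q hq
    have hqP := hQ.le hq
    have hc : D.snd q * x⁻¹ = x⁻¹ * D.snd q := (D.comm _ (inv_mem hxD) _ (snd_mem hqP)).symm
    have e : x * q * x⁻¹ = x * D.fst q * x⁻¹ * D.snd q := by
      conv_lhs => rw [← fst_mul_snd hqP]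
      calc x * (D.fst q * D.snd q) * x⁻¹ = x * D.fst q * (D.snd q * x⁻¹) := by group
        _ = x * D.fst q * (x⁻¹ * D.snd q) := by rw [hc]
        _ = _ := by group
    by_cases hf : D.fst q ∈ D.C₁
    · left; rw [e, D.dih₁.comm_cyclic hxC hf, mul_inv_cancel_right, fst_mul_snd hqP]
    · right; rw [e, D.dih₁.refl_conj (fst_mem hqP) hf hxC, mul_assoc, fst_mul_snd hqP]
  have hxN : x ∈ N := by
    refine mem_normalizer_iff.mpr fun q => ⟨fun hq => ?_, fun hq => ?_⟩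
    · rcases hxconj q hq with e | e <;> rw [e]
      exacts [hq, mul_mem heQ hq]
    · have h : ∀ w ∈ Q, x⁻¹ * w * x ∈ Q := fun w hw => by
        have hkey : x * w * x⁻¹ ∈ Q := by
          rcases hxconj w hw with e | e <;> rw [e]
          exacts [hw, mul_mem heQ hw]
        rw [show x⁻¹ * w * x = (x * x)⁻¹ * (x * w * x⁻¹) * (x * x) by group]
        exact mul_mem (mul_mem (inv_mem heQ) hkey) heQ
      have := h _ hq
      rwa [show x⁻¹ * (x * q * x⁻¹) * x = q by group] at this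
  have hxZ : ∀ w ∈ ZQ, x * w = w * x := by
    intro w hw
    have hwP := hQ.le hw.1
    refine (commute_iff hxP hwP).mpr ⟨?_, by rw [snd_left hxD]; simp⟩
    rw [fst_left hxD]
    exact D.dih₁.comm_cyclic hxC (hZ w hw.1 fun q hq => (mem_centralizer_iff.mp hw.2 q hq).symm)
  have hxL : x ∈ L := mem_inf.mpr ⟨hxN, mem_centralizer_iff.mpr fun w hw => (hxZ w hw).symm⟩
  have hfix : ∀ n ∈ L, D.fst (n * (x * x) * n⁻¹) ∈ D.C₁ := by
    intro n hn
    have hpow : ∀ j, (x * x) ^ 2 ^ j = D.z₁ → D.fst (n * (x * x) * n⁻¹) ∈ D.C₁ := by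
      intro j hj
      set e' := n * (x * x) * n⁻¹ with he'
      have he'P : e' ∈ (D.P : Subgroup G) := hQ.le ((mem_normalizer_iff.mp hn.1 _).mp heQ)
      have h1 : e' ^ 2 ^ j = D.z₁ := by
        rw [he', conj_pow, hj]
        have := mem_centralizer_iff.mp hn.2 D.z₁ (mem_inf.mpr ⟨z₁_mem hQ, mem_centralizer_iff.mpr
          fun q hq => (z₁_central (hQ.le hq)).symm⟩)
        rw [← this, mul_inv_cancel_right]
      by_contra hf
      have h2 := congrArg D.fst h1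
      rw [fst_pow he'P, fst_left D.dih₁.zed_mem'] at h2
      rcases Nat.eq_zero_or_pos j with rfl | hj0
      · rw [pow_zero, pow_one] at h2
        exact hf (h2 ▸ D.dih₁.zed_mem)
      · obtain ⟨i, rfl⟩ : ∃ i, j = i + 1 := ⟨j - 1, by omega⟩
        rw [pow_succ', pow_mul, pow_two, D.dih₁.refl_sq (fst_mem he'P) hf, one_pow] at h2
        exact D.dih₁.zed_ne_one h2.symm
    obtain ⟨i, hi⟩ := IsPGroup.iff_orderOf.mp D.P.isPGroup' ⟨x * x, mul_mem hxP hxP⟩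
    rw [Subgroup.orderOf_mk] at hi
    have hi0 : i ≠ 0 := by
      rintro rfl
      rw [pow_zero, orderOf_eq_one_iff] at hi
      rcases D.dih₁.eq_zed hxC hi with h | h
      · exact hxQ (h ▸ one_mem Q)
      · exact hxQ (h ▸ z₁_mem hQ)
    refine hpow (i - 1) (D.dih₁.unique (pow_mem (mul_mem hxC hxC) _) D.dih₁.zed_mem ?_
      D.dih₁.orderOf_zed)
    rw [orderOf_pow' _ (by positivity), hi, Nat.gcd_eq_right (pow_dvd_pow 2 (by omega)),
      Nat.pow_div (by omega) two_pos, show i - (i - 1) = 1 by omega, pow_one]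
  refine hxQ (mem_of_subnormal hQ (L := L) (M := M) inf_le_left ?_ (fun n hn => hn.1) ?_ ?_ hxP
    ⟨hxL, ?_, ?_⟩)
  · refine Coprime.le_normalizer_of_conj_mem fun n hn l hl => mem_inf.mpr
      ⟨mul_mem (mul_mem hn hl.1) (inv_mem hn), mem_centralizer_iff.mpr fun w hw => ?_⟩
    have h := mem_centralizer_iff.mp hl.2 _ (hNZ _ (inv_mem hn) w hw)
    calc w * (n * l * n⁻¹) = n * (n⁻¹ * w * n⁻¹⁻¹ * l) * n⁻¹ := by group
      _ = n * (l * (n⁻¹ * w * n⁻¹⁻¹)) * n⁻¹ := by rw [h]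
      _ = _ := by group
  · refine Coprime.le_normalizer_of_conj_mem fun l hl m hm => ?_
    refine ⟨mul_mem (mul_mem hl hm.1) (inv_mem hl), fun b hb => ?_, fun q hq => ?_⟩
    · have h := hm.2.1 _ (hLB _ (inv_mem hl) b hb)
      calc l * m * l⁻¹ * b * (l * m * l⁻¹)⁻¹ = l * (m * (l⁻¹ * b * l⁻¹⁻¹) * m⁻¹) * l⁻¹ := by group
        _ = l * (l⁻¹ * b * l⁻¹⁻¹) * l⁻¹ := by rw [h]
        _ = b := by group
    · have hq' : l⁻¹ * q * l ∈ Q := by simpa using (mem_normalizer_iff.mp (inv_mem hl.1) q).mp hq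
      rw [show l * m * l⁻¹ * q * (l * m * l⁻¹)⁻¹ * q⁻¹ =
        l * (m * (l⁻¹ * q * l) * m⁻¹ * (l⁻¹ * q * l)⁻¹) * l⁻¹ by group]
      exact hLB l hl _ (hm.2.2 _ hq')
  · intro m hm
    obtain ⟨i, hi⟩ := IsPGroup.iff_card.mp (D.P.isPGroup'.to_le hQ.le)
    refine ⟨i, mem_centralizer_iff.mpr fun q hq => ?_⟩
    set β := m * q * m⁻¹ * q⁻¹ with hβ
    have hβB : β ∈ B := hm.2.2 q hq
    have hmb : m * β * m⁻¹ = β := hm.2.1 β hβB
    have hpowq : ∀ j : ℕ, m ^ j * q * (m ^ j)⁻¹ = β ^ j * q := by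
      intro j
      induction j with
      | zero => simp
      | succ j ih =>
        have e1 : m * β ^ j * m⁻¹ = β ^ j := by rw [← conj_pow, hmb]
        calc m ^ (j + 1) * q * (m ^ (j + 1))⁻¹ = m * (m ^ j * q * (m ^ j)⁻¹) * m⁻¹ := by
              rw [pow_succ']; group
          _ = m * β ^ j * m⁻¹ * (m * q * m⁻¹) := by rw [ih]; group
          _ = β ^ j * (β * q) := by rw [e1, hβ]; group
          _ = β ^ (j + 1) * q := by rw [pow_succ]; group
    have h1 := hpowq (2 ^ i)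
    have hβ1 : β ^ 2 ^ i = 1 := by
      rw [← hi]
      exact congrArg Subtype.val (pow_card_eq_one' (G := Q) (x := ⟨β, hBQ hβB⟩))
    rw [hβ1, one_mul, mul_inv_eq_iff_eq_mul] at h1
    exact h1.symm
  · intro b hb
    suffices B ≤ centralizer ({x} : Set G) by
      rw [← mem_centralizer_singleton_iff.mp (this hb), mul_inv_cancel_right]
    refine (closure_le _).mpr ?_
    rintro _ ⟨n, hn, rfl⟩
    refine mem_centralizer_singleton_iff.mpr ?_
    have he'P : n * (x * x) * n⁻¹ ∈ (D.P : Subgroup G) := hQ.le ((mem_normalizer_iff.mp hn.1 _).mp heQ)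
    refine (commute_iff he'P hxP).mpr ⟨?_, by rw [snd_left hxD]; simp⟩
    rw [fst_left hxD]
    exact D.dih₁.comm_cyclic (hfix n hn) hxC
  · intro q hq
    rcases hxconj q hq with e | e <;> rw [e]
    · simp
    · rw [mul_inv_cancel_right]
      exact subset_closure ⟨1, one_mem _, by simp⟩

/-- One factor of a good subgroup. -/
theorem good_side : D.D₁ ≤ Q ∨
    ∃ r ∈ D.D₁, r ∉ D.C₁ ∧ D.dih₁.V r ≤ Q ∧ ∀ q ∈ Q, D.fst q ∈ D.dih₁.V r := by
  by_cases hrefl : ∃ q ∈ Q, D.fst q ∉ D.C₁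
  swap
  · push Not at hrefl
    exact Or.inl (dihedral_le hQ (cyclic_le hQ fun q hq _ => hrefl q hq))
  by_cases hbig : ∃ q ∈ Q, D.fst q ∈ D.C₁ ∧ D.fst q * D.fst q ≠ 1
  · obtain ⟨c, hc, hcC, hc2⟩ := hbig
    refine Or.inl (dihedral_le hQ (cyclic_le hQ fun q hq hqc => ?_))
    by_contra hf
    have hqP := hQ.le hq
    have h1 := ((commute_iff hqP (hQ.le hc)).mp (hqc c hc)).1
    have h2 := D.dih₁.inverts (fst_mem hqP) hf hcC
    rw [h1, mul_inv_cancel_right, eq_inv_iff_mul_eq_one] at h2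
    exact hc2 h2
  push Not at hbig
  obtain ⟨q₀, hq₀, hf₀⟩ := hrefl
  have hq₀P := hQ.le hq₀
  set r := D.fst q₀ with hr
  have hrD : r ∈ D.D₁ := fst_mem hq₀P
  have hall : ∀ q ∈ Q, D.fst q ∈ D.dih₁.V r := by
    intro q hq
    have hqP := hQ.le hq
    have key : ∀ w ∈ Q, D.fst w ∈ D.C₁ → D.fst w ∈ D.dih₁.V r := fun w hw hwC => by
      rcases D.dih₁.eq_zed hwC (hbig w hw hwC) with e | e <;> rw [e]
      exacts [one_mem _, D.dih₁.zed_mem_V r]
    by_cases hf : D.fst q ∈ D.C₁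
    · exact key q hq hf
    · have h1 := key (q * q₀) (mul_mem hq hq₀) (by
        rw [fst_mul hqP hq₀P]; exact D.dih₁.mul _ (fst_mem hqP) r hrD hf hf₀)
      rw [fst_mul hqP hq₀P] at h1
      simpa [← hr, mul_assoc, D.dih₁.refl_sq hrD hf₀] using mul_mem h1 (D.dih₁.self_mem_V r)
  refine Or.inr ⟨r, hrD, hf₀, (closure_le _).mpr ?_, hall⟩
  rintro w (rfl | rfl)
  · exact z₁_mem hQ
  · refine mem_of_centralizes hQ (D.le₁ hrD) fun q hq => (commute_iff (D.le₁ hrD) (hQ.le hq)).mpr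
      ⟨?_, by rw [snd_left hrD]; simp⟩
    rw [fst_left hrD]
    exact D.dih₁.V_comm hrD hf₀ (D.dih₁.self_mem_V r) (hall q hq)

/-- The good subgroups. -/
theorem classify : ∃ A B : Subgroup G,
    (A = D.D₁ ∨ ∃ r ∈ D.D₁, r ∉ D.C₁ ∧ A = D.dih₁.V r) ∧
    (B = D.D₂ ∨ ∃ u ∈ D.D₂, u ∉ D.C₂ ∧ B = D.dih₂.V u) ∧ Q = D.prod A B := by
  obtain ⟨A, hA, hAQ, hA', hAD⟩ : ∃ A, (A = D.D₁ ∨ ∃ r ∈ D.D₁, r ∉ D.C₁ ∧ A = D.dih₁.V r) ∧
      A ≤ Q ∧ (∀ q ∈ Q, D.fst q ∈ A) ∧ A ≤ D.D₁ := by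
    rcases good_side hQ with h | ⟨r, hr, hrC, hV, hall⟩
    · exact ⟨_, Or.inl rfl, h, fun q hq => fst_mem (hQ.le hq), le_rfl⟩
    · exact ⟨_, Or.inr ⟨r, hr, hrC, rfl⟩, hV, hall, D.dih₁.V_le hr⟩
  obtain ⟨B, hB, hBQ, hB', hBD⟩ : ∃ B, (B = D.D₂ ∨ ∃ u ∈ D.D₂, u ∉ D.C₂ ∧ B = D.dih₂.V u) ∧
      B ≤ Q ∧ (∀ q ∈ Q, D.snd q ∈ B) ∧ B ≤ D.D₂ := by
    rcases good_side (D := D.swap) hQ with h | ⟨u, hu, huC, hV, hall⟩
    · exact ⟨_, Or.inl rfl, h, fun q hq => snd_mem (hQ.le hq), le_rfl⟩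
    · exact ⟨_, Or.inr ⟨u, hu, huC, rfl⟩, hV,
        fun q hq => fst_swap (D := D) (hQ.le hq) ▸ hall q hq, D.dih₂.V_le hu⟩
  refine ⟨A, B, hA, hB, le_antisymm (fun q hq => mem_prod.mpr ⟨hQ.le hq, hA' q hq, hB' q hq⟩) ?_⟩
  rintro q ⟨hq, h1, h2⟩
  rw [← fst_mul_snd hq]
  exact mul_mem (hAQ h1) (hBQ h2)

end Cfsg.Agent.ProdFus42.DD
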