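import Cfsg.Agent.ProdFus42.DD.Transvection

/-!
# Consequences of a moved involution in a rank four subgroup
-/

set_option autoImplicit false
set_option linter.style.haveILetI false
set_option linter.unusedSectionVars false

namespace Cfsg.Agent.ProdFus42

open Subgroup
open scoped Pointwise

variable {G : Type*} [Group G] [Finite G]

theorem pair_cases {a b x : G} (ha : a * a = 1) (hb : b * b = 1) (hc : a * b = b * a)
    (hx : x ∈ Subgroup.closure ({a, b} : Set G)) : x = 1 ∨ x = a ∨ x = b ∨ x = a * b := by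
  have r1 : ∀ w, a * (a * w) = w := fun w => by rw [← mul_assoc, ha, one_mul]
  have r2 : ∀ w, b * (b * w) = w := fun w => by rw [← mul_assoc, hb, one_mul]
  have r3 : ∀ w, b * (a * w) = a * (b * w) := fun w => by rw [← mul_assoc, ← hc, mul_assoc]
  have hai : a⁻¹ = a := inv_eq_of_mul_eq_one_right ha
  have hbi : b⁻¹ = b := inv_eq_of_mul_eq_one_right hb
  induction hx using Subgroup.closure_induction with
  | mem w hw => rcases hw with rfl | rfl <;> simp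
  | one => simp
  | mul p q _ _ hp hq =>
    rcases hp with rfl | rfl | rfl | rfl <;> rcases hq with rfl | rfl | rfl | rfl <;>
      simp [ha, hb, r1, r2, r3, ← hc, mul_assoc]
  | inv p _ hp => rcases hp with rfl | rfl | rfl | rfl <;> simp [hai, hbi, mul_inv_rev, ← hc]

namespace DD

/-- Some automiser element moves the first involution. -/
def Moved (D : DD G) (r u : G) : Prop :=
  ∃ n ∈ normalizer (D.eSub r u : Set G), n * D.z₁ * n⁻¹ ≠ D.z₁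

variable {D : DD G} {t : G} (ht : t ∈ D.C₁)
  (htr : ∀ a ∈ D.D₁, a ∉ D.C₁ → t * a * t⁻¹ = D.z₁ * a)
  (hne : ∀ g : G, g * D.z₁ * g⁻¹ ≠ D.z₂) {r u : G} (hR : D.IsRefl r u)
include ht htr hne hR

theorem moved_centre {n : G} (hn : n ∈ normalizer (D.eSub r u : Set G))
    (hc : n * D.z₁ * n⁻¹ ≠ D.z₁) :
    IsTrans (D.eSub r u) (n * t * n⁻¹) (n * D.z₁ * n⁻¹) ∧
    n * t * n⁻¹ * D.z₁ * (n * t * n⁻¹)⁻¹ = D.z₁ * (n * D.z₁ * n⁻¹) ∧
    D.fst (n * D.z₁ * n⁻¹) ∉ D.C₁ ∧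
    t * (n * D.z₁ * n⁻¹) * t⁻¹ = n * D.z₁ * n⁻¹ * D.z₁ := by
  obtain ⟨hTt, hform⟩ := isTrans_tau ht htr hR
  have hk := hTt.conj_of_mem hn
  have h1 : t * (n * D.z₁ * n⁻¹) * t⁻¹ ≠ n * D.z₁ * n⁻¹ := by
    intro h
    have h2 := fix_symm ht htr hne hR hTt (g₁ := 1) (by simp) hk h
    exact hc ((hTt.centre_eq hk
      (sameAct_of_commute ht htr hne hR hTt hk (g₁ := 1) (g₂ := n) (by simp) rfl h h2)).symm)
  have hmv := (hTt.cases _ hk.centre_mem).resolve_left h1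
  refine ⟨hk, ?_, fun h => h1 ((hform _ hk.centre_mem).1 h), hmv⟩
  refine (hk.cases _ (z₁_mem_eSub r u)).resolve_left fun h => h1 ?_
  exact fix_symm ht htr hne hR hk (g₁ := n) rfl hTt h

theorem other_fixed {t' : G} (ht' : t' ∈ D.C₂)
    (htr' : ∀ a ∈ D.D₂, a ∉ D.C₂ → t' * a * t'⁻¹ = D.z₂ * a) {n m : G}
    (hn : n ∈ normalizer (D.eSub r u : Set G)) (hm : m ∈ normalizer (D.eSub r u : Set G)) :
    n * t * n⁻¹ * (m * D.z₂ * m⁻¹) * (n * t * n⁻¹)⁻¹ = m * D.z₂ * m⁻¹ ∧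
      m * t' * m⁻¹ * (n * D.z₁ * n⁻¹) * (m * t' * m⁻¹)⁻¹ = n * D.z₁ * n⁻¹ := by
  have hne' : ∀ g : G, g * D.swap.z₁ * g⁻¹ ≠ D.swap.z₂ := fun g h => hne g⁻¹ (by
    show g⁻¹ * D.z₁ * g⁻¹⁻¹ = D.z₂
    rw [← show g * D.z₂ * g⁻¹ = D.z₁ from h]
    group)
  have hk := (isTrans_tau ht htr hR).1.conj_of_mem hn
  have hl : IsTrans (D.eSub r u) (m * t' * m⁻¹) (m * D.z₂ * m⁻¹) := by
    refine IsTrans.conj_of_mem ?_ hm
    have h := (isTrans_tau (D := D.swap) ht' htr' hR.swap).1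
    rwa [eSub_swap] at h
  set k := n * t * n⁻¹
  set l := m * t' * m⁻¹
  set c := n * D.z₁ * n⁻¹ with hc
  set d := m * D.z₂ * m⁻¹ with hd
  have hkl : k * d * k⁻¹ = d → l * c * l⁻¹ = c :=
    fix_symm ht htr hne hR hk (g₁ := n) rfl hl
  have hlk : l * c * l⁻¹ = c → k * d * k⁻¹ = d :=
    fix_symm (D := D.swap) ht' htr' hne' hR.swap (k := l) (l := k) (c := d) (d := c)
      (by rwa [eSub_swap]) (g₁ := m) rfl (by rwa [eSub_swap])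
  rcases hk.cases d hl.centre_mem with h | h
  · exact ⟨h, hkl h⟩
  rcases hl.cases c hk.centre_mem with h' | h'
  · exact ⟨hlk h', h'⟩
  exfalso
  refine hne ((l * k * m)⁻¹ * n) ?_
  have e : l * k * m * D.z₂ * (l * k * m)⁻¹ = c := by
    rw [show l * k * m * D.z₂ * (l * k * m)⁻¹ = l * (k * d * k⁻¹) * l⁻¹ by rw [hd]; group, h,
      show l * (d * c) * l⁻¹ = l * d * l⁻¹ * (l * c * l⁻¹) by group, hl.fix, h',
      eSub_comm hR hk.centre_mem hl.centre_mem, ← mul_assoc, eSub_sq hR hl.centre_mem, one_mul]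
  rw [show (l * k * m)⁻¹ * n * D.z₁ * ((l * k * m)⁻¹ * n)⁻¹ = (l * k * m)⁻¹ * c * (l * k * m) by
    rw [hc]; group, ← e]
  group

/-- The conjugates of `z₁` in a subgroup where both involutions are moved. -/
theorem eq_of_conj_z₁ {t' : G} (ht' : t' ∈ D.C₂)
    (htr' : ∀ a ∈ D.D₂, a ∉ D.C₂ → t' * a * t'⁻¹ = D.z₂ * a)
    (hne' : ∀ g : G, g * D.z₁ * g⁻¹ ≠ D.z₁ * D.z₂)
    (hm₂ : D.swap.Moved u r) {n : G} (hn : n ∈ normalizer (D.eSub r u : Set G))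
    (hc : n * D.z₁ * n⁻¹ ≠ D.z₁) :
    (D.snd (n * D.z₁ * n⁻¹) = 1 ∨ D.snd (n * D.z₁ * n⁻¹) = D.z₂) ∧
    ∀ e ∈ D.eSub r u, (∃ g, g * e * g⁻¹ = D.z₁) →
      e = D.z₁ ∨ e = n * D.z₁ * n⁻¹ ∨ e = D.z₁ * (n * D.z₁ * n⁻¹) := by
  obtain ⟨m, hm, hd⟩ := hm₂
  rw [eSub_swap] at hm
  have hne2 : ∀ g : G, g * D.swap.z₁ * g⁻¹ ≠ D.swap.z₂ := fun g h => hne g⁻¹ (by
    show g⁻¹ * D.z₁ * g⁻¹⁻¹ = D.z₂
    rw [← show g * D.z₂ * g⁻¹ = D.z₁ from h]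
    group)
  obtain ⟨hk, hkz, hcf, htc⟩ := moved_centre ht htr hne hR hn hc
  obtain ⟨hl, hlz, hdf, htd⟩ := moved_centre (D := D.swap) ht' htr' hne2 hR.swap
    (n := m) (by rw [eSub_swap]; exact hm) hd
  rw [eSub_swap] at hl
  replace hl : IsTrans (D.eSub r u) (m * t' * m⁻¹) (m * D.z₂ * m⁻¹) := hl
  replace hlz : m * t' * m⁻¹ * D.z₂ * (m * t' * m⁻¹)⁻¹ = D.z₂ * (m * D.z₂ * m⁻¹) := hlz
  replace hdf : D.swap.fst (m * D.z₂ * m⁻¹) ∉ D.C₂ := hdf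
  replace htd : t' * (m * D.z₂ * m⁻¹) * t'⁻¹ = m * D.z₂ * m⁻¹ * D.z₂ := htd
  obtain ⟨hkd, hlc⟩ := other_fixed ht htr hne hR ht' htr' hn hm
  obtain ⟨hkz2, ht'c⟩ := other_fixed ht htr hne hR ht' htr' hn (one_mem _)
  obtain ⟨htd2, hlz1⟩ := other_fixed ht htr hne hR ht' htr' (one_mem _) hm
  simp only [one_mul, inv_one, mul_one] at hkz2 ht'c htd2 hlz1
  set k := n * t * n⁻¹
  set l := m * t' * m⁻¹
  set c := n * D.z₁ * n⁻¹
  set d := m * D.z₂ * m⁻¹ with hdd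
  obtain ⟨hTt, hform⟩ := isTrans_tau ht htr hR
  obtain ⟨hTt', hform'⟩ := isTrans_tau (D := D.swap) ht' htr' hR.swap
  have hcE := hk.centre_mem
  have hdE := hl.centre_mem
  -- the second coordinate of `c`
  have hsc : D.snd c = 1 ∨ D.snd c = D.z₂ := by
    refine D.dih₂.eq_zed ?_ ((sq_iff hcE.1).mp (eSub_sq hR hcE)).2
    by_contra h
    have h2 := (hform' c (by rw [eSub_swap]; exact hcE)).2 (by rwa [fst_swap (D := D) hcE.1])
    rw [ht'c] at h2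
    exact D.dih₂.zed_ne_one (mul_eq_left.mp h2.symm)
  have hfd : D.fst d = 1 ∨ D.fst d = D.z₁ := by
    refine D.dih₁.eq_zed ?_ ((sq_iff hdE.1).mp (eSub_sq hR hdE)).1
    by_contra h
    have h2 := (hform d hdE).2 h
    rw [htd2] at h2
    exact D.dih₁.zed_ne_one (mul_eq_left.mp h2.symm)
  refine ⟨hsc, fun e he hconj => ?_⟩
  have hds : D.snd d ∉ D.C₂ := by rw [← fst_swap (D := D) hdE.1]; exact hdf
  set W₁ := Subgroup.closure ({D.z₁, c} : Set G) with hW₁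
  set W₂ := Subgroup.closure ({D.z₂, d} : Set G) with hW₂
  have hW₁E : W₁ ≤ D.eSub r u := (closure_le _).mpr (by
    rintro w (rfl | rfl); exacts [z₁_mem_eSub r u, hcE])
  have hW₂E : W₂ ≤ D.eSub r u := (closure_le _).mpr (by
    rintro w (rfl | rfl); exacts [z₂_mem_eSub r u, hdE])
  have hz1W : D.z₁ ∈ W₁ ⊔ W₂ := mem_sup_left (subset_closure (by simp))
  have hz2W : D.z₂ ∈ W₁ ⊔ W₂ := mem_sup_right (subset_closure (by simp))
  have hgen : e ∈ W₁ ⊔ W₂ := by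
    rw [← fst_mul_snd he.1]
    refine mul_mem ?_ ?_
    · have hle : D.dih₁.V (D.fst c) ≤ W₁ ⊔ W₂ := (closure_le _).mpr (by
        rintro w (rfl | rfl)
        · exact hz1W
        · have hc' : c ∈ W₁ ⊔ W₂ := mem_sup_left (subset_closure (by simp))
          rw [show D.fst c = c * (D.snd c)⁻¹ from eq_mul_inv_of_mul_eq (fst_mul_snd hcE.1)]
          refine mul_mem hc' (inv_mem ?_)
          rcases hsc with h | h <;> rw [h]
          exacts [one_mem _, hz2W])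
      exact hle (by rw [D.dih₁.V_congr hR.1.1 hR.1.2 hcE.2.1 hcf]; exact he.2.1)
    · have hle : D.dih₂.V (D.snd d) ≤ W₁ ⊔ W₂ := (closure_le _).mpr (by
        rintro w (rfl | rfl)
        · exact hz2W
        · have hd' : d ∈ W₁ ⊔ W₂ := mem_sup_right (subset_closure (by simp))
          rw [show D.snd d = (D.fst d)⁻¹ * d from eq_inv_mul_of_mul_eq (fst_mul_snd hdE.1)]
          refine mul_mem (inv_mem ?_) hd'
          rcases hfd with h | h <;> rw [h]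
          exacts [one_mem _, hz1W])
      exact hle (by rw [D.dih₂.V_congr hR.2.1 hR.2.2 hdE.2.2 hds]; exact he.2.2)
  have hmul : e ∈ (W₁ : Set G) * (W₂ : Set G) := by
    rw [← coe_mul_of_left_le_normalizer_right W₁ W₂ (le_trans (fun a ha => mem_centralizer_iff.mpr
      fun b hb => eSub_comm hR (hW₂E hb) (hW₁E ha)) (centralizer_le_normalizer _))]
    exact hgen
  obtain ⟨w₁, hw₁, w₂, hw₂, rfl⟩ := Set.mem_mul.mp hmul
  have hd2 := eSub_sq hR hdE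
  have hc2 := eSub_sq hR hcE
  have hz1 := D.dih₁.zed_sq
  have hz2 := D.dih₂.zed_sq
  have key : ∀ a b : G, ∀ v : G, v * a * v⁻¹ = a → v * b * v⁻¹ = b → v * (a * b) * v⁻¹ = a * b :=
    fun a b v h1 h2 => by
      rw [show v * (a * b) * v⁻¹ = v * a * v⁻¹ * (v * b * v⁻¹) by group, h1, h2]
  -- `t` and `k` fix `W₂`, and `t'` and `l` fix `z₁`
  have hW₂fix : ∀ v, v * D.z₂ * v⁻¹ = D.z₂ → v * d * v⁻¹ = d → v * w₂ * v⁻¹ = w₂ := by
    intro v h1 h2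
    rcases pair_cases hz2 hd2 (eSub_comm hR (z₂_mem_eSub r u) hdE) hw₂ with h | h | h | h <;> rw [h]
    exacts [by simp, h1, h2, key _ _ v h1 h2]
  have htz2 : t * D.z₂ * t⁻¹ = D.z₂ := (hform _ (z₂_mem_eSub r u)).1 (by
    rw [fst_right D.dih₂.zed_mem']; exact one_mem _)
  obtain ⟨g₁, hg₁, hg₁'⟩ : ∃ g, (g * w₁ * g⁻¹ = 1 ∧ w₁ = 1 ∨ g * w₁ * g⁻¹ = D.z₁ ∧
      (w₁ = D.z₁ ∨ w₁ = c ∨ w₁ = D.z₁ * c)) ∧ g * w₂ * g⁻¹ = w₂ := by
    have hk2 := hW₂fix k hkz2 hkd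
    have ht2 := hW₂fix t htz2 htd2
    have hzc : D.z₁ * c = c * D.z₁ := eSub_comm hR (z₁_mem_eSub r u) hcE
    have hk3 : k * (D.z₁ * c) * k⁻¹ = D.z₁ := by
      rw [show k * (D.z₁ * c) * k⁻¹ = k * D.z₁ * k⁻¹ * (k * c * k⁻¹) by group, hkz, hk.fix,
        mul_assoc, hc2, mul_one]
    rcases pair_cases hz1 hc2 hzc hw₁ with h | h | h | h
    · exact ⟨1, Or.inl ⟨by simp [h], h⟩, by simp⟩
    · exact ⟨1, Or.inr ⟨by simp [h], Or.inl h⟩, by simp⟩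
    · refine ⟨k * t, Or.inr ⟨?_, Or.inr (Or.inl h)⟩, ?_⟩
      · rw [h, show k * t * c * (k * t)⁻¹ = k * (t * c * t⁻¹) * k⁻¹ by group, htc, ← hzc, hk3]
      · rw [show k * t * w₂ * (k * t)⁻¹ = k * (t * w₂ * t⁻¹) * k⁻¹ by group, ht2, hk2]
    · exact ⟨k, Or.inr ⟨by rw [h, hk3], Or.inr (Or.inr h)⟩, hk2⟩
  have ht'z1 : t' * D.z₁ * t'⁻¹ = D.z₁ := by
    rw [← z₁_central (D.le₂ (D.dih₂.le ht')), mul_inv_cancel_right]
  obtain ⟨g₂, hg₂, hg₂'⟩ : ∃ g, (g * w₂ * g⁻¹ = 1 ∧ w₂ = 1 ∨ g * w₂ * g⁻¹ = D.z₂) ∧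
      g * D.z₁ * g⁻¹ = D.z₁ := by
    have hzd : D.z₂ * d = d * D.z₂ := eSub_comm hR (z₂_mem_eSub r u) hdE
    have hl3 : l * (D.z₂ * d) * l⁻¹ = D.z₂ := by
      rw [show l * (D.z₂ * d) * l⁻¹ = l * D.z₂ * l⁻¹ * (l * d * l⁻¹) by group,
        show l * D.z₂ * l⁻¹ = D.z₂ * d from hlz, hl.fix, mul_assoc, hd2, mul_one]
    rcases pair_cases hz2 hd2 hzd hw₂ with h | h | h | h
    · exact ⟨1, Or.inl ⟨by simp [h], h⟩, by simp⟩
    · exact ⟨1, Or.inr (by simp [h]), by simp⟩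
    · refine ⟨l * t', Or.inr ?_, ?_⟩
      · rw [h, show l * t' * d * (l * t')⁻¹ = l * (t' * d * t'⁻¹) * l⁻¹ by group,
          show t' * d * t'⁻¹ = d * D.z₂ from htd, ← hzd, hl3]
      · rw [show l * t' * D.z₁ * (l * t')⁻¹ = l * (t' * D.z₁ * t'⁻¹) * l⁻¹ by group, ht'z1, hlz1]
    · exact ⟨l, Or.inr (by rw [h, hl3]), hlz1⟩
  obtain ⟨g, hg⟩ := hconj
  have hfin : (g₂ * g₁ * g⁻¹) * D.z₁ * (g₂ * g₁ * g⁻¹)⁻¹ =
      g₂ * (g₁ * w₁ * g₁⁻¹) * g₂⁻¹ * (g₂ * w₂ * g₂⁻¹) := by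
    rw [← hg, show g₂ * g₁ * g⁻¹ * (g * (w₁ * w₂) * g⁻¹) * (g₂ * g₁ * g⁻¹)⁻¹ =
      g₂ * (g₁ * w₁ * g₁⁻¹ * (g₁ * w₂ * g₁⁻¹)) * g₂⁻¹ by group, hg₁']
    group
  rcases hg₁ with ⟨h1, -⟩ | ⟨h1, hw⟩ <;> rw [h1] at hfin <;> rcases hg₂ with ⟨h2, hw2⟩ | h2 <;>
    rw [h2] at hfin
  · exfalso
    simp only [mul_one, mul_inv_cancel] at hfin
    exact D.dih₁.zed_ne_one (by
      rw [show D.dih₁.zed = (g₂ * g₁ * g⁻¹)⁻¹ * ((g₂ * g₁ * g⁻¹) * D.z₁ * (g₂ * g₁ * g⁻¹)⁻¹) *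
        (g₂ * g₁ * g⁻¹) by group, hfin]
      group)
  · exfalso
    simp only [mul_one, mul_inv_cancel, one_mul] at hfin
    exact hne _ hfin
  · rw [hw2, mul_one]
    exact hw
  · exfalso
    rw [hg₂'] at hfin
    exact hne' _ hfin

end DD

end Cfsg.Agent.ProdFus42
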