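import Cfsg.Agent.ProdFus42.DD.Classify
import Cfsg.Agent.ProdFus42.Normal

/-!
# Automorphisms of odd order
-/

set_option autoImplicit false
set_option linter.style.haveILetI false
set_option linter.unusedSectionVars false

namespace Cfsg.Agent.ProdFus42

open Subgroup

variable {G : Type*} [Group G] [Finite G]

theorem mem_normalizer_of_conj_le {H : Subgroup G} {x : G} (h : ∀ y ∈ H, x * y * x⁻¹ ∈ H) :
    x ∈ normalizer (H : Set G) := by
  have hk : ∀ k : ℕ, ∀ y ∈ H, x ^ k * y * (x ^ k)⁻¹ ∈ H := by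
    intro k
    induction k with
    | zero => intro y hy; simpa using hy
    | succ k ih =>
      intro y hy
      rw [show x ^ (k + 1) * y * (x ^ (k + 1))⁻¹ = x * (x ^ k * y * (x ^ k)⁻¹) * x⁻¹ by
        rw [pow_succ']; group]
      exact h _ (ih y hy)
  refine mem_normalizer_iff.mpr fun y => ⟨h y, fun hy => ?_⟩
  have h2 := hk (orderOf x - 1) _ hy
  have e : x ^ (orderOf x - 1) * x = 1 := by
    rw [← pow_succ, Nat.sub_add_cancel (orderOf_pos x), pow_orderOf_eq_one]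
  rwa [eq_inv_of_mul_eq_one_left e, inv_inv,
    show x⁻¹ * (x * y * x⁻¹) * x = y by group] at h2

/-- An element of odd order moving `q` by a fixed 2-element fixes it. -/
theorem eq_one_of_odd_shift {H : Subgroup G} (hH : IsPGroup 2 H) {x q h : G}
    (hx : Odd (orderOf x)) (hh : h ∈ H) (hq : x * q * x⁻¹ = q * h) (hfix : x * h * x⁻¹ = h) :
    h = 1 := by
  have hk : ∀ k : ℕ, x ^ k * q * (x ^ k)⁻¹ = q * h ^ k := by
    intro k
    induction k with
    | zero => simp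
    | succ k ih =>
      calc x ^ (k + 1) * q * (x ^ (k + 1))⁻¹ = x * (x ^ k * q * (x ^ k)⁻¹) * x⁻¹ := by
            rw [pow_succ']; group
        _ = x * q * x⁻¹ * (x * h * x⁻¹) ^ k := by rw [ih, conj_pow]; group
        _ = q * h ^ (k + 1) := by rw [hq, hfix, pow_succ', mul_assoc]
  have h1 := hk (orderOf x)
  rw [pow_orderOf_eq_one] at h1
  simp only [one_mul, inv_one, mul_one] at h1
  have h2 : h ^ orderOf x = 1 := (mul_eq_left.mp h1.symm)
  exact eq_one_of_odd_of_mem hH (hx.of_dvd_nat (orderOf_dvd_of_pow_eq_one h2)) hh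

/-- An element of odd order fixing the involutions of an abelian 2-group fixes all of it. -/
theorem fixed_of_fixed_invol {A : Subgroup G} (hA : IsPGroup 2 A)
    (hc : ∀ a ∈ A, ∀ b ∈ A, a * b = b * a) {x : G} (hx : Odd (orderOf x))
    (hinv : ∀ a ∈ A, x * a * x⁻¹ ∈ A) (h2 : ∀ a ∈ A, a * a = 1 → x * a * x⁻¹ = a) :
    ∀ a ∈ A, x * a * x⁻¹ = a := by
  suffices key : ∀ k : ℕ, ∀ a ∈ A, a ^ 2 ^ k = 1 → x * a * x⁻¹ = a by
    intro a ha
    obtain ⟨k, hk⟩ := hA ⟨a, ha⟩
    exact key k a ha (congrArg Subtype.val hk)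
  intro k
  induction k with
  | zero => intro a _ h1; rw [pow_zero, pow_one] at h1; subst h1; simp
  | succ k ih =>
    intro a ha h1
    have hsq := ih (a * a) (mul_mem ha ha) (by rw [← pow_two, ← pow_mul, ← pow_succ']; exact h1)
    set h := a⁻¹ * (x * a * x⁻¹) with hh
    have hhA : h ∈ A := mul_mem (inv_mem ha) (hinv a ha)
    have hh2 : h * h = 1 := by
      calc h * h = (a⁻¹ * a⁻¹) * (x * a * x⁻¹ * (x * a * x⁻¹)) := by
            have := hc (x * a * x⁻¹) (hinv a ha) a⁻¹ (inv_mem ha)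
            rw [hh]
            calc a⁻¹ * (x * a * x⁻¹) * (a⁻¹ * (x * a * x⁻¹))
                = a⁻¹ * ((x * a * x⁻¹) * a⁻¹) * (x * a * x⁻¹) := by group
              _ = a⁻¹ * (a⁻¹ * (x * a * x⁻¹)) * (x * a * x⁻¹) := by rw [this]
              _ = _ := by group
        _ = (a * a)⁻¹ * (x * (a * a) * x⁻¹) := by group
        _ = 1 := by rw [hsq, inv_mul_cancel]
    have h3 := eq_one_of_odd_shift hA hx hhA (q := a) (by rw [hh]; group) (h2 h hhA hh2)
    rw [hh, inv_mul_eq_one] at h3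
    exact h3.symm

namespace DD

variable {D : DD G}

theorem four_dvd_of_card (h : Nat.card D.C₁ ≠ 2) : 4 ∣ Nat.card D.C₁ := by
  obtain ⟨k, hk⟩ := IsPGroup.iff_card.mp (D.P.isPGroup'.to_le (D.dih₁.le.trans D.le₁))
  rcases k with _ | _ | k
  · have := D.dih₁.even
    rw [hk] at this
    simp at this
  · exact absurd hk h
  · rw [hk]; exact ⟨2 ^ k, by ring⟩

theorem V_eq_of_two (h : Nat.card D.C₂ = 2) {u : G} (hu : u ∈ D.D₂) (huC : u ∉ D.C₂) :
    D.dih₂.V u = D.D₂ :=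
  le_antisymm (D.dih₂.V_le hu) fun w hw =>
    D.dih₂.mem_V_of_commute hu huC hw (D.dih₂.comm_of_two h hw hu)

theorem z₁_ne_one : D.z₁ ≠ 1 := D.dih₁.zed_ne_one

theorem fst_mem_C_of_sq {q : G} (hq : q ∈ (D.P : Subgroup G)) (h : D.fst q * D.fst q ≠ 1) :
    D.fst q ∈ D.C₁ := by
  by_contra hc
  exact h (D.dih₁.refl_sq (fst_mem hq) hc)

/-- Elements of the normaliser of the Sylow subgroup fix the first involution. -/
theorem z₁_fixed (h₁ : 4 ∣ Nat.card D.C₁) {x : G} (hx : x ∈ normalizer ((D.P : Subgroup G) : Set G)) :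
    x * D.z₁ * x⁻¹ = D.z₁ := by
  obtain ⟨t, ht, hto, htt, htr⟩ := D.dih₁.exists_tau h₁
  suffices key : ∀ x ∈ normalizer ((D.P : Subgroup G) : Set G), Odd (orderOf x) →
      x ∈ centralizer ({D.z₁} : Set G) by
    have hle : normalizer ((D.P : Subgroup G) : Set G) ≤ centralizer ({D.z₁} : Set G) :=
      normalizer_le (GoodSub.self D.P).fully (fun y hy => mem_centralizer_singleton_iff.mpr
        (z₁_central hy.1).symm) key
    rw [mem_centralizer_singleton_iff.mp (hle hx), mul_inv_cancel_right]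
  intro x hx hodd
  have hxP : ∀ y ∈ (D.P : Subgroup G), x * y * x⁻¹ ∈ (D.P : Subgroup G) := fun y hy =>
    (mem_normalizer_iff.mp hx y).mp hy
  have htP := D.le₁ (D.dih₁.le ht)
  set y := x * D.z₁ * x⁻¹ with hy
  have hyP : y ∈ (D.P : Subgroup G) := hxP _ (D.le₁ D.dih₁.zed_mem')
  have hyc : ∀ w ∈ (D.P : Subgroup G), y * w = w * y := fun w hw => by
    have hw' : x⁻¹ * w * x ∈ (D.P : Subgroup G) := by
      simpa using (mem_normalizer_iff.mp (inv_mem hx) w).mp hw
    calc y * w = x * (D.z₁ * (x⁻¹ * w * x)) * x⁻¹ := by rw [hy]; group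
      _ = x * (x⁻¹ * w * x * D.z₁) * x⁻¹ := by rw [z₁_central hw']
      _ = w * y := by rw [hy]; group
  have hy1 : y ≠ 1 := fun h => z₁_ne_one (D := D) (by
    rw [show D.z₁ = x⁻¹ * y * x by rw [hy]; group, h]; group)
  -- a root of `y`
  set q := x * t * x⁻¹ with hq
  have hqP := hxP t htP
  have hqy : q * q = y := by rw [hq, hy, z₁, ← htt]; group
  have hyf : D.fst y = D.fst q * D.fst q := by rw [← hqy, fst_mul hqP hqP]
  have hys : D.snd y = D.snd q * D.snd q := by rw [← hqy, snd_mul hqP hqP]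
  by_cases h₂ : Nat.card D.C₂ = 2
  · have hs : D.snd y = 1 := by
      rw [hys]
      obtain ⟨u, hu, huC⟩ := D.dih₂.out
      refine D.dih₂.sq_of_mem_V hu huC ?_
      rw [V_eq_of_two h₂ hu huC]
      exact snd_mem hqP
    have hy2 : D.fst y = D.z₁ := by
      rcases fst_of_central h₁ hyP hyc with e | e
      · exact absurd (by rw [← fst_mul_snd hyP, e, hs, mul_one]) hy1
      · exact e
    exact mem_centralizer_singleton_iff.mpr (by
      rw [← mul_inv_eq_iff_eq_mul, ← hy, ← fst_mul_snd hyP, hy2, hs, mul_one])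
  · have h₂' : 4 ∣ Nat.card D.C₂ := four_dvd_of_card (D := D.swap) h₂
    obtain ⟨t', ht', hto', htt', htr'⟩ := D.dih₂.exists_tau h₂'
    have hcases : ∀ x ∈ normalizer ((D.P : Subgroup G) : Set G),
        x * D.z₁ * x⁻¹ = D.z₁ ∨ x * D.z₁ * x⁻¹ = D.z₂ := by
      intro x hx
      have hxP : ∀ y ∈ (D.P : Subgroup G), x * y * x⁻¹ ∈ (D.P : Subgroup G) := fun y hy =>
        (mem_normalizer_iff.mp hx y).mp hy
      set y := x * D.z₁ * x⁻¹ with hy
      have hyP : y ∈ (D.P : Subgroup G) := hxP _ (D.le₁ D.dih₁.zed_mem')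
      have hyc : ∀ w ∈ (D.P : Subgroup G), y * w = w * y := fun w hw => by
        have hw' : x⁻¹ * w * x ∈ (D.P : Subgroup G) := by
          simpa using (mem_normalizer_iff.mp (inv_mem hx) w).mp hw
        calc y * w = x * (D.z₁ * (x⁻¹ * w * x)) * x⁻¹ := by rw [hy]; group
          _ = x * (x⁻¹ * w * x * D.z₁) * x⁻¹ := by rw [z₁_central hw']
          _ = w * y := by rw [hy]; group
      have hy1 : y ≠ 1 := fun h => z₁_ne_one (D := D) (by
        rw [show D.z₁ = x⁻¹ * y * x by rw [hy]; group, h]; group)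
      have e1 := fst_of_central h₁ hyP hyc
      have e2 : D.snd y = 1 ∨ D.snd y = D.z₂ := by
        have := fst_of_central (D := D.swap) h₂' hyP hyc
        rwa [fst_swap (D := D) hyP] at this
      rcases e1 with e1 | e1 <;> rcases e2 with e2 | e2
      · exact absurd (by rw [← fst_mul_snd hyP, e1, e2, mul_one]) hy1
      · exact Or.inr (by rw [← fst_mul_snd hyP, e1, e2, one_mul])
      · exact Or.inl (by rw [← fst_mul_snd hyP, e1, e2, mul_one])
      · exfalso
        obtain ⟨u, hu, huC⟩ := D.dih₂.out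
        have hu' : t' * u ∈ D.D₂ := mul_mem (D.dih₂.le ht') hu
        have hu'2 := D.dih₂.refl_sq hu' (D.dih₂.cyclic_mul_refl huC ht')
        have hroot : ∀ w ∈ D.D₂, w * w = 1 → D.fst (x * (t * w) * x⁻¹) ∈ D.C₁ ∧
            D.snd (x * (t * w) * x⁻¹) ∈ D.C₂ := by
          intro w hw hw2
          have hwP := hxP _ (mul_mem_P (D.dih₁.le ht) hw)
          set p := x * (t * w) * x⁻¹ with hp
          have hpp : p * p = y := by
            rw [hp, hy, show x * (t * w) * x⁻¹ * (x * (t * w) * x⁻¹) = x * (t * (w * t) * w) * x⁻¹ by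
              group, ← D.comm t (D.dih₁.le ht) w hw,
              show t * (t * w) * w = t * t * (w * w) by group, hw2, mul_one, htt]
          constructor
          · refine fst_mem_C_of_sq hwP fun h => D.dih₁.zed_ne_one ?_
            rw [← fst_mul hwP hwP, hpp, e1] at h
            exact h
          · have h' := fst_mem_C_of_sq (D := D.swap) hwP ?_
            · rwa [fst_swap (D := D) hwP] at h'
            · rw [fst_swap (D := D) hwP, ← snd_mul hwP hwP, hpp, e2]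
              exact D.dih₂.zed_ne_one
        obtain ⟨a1, a2⟩ := hroot u hu (D.dih₂.refl_sq hu huC)
        obtain ⟨b1, b2⟩ := hroot _ hu' hu'2
        have hc := (commute_iff (hxP _ (mul_mem_P (D.dih₁.le ht) hu))
          (hxP _ (mul_mem_P (D.dih₁.le ht) hu'))).mpr
          ⟨D.dih₁.comm_cyclic a1 b1, D.dih₂.comm_cyclic a2 b2⟩
        have hc' : t * u * (t * (t' * u)) = t * (t' * u) * (t * u) := by
          refine (MulAut.conj x).injective ?_
          rw [map_mul (MulAut.conj x) (t * u), map_mul (MulAut.conj x) (t * (t' * u)) (t * u)]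
          exact hc
        have hc2 := ((commute_iff (mul_mem_P (D.dih₁.le ht) hu)
          (mul_mem_P (D.dih₁.le ht) hu')).mp hc').2
        rw [snd_eq (D.dih₁.le ht) hu, snd_eq (D.dih₁.le ht) hu', mul_assoc t' u u,
          D.dih₂.refl_sq hu huC, mul_one] at hc2
        have h4 : u * t' * u⁻¹ = t'⁻¹ := D.dih₂.inverts hu huC ht'
        have h5 : t' = t'⁻¹ := by
          rw [← h4, D.dih₂.refl_inv hu huC, mul_assoc]
          exact hc2.symm
        have h6 : t' * t' = 1 := by rw [← eq_inv_iff_mul_eq_one]; exact h5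
        rw [htt'] at h6
        exact D.dih₂.zed_ne_one h6
    refine mem_centralizer_singleton_iff.mpr ?_
    rw [← mul_inv_eq_iff_eq_mul]
    by_contra hne
    have hswap : x * D.z₂ * x⁻¹ = D.z₁ := by
      have hz := (hcases x hx).resolve_left hne
      rcases hcases (x * x) (mul_mem hx hx) with e | e
      · rw [← hz]; rw [show x * (x * D.z₁ * x⁻¹) * x⁻¹ = x * x * D.z₁ * (x * x)⁻¹ by group, e]
      · exfalso
        apply hne
        rw [hy] at *
        have : x * (x * D.z₁ * x⁻¹) * x⁻¹ = x * D.z₁ * x⁻¹ := by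
          rw [show x * (x * D.z₁ * x⁻¹) * x⁻¹ = x * x * D.z₁ * (x * x)⁻¹ by group, e, hz]
        exact mul_left_cancel (mul_right_cancel this)
    have hz := (hcases x hx).resolve_left hne
    have hx2 : x * x ∈ centralizer ({D.z₁} : Set G) := mem_centralizer_singleton_iff.mpr (by
      rw [← mul_inv_eq_iff_eq_mul, show x * x * D.z₁ * (x * x)⁻¹ = x * (x * D.z₁ * x⁻¹) * x⁻¹ by group,
        hz, hswap])
    obtain ⟨k, hk⟩ := hodd
    have hxe : x = (x * x) ^ (k + 1) := by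
      rw [← pow_two, ← pow_mul, show 2 * (k + 1) = orderOf x + 1 by omega, pow_succ,
        pow_orderOf_eq_one, one_mul]
    have hmem := pow_mem hx2 (k + 1)
    rw [← hxe] at hmem
    exact hne (by rw [mem_centralizer_singleton_iff.mp hmem, mul_inv_cancel_right])

/-- In the case of two nonabelian factors odd order elements centralise the Sylow subgroup. -/
theorem odd_full (h₁ : 4 ∣ Nat.card D.C₁) (h₂ : 4 ∣ Nat.card D.C₂) {x : G}
    (hx : x ∈ normalizer ((D.P : Subgroup G) : Set G)) (hodd : Odd (orderOf x)) :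
    ∀ q ∈ (D.P : Subgroup G), x * q * x⁻¹ = q := by
  obtain ⟨t, ht, hto, htt, htr⟩ := D.dih₁.exists_tau h₁
  obtain ⟨t', ht', hto', htt', htr'⟩ := D.dih₂.exists_tau h₂
  have hxP : ∀ y ∈ (D.P : Subgroup G), x * y * x⁻¹ ∈ (D.P : Subgroup G) := fun y hy =>
    (mem_normalizer_iff.mp hx y).mp hy
  have hxiP : ∀ y ∈ (D.P : Subgroup G), x⁻¹ * y * x ∈ (D.P : Subgroup G) := fun y hy => by
    simpa using (mem_normalizer_iff.mp (inv_mem hx) y).mp hy
  have hz1 := z₁_fixed h₁ hx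
  have hz2 : x * D.z₂ * x⁻¹ = D.z₂ := z₁_fixed (D := D.swap) h₂ hx
  have hroot : ∀ p ∈ (D.P : Subgroup G), p * p = D.z₁ * D.z₂ →
      D.fst p ∈ D.C₁ ∧ D.snd p ∈ D.C₂ := by
    intro p hp hpp
    constructor
    · refine fst_mem_C_of_sq hp fun h => D.dih₁.zed_ne_one ?_
      rwa [← fst_mul hp hp, hpp, fst_eq D.dih₁.zed_mem' D.dih₂.zed_mem'] at h
    · have h' := fst_mem_C_of_sq (D := D.swap) hp ?_
      · rwa [fst_swap (D := D) hp] at h'
      · rw [fst_swap (D := D) hp, ← snd_mul hp hp, hpp, snd_eq D.dih₁.zed_mem' D.dih₂.zed_mem']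
        exact D.dih₂.zed_ne_one
  set A := D.prod D.C₁ D.C₂ with hA
  have hAinv : ∀ a ∈ A, x * a * x⁻¹ ∈ A := by
    intro a ha
    have htP := mul_mem_P (D := D) (D.dih₁.le ht) (D.dih₂.le ht')
    have hpre := hxiP _ htP
    have hppre : x⁻¹ * (t * t') * x * (x⁻¹ * (t * t') * x) = D.z₁ * D.z₂ := by
      rw [show x⁻¹ * (t * t') * x * (x⁻¹ * (t * t') * x) = x⁻¹ * (t * (t' * t) * t') * x by group,
        ← D.comm t (D.dih₁.le ht) t' (D.dih₂.le ht'),
        show t * (t * t') * t' = t * t * (t' * t') by group, htt, htt']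
      calc x⁻¹ * (D.z₁ * D.z₂) * x = x⁻¹ * ((x * D.z₁ * x⁻¹) * (x * D.z₂ * x⁻¹)) * x := by
            rw [hz1, hz2]
        _ = D.z₁ * D.z₂ := by group
    obtain ⟨r1, r2⟩ := hroot _ hpre hppre
    have hc := (commute_iff ha.1 hpre).mpr
      ⟨D.dih₁.comm_cyclic ha.2.1 r1, D.dih₂.comm_cyclic ha.2.2 r2⟩
    have hc' : x * a * x⁻¹ * (t * t') = t * t' * (x * a * x⁻¹) := by
      calc x * a * x⁻¹ * (t * t') = x * (a * (x⁻¹ * (t * t') * x)) * x⁻¹ := by group
        _ = x * (x⁻¹ * (t * t') * x * a) * x⁻¹ := by rw [hc]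
        _ = _ := by group
    obtain ⟨c1, c2⟩ := (commute_iff (hxP a ha.1) htP).mp hc'
    rw [fst_eq (D.dih₁.le ht) (D.dih₂.le ht')] at c1
    rw [snd_eq (D.dih₁.le ht) (D.dih₂.le ht')] at c2
    refine ⟨hxP a ha.1, ?_, ?_⟩
    · by_contra hf
      have h3 := D.dih₁.inverts (fst_mem (hxP a ha.1)) hf ht
      rw [c1, mul_inv_cancel_right, eq_inv_iff_mul_eq_one, htt] at h3
      exact D.dih₁.zed_ne_one h3
    · by_contra hf
      have h3 := D.dih₂.inverts (snd_mem (hxP a ha.1)) hf ht'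
      rw [c2, mul_inv_cancel_right, eq_inv_iff_mul_eq_one, htt'] at h3
      exact D.dih₂.zed_ne_one h3
  have hAfix : ∀ a ∈ A, x * a * x⁻¹ = a := by
    refine fixed_of_fixed_invol (D.P.isPGroup'.to_le prod_le)
      (fun a ha b hb => (commute_iff ha.1 hb.1).mpr
        ⟨D.dih₁.comm_cyclic ha.2.1 hb.2.1, D.dih₂.comm_cyclic ha.2.2 hb.2.2⟩) hodd hAinv ?_
    intro a ha ha2
    obtain ⟨s1, s2⟩ := (sq_iff ha.1).mp ha2
    rw [← fst_mul_snd ha.1]
    rcases D.dih₁.eq_zed ha.2.1 s1 with e | e <;> rcases D.dih₂.eq_zed ha.2.2 s2 with e' | e' <;>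
      rw [e, e']
    · simp
    · rw [one_mul]; exact hz2
    · rw [mul_one]; exact hz1
    · rw [show x * (D.dih₁.zed * D.dih₂.zed) * x⁻¹ =
        (x * D.z₁ * x⁻¹) * (x * D.z₂ * x⁻¹) by group, hz1, hz2]
  -- the subgroup `C₁ D₂` is invariant
  have hM : ∀ q ∈ (D.P : Subgroup G), D.fst q ∈ D.C₁ → D.fst (x * q * x⁻¹) ∈ D.C₁ := by
    intro q hq hf
    set a := D.fst q * t⁻¹
    set p := t * D.snd q
    by_cases hs : D.snd q ∈ D.C₂
    · exact (hAinv q ⟨hq, hf, hs⟩).2.1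
    · have hpP := hxP _ (mul_mem_P (D.dih₁.le ht) (snd_mem hq))
      have haA : a ∈ A := left_le_prod (A := D.C₁) D.dih₁.le (mul_mem hf (inv_mem ht))
      have hp2 : x * p * x⁻¹ * (x * p * x⁻¹) = D.z₁ := by
        rw [show x * p * x⁻¹ * (x * p * x⁻¹) = x * (p * p) * x⁻¹ by group,
          show p * p = t * t * (D.snd q * D.snd q) by
            show t * D.snd q * (t * D.snd q) = _
            rw [show t * D.snd q * (t * D.snd q) = t * (D.snd q * t) * D.snd q by group,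
              ← D.comm t (D.dih₁.le ht) _ (snd_mem hq)]
            group,
          D.dih₂.refl_sq (snd_mem hq) hs, mul_one, htt]
        exact hz1
      have hpf : D.fst (x * p * x⁻¹) ∈ D.C₁ := by
        refine fst_mem_C_of_sq hpP fun h => D.dih₁.zed_ne_one ?_
        rwa [← fst_mul hpP hpP, hp2, fst_left D.dih₁.zed_mem'] at h
      have e : x * q * x⁻¹ = x * a * x⁻¹ * (x * p * x⁻¹) := by
        rw [show x * a * x⁻¹ * (x * p * x⁻¹) = x * (a * p) * x⁻¹ by group,
          show a * p = q by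
            show D.fst q * t⁻¹ * (t * D.snd q) = q
            rw [show D.fst q * t⁻¹ * (t * D.snd q) = D.fst q * D.snd q by group, fst_mul_snd hq]]
      rw [e, fst_mul (hxP a haA.1) hpP]
      exact mul_mem (hAinv a haA).2.1 hpf
  have hM' : ∀ q ∈ (D.P : Subgroup G), D.snd q ∈ D.C₂ → D.snd (x * q * x⁻¹) ∈ D.C₂ := by
    intro q hq hs
    set b := D.snd q * t'⁻¹
    set p := D.fst q * t'
    by_cases hf : D.fst q ∈ D.C₁
    · exact (hAinv q ⟨hq, hf, hs⟩).2.2
    · have hpP := hxP _ (mul_mem_P (fst_mem hq) (D.dih₂.le ht'))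
      have hbA : b ∈ A := right_le_prod (B := D.C₂) D.dih₂.le (mul_mem hs (inv_mem ht'))
      have hp2 : x * p * x⁻¹ * (x * p * x⁻¹) = D.z₂ := by
        rw [show x * p * x⁻¹ * (x * p * x⁻¹) = x * (p * p) * x⁻¹ by group,
          show p * p = D.fst q * D.fst q * (t' * t') by
            show D.fst q * t' * (D.fst q * t') = _
            rw [show D.fst q * t' * (D.fst q * t') = D.fst q * (t' * D.fst q) * t' by group,
              ← D.comm _ (fst_mem hq) t' (D.dih₂.le ht')]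
            group,
          D.dih₁.refl_sq (fst_mem hq) hf, one_mul, htt']
        exact hz2
      have hps : D.snd (x * p * x⁻¹) ∈ D.C₂ := by
        have h' := fst_mem_C_of_sq (D := D.swap) hpP ?_
        · rwa [fst_swap (D := D) hpP] at h'
        · rw [fst_swap (D := D) hpP, ← snd_mul hpP hpP, hp2, snd_right D.dih₂.zed_mem']
          exact D.dih₂.zed_ne_one
      have e : x * q * x⁻¹ = x * p * x⁻¹ * (x * b * x⁻¹) := by
        rw [show x * p * x⁻¹ * (x * b * x⁻¹) = x * (p * b) * x⁻¹ by group,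
          show p * b = q by
            show D.fst q * t' * (D.snd q * t'⁻¹) = q
            rw [D.dih₂.comm_cyclic hs (inv_mem ht'),
              show D.fst q * t' * (t'⁻¹ * D.snd q) = D.fst q * D.snd q by group, fst_mul_snd hq]]
      rw [e, snd_mul hpP (hxP b hbA.1)]
      exact mul_mem hps (hAinv b hbA).2.2
  intro q hq
  -- every element moves within its coset of `A`
  have hqx := hxP q hq
  have hback : ∀ (p : G → Prop), (∀ w ∈ (D.P : Subgroup G), p w → p (x * w * x⁻¹)) →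
      p (x * q * x⁻¹) → p q := by
    intro p hp h
    have hk : ∀ k : ℕ, x ^ k * (x * q * x⁻¹) * (x ^ k)⁻¹ ∈ (D.P : Subgroup G) ∧
        p (x ^ k * (x * q * x⁻¹) * (x ^ k)⁻¹) := by
      intro k
      induction k with
      | zero => simpa using ⟨hqx, h⟩
      | succ k ih =>
        rw [show x ^ (k + 1) * (x * q * x⁻¹) * (x ^ (k + 1))⁻¹ =
          x * (x ^ k * (x * q * x⁻¹) * (x ^ k)⁻¹) * x⁻¹ by rw [pow_succ']; group]
        exact ⟨hxP _ ih.1, hp _ ih.1 ih.2⟩
    have h2 := (hk (orderOf x - 1)).2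
    have e : x ^ (orderOf x - 1) * x = 1 := by
      rw [← pow_succ, Nat.sub_add_cancel (orderOf_pos x), pow_orderOf_eq_one]
    rwa [eq_inv_of_mul_eq_one_left e, inv_inv,
      show x⁻¹ * (x * q * x⁻¹) * x = q by group] at h2
  set h := q⁻¹ * (x * q * x⁻¹) with hh
  have hhA : h ∈ A := by
    refine ⟨mul_mem (inv_mem hq) hqx, ?_, ?_⟩
    · rw [hh, fst_mul (inv_mem hq) hqx, fst_inv hq]
      by_cases hf : D.fst q ∈ D.C₁
      · exact mul_mem (inv_mem hf) (hM q hq hf)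
      · have hf' : D.fst (x * q * x⁻¹) ∉ D.C₁ := fun h' =>
          hf (hback (fun w => D.fst w ∈ D.C₁) hM h')
        rw [D.dih₁.refl_inv (fst_mem hq) hf]
        exact D.dih₁.mul _ (fst_mem hq) _ (fst_mem hqx) hf hf'
    · rw [hh, snd_mul (inv_mem hq) hqx, snd_inv hq]
      by_cases hf : D.snd q ∈ D.C₂
      · exact mul_mem (inv_mem hf) (hM' q hq hf)
      · have hf' : D.snd (x * q * x⁻¹) ∉ D.C₂ := fun h' =>
          hf (hback (fun w => D.snd w ∈ D.C₂) hM' h')
        rw [D.dih₂.refl_inv (snd_mem hq) hf]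
        exact D.dih₂.mul _ (snd_mem hq) _ (snd_mem hqx) hf hf'
  have h3 := eq_one_of_odd_shift (D.P.isPGroup'.to_le prod_le) hodd hhA (q := q) (by rw [hh]; group)
    (hAfix h hhA)
  rw [hh, inv_mul_eq_one] at h3
  exact h3.symm

/-- The action of odd order elements on a subgroup with one four-group factor. -/
theorem odd_half (h₂ : 4 ∣ Nat.card D.C₂) {r : G} (hr : r ∈ D.D₁) (hrC : r ∉ D.C₁) {x : G}
    (hx : x ∈ normalizer ((D.prod (D.dih₁.V r) D.D₂ : Subgroup G) : Set G))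
    (hodd : Odd (orderOf x)) :
    ∀ q ∈ D.prod (D.dih₁.V r) D.D₂, D.fst (q⁻¹ * (x * q * x⁻¹)) ∈ D.dih₁.V r ∧
      (D.snd (q⁻¹ * (x * q * x⁻¹)) = 1 ∨ D.snd (q⁻¹ * (x * q * x⁻¹)) = D.z₂) := by
  obtain ⟨t', ht', hto', htt', htr'⟩ := D.dih₂.exists_tau h₂
  set Q := D.prod (D.dih₁.V r) D.D₂ with hQ
  set B := D.prod (D.dih₁.V r) D.C₂ with hB
  have hxQ : ∀ y ∈ Q, x * y * x⁻¹ ∈ Q := fun y hy => (mem_normalizer_iff.mp hx y).mp hy
  have hxiQ : ∀ y ∈ Q, x⁻¹ * y * x ∈ Q := fun y hy => by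
    simpa using (mem_normalizer_iff.mp (inv_mem hx) y).mp hy
  have hBc : ∀ a ∈ B, ∀ b ∈ B, a * b = b * a := fun a ha b hb => (commute_iff ha.1 hb.1).mpr
    ⟨D.dih₁.V_comm hr hrC ha.2.1 hb.2.1, D.dih₂.comm_cyclic ha.2.2 hb.2.2⟩
  have hBQ : B ≤ Q := fun b hb => ⟨hb.1, hb.2.1, D.dih₂.le hb.2.2⟩
  have ht'P := D.le₂ (D.dih₂.le ht')
  have ht'Q : t' ∈ Q := right_le_prod le_rfl (D.dih₂.le ht')
  -- squares
  have hsqQ : ∀ p ∈ Q, p * p = D.snd p * D.snd p := fun p hp => by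
    rw [mul_coords hp.1 hp.1, D.dih₁.sq_of_mem_V hr hrC hp.2.1, one_mul]
  have hz : x⁻¹ * D.z₂ * x = D.z₂ := by
    have hp := hxiQ t' ht'Q
    have e : x⁻¹ * t' * x * (x⁻¹ * t' * x) = x⁻¹ * D.z₂ * x := by
      rw [show x⁻¹ * t' * x * (x⁻¹ * t' * x) = x⁻¹ * (t' * t') * x by group, htt']
    rw [hsqQ _ hp] at e
    by_cases hs : D.snd (x⁻¹ * t' * x) ∈ D.C₂
    · rcases D.dih₂.eq_zed (mul_mem hs hs) (by
        rw [e, show x⁻¹ * D.z₂ * x * (x⁻¹ * D.z₂ * x) = x⁻¹ * (D.z₂ * D.z₂) * x by group,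
          D.dih₂.zed_sq]; group) with h | h
      · exfalso
        rw [e] at h
        exact D.dih₂.zed_ne_one (by
          rw [show D.dih₂.zed = x * (x⁻¹ * D.z₂ * x) * x⁻¹ by group, h]; group)
      · rw [← e, h]
    · exfalso
      rw [D.dih₂.refl_sq (snd_mem hp.1) hs] at e
      exact D.dih₂.zed_ne_one (by
        rw [show D.dih₂.zed = x * (x⁻¹ * D.z₂ * x) * x⁻¹ by group, ← e]; group)
  have hBinv : ∀ b ∈ B, x * b * x⁻¹ ∈ B := by
    intro b hb
    have hp := hxiQ t' ht'Q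
    have hps : D.snd (x⁻¹ * t' * x) ∈ D.C₂ := by
      by_contra hs
      have e := hsqQ _ hp
      rw [D.dih₂.refl_sq (snd_mem hp.1) hs,
        show x⁻¹ * t' * x * (x⁻¹ * t' * x) = x⁻¹ * (t' * t') * x by group, htt', hz] at e
      exact D.dih₂.zed_ne_one e
    have hc := hBc b hb _ ⟨hp.1, hp.2.1, hps⟩
    have hc' : x * b * x⁻¹ * t' = t' * (x * b * x⁻¹) := by
      calc x * b * x⁻¹ * t' = x * (b * (x⁻¹ * t' * x)) * x⁻¹ := by group
        _ = x * (x⁻¹ * t' * x * b) * x⁻¹ := by rw [hc]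
        _ = _ := by group
    have hbx := hxQ b (hBQ hb)
    have hc2 := ((commute_iff hbx.1 ht'P).mp hc').2
    rw [snd_right (D.dih₂.le ht')] at hc2
    refine ⟨hbx.1, hbx.2.1, ?_⟩
    by_contra hf
    have h3 := D.dih₂.inverts (snd_mem hbx.1) hf ht'
    rw [hc2, mul_inv_cancel_right, eq_inv_iff_mul_eq_one, htt'] at h3
    exact D.dih₂.zed_ne_one h3
  -- the squares of `B` are fixed
  let S2 : Subgroup G :=
    { carrier := {w | ∃ c ∈ D.C₂, c * c = w}
      one_mem' := ⟨1, one_mem _, mul_one 1⟩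
      mul_mem' := by
        rintro _ _ ⟨a, ha, rfl⟩ ⟨b, hb, rfl⟩
        refine ⟨a * b, mul_mem ha hb, ?_⟩
        rw [show a * b * (a * b) = a * (b * a) * b by group, D.dih₂.comm_cyclic hb ha]
        group
      inv_mem' := by
        rintro _ ⟨a, ha, rfl⟩
        exact ⟨a⁻¹, inv_mem ha, by group⟩ }
  have hS2 : ∀ w ∈ S2, x * w * x⁻¹ = w := by
    refine fixed_of_fixed_invol (D.P.isPGroup'.to_le ?_) ?_ hodd ?_ ?_
    · rintro _ ⟨c, hc, rfl⟩; exact D.le₂ (D.dih₂.le (mul_mem hc hc))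
    · rintro _ ⟨a, ha, rfl⟩ _ ⟨b, hb, rfl⟩
      exact D.dih₂.comm_cyclic (mul_mem ha ha) (mul_mem hb hb)
    · rintro _ ⟨c, hc, rfl⟩
      have h := hBinv c (right_le_prod D.dih₂.le hc)
      refine ⟨_, h.2.2, ?_⟩
      rw [← hsqQ _ (hBQ h)]
      group
    · rintro _ ⟨c, hc, rfl⟩ h2
      rcases D.dih₂.eq_zed (mul_mem hc hc) h2 with e | e <;> rw [e]
      · simp
      · conv_lhs => rw [show D.dih₂.zed = x⁻¹ * D.z₂ * x from hz.symm]
        group
  have hsmall : ∀ b ∈ B, b⁻¹ * (x * b * x⁻¹) * (b⁻¹ * (x * b * x⁻¹)) = 1 := by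
    intro b hb
    have hxb := hBinv b hb
    have hfix := hS2 (b * b) ⟨D.snd b, hb.2.2, (hsqQ b (hBQ hb)).symm⟩
    calc b⁻¹ * (x * b * x⁻¹) * (b⁻¹ * (x * b * x⁻¹))
        = b⁻¹ * ((x * b * x⁻¹) * b⁻¹) * (x * b * x⁻¹) := by group
      _ = b⁻¹ * (b⁻¹ * (x * b * x⁻¹)) * (x * b * x⁻¹) := by rw [hBc _ hxb _ (inv_mem hb)]
      _ = (b * b)⁻¹ * (x * (b * b) * x⁻¹) := by group
      _ = 1 := by rw [hfix, inv_mul_cancel]
  intro q hq
  set h := q⁻¹ * (x * q * x⁻¹) with hh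
  have hqx := hxQ q hq
  have hhB : h ∈ B := by
    have hhQ : h ∈ Q := mul_mem (inv_mem hq) hqx
    refine ⟨hhQ.1, hhQ.2.1, ?_⟩
    rw [hh, snd_mul (inv_mem hq.1) hqx.1, snd_inv hq.1]
    by_cases hf : D.snd q ∈ D.C₂
    · exact mul_mem (inv_mem hf) (hBinv q ⟨hq.1, hq.2.1, hf⟩).2.2
    · have hf' : D.snd (x * q * x⁻¹) ∉ D.C₂ := by
        intro h'
        have hb := (mem_normalizer_of_conj_le hBinv)
        have h5 : q ∈ B := (mem_normalizer_iff.mp hb q).mpr ⟨hqx.1, hqx.2.1, h'⟩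
        exact hf h5.2.2
      rw [D.dih₂.refl_inv (snd_mem hq.1) hf]
      exact D.dih₂.mul _ (snd_mem hq.1) _ (snd_mem hqx.1) hf hf'
  have hh2 : h * h = 1 := by
    have hk : ∀ k : ℕ, ∃ z ∈ B, z * z = 1 ∧ x ^ k * q * (x ^ k)⁻¹ = q * h ^ k * z := by
      intro k
      induction k with
      | zero => exact ⟨1, one_mem _, one_mul 1, by simp⟩
      | succ k ih =>
        obtain ⟨z, hzB, hz2, hze⟩ := ih
        set w := (h ^ k)⁻¹ * (x * h ^ k * x⁻¹) with hw
        have hwB : w ∈ B := mul_mem (inv_mem (pow_mem hhB k)) (hBinv _ (pow_mem hhB k))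
        refine ⟨w * (x * z * x⁻¹), mul_mem hwB (hBinv z hzB), ?_, ?_⟩
        · calc w * (x * z * x⁻¹) * (w * (x * z * x⁻¹))
              = w * ((x * z * x⁻¹) * w) * (x * z * x⁻¹) := by group
            _ = w * (w * (x * z * x⁻¹)) * (x * z * x⁻¹) := by rw [hBc _ (hBinv z hzB) _ hwB]
            _ = w * w * (x * (z * z) * x⁻¹) := by group
            _ = 1 := by rw [hsmall _ (pow_mem hhB k), hz2]; group
        · calc x ^ (k + 1) * q * (x ^ (k + 1))⁻¹ = x * (x ^ k * q * (x ^ k)⁻¹) * x⁻¹ := by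
                rw [pow_succ']; group
            _ = (x * q * x⁻¹) * (x * h ^ k * x⁻¹) * (x * z * x⁻¹) := by rw [hze]; group
            _ = q * h ^ (k + 1) * (w * (x * z * x⁻¹)) := by
              rw [hw, pow_succ', show x * q * x⁻¹ = q * h by rw [hh]; group]; group
    obtain ⟨z, hzB, hz2, hze⟩ := hk (orderOf x)
    rw [pow_orderOf_eq_one] at hze
    simp only [one_mul, inv_one, mul_one] at hze
    rw [mul_assoc] at hze
    have h1 : h ^ orderOf x = z⁻¹ := eq_inv_of_mul_eq_one_left (mul_eq_left.mp hze.symm)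
    have h4 : (h * h) ^ orderOf x = 1 := by
      rw [← pow_two, ← pow_mul, mul_comm, pow_mul, h1, pow_two, ← mul_inv_rev, hz2, inv_one]
    exact eq_one_of_odd_of_mem (D.P.isPGroup'.to_le prod_le)
      (hodd.of_dvd_nat (orderOf_dvd_of_pow_eq_one h4)) (mul_mem hhB hhB)
  exact ⟨hhB.2.1, D.dih₂.eq_zed hhB.2.2 ((sq_iff hhB.1).mp hh2).2⟩

end DD

end Cfsg.Agent.ProdFus42
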