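import Cfsg.Agent.ProdFus42.DD.Moved

/-!
# No index two forces every class of reflections to be moved
-/

set_option autoImplicit false
set_option linter.style.haveILetI false
set_option linter.unusedSectionVars false

namespace Cfsg.Agent.ProdFus42

open Subgroup
open scoped Pointwise

variable {G : Type*} [Group G] [Finite G]

namespace DihLike

variable {S C : Subgroup G} (h : DihLike S C)
include h

/-- The subgroup of index two of `S` avoiding the class of the reflection `r`. -/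
theorem exists_half (h4 : 4 ∣ Nat.card C) {r : G} (hr : r ∈ S) (hrC : r ∉ C) :
    ∃ M : Subgroup G, h.zed ∈ M ∧ r ∉ M ∧ (∀ a ∈ S, ∀ b ∈ S, a ∉ M → b ∉ M → a * b ∈ M) ∧
      ∀ a ∈ S, a ∉ C → a ∉ M → ∃ d ∈ C, d * r * d⁻¹ = a := by
  obtain ⟨g, hg⟩ : ∃ g, g ∈ C ∧ ∀ x ∈ C, ∃ k : ℕ, g ^ k = x := h.exists_gen
  obtain ⟨hgC, hgen⟩ := hg
  let C2 : Subgroup G :=
    { carrier := {w | ∃ c ∈ C, c * c = w}
      one_mem' := ⟨1, one_mem _, mul_one 1⟩
      mul_mem' := by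
        rintro _ _ ⟨a, ha, rfl⟩ ⟨b, hb, rfl⟩
        refine ⟨a * b, mul_mem ha hb, ?_⟩
        rw [show a * b * (a * b) = a * (b * a) * b by group, h.comm_cyclic hb ha]
        group
      inv_mem' := by
        rintro _ ⟨a, ha, rfl⟩
        exact ⟨a⁻¹, inv_mem ha, by group⟩ }
  have hC2C : C2 ≤ C := by rintro _ ⟨c, hc, rfl⟩; exact mul_mem hc hc
  have hgn : g ∉ C2 := by
    rintro ⟨c, hc, hcg⟩
    obtain ⟨k, hk⟩ := hgen c hc
    haveI := Fact.mk Nat.prime_two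
    have h1 : g ^ (2 * k) = g ^ 1 := by rw [pow_one, two_mul, pow_add, hk, hcg]
    rw [pow_eq_pow_iff_modEq] at h1
    have hord : orderOf g = Nat.card C := by
      refine dvd_antisymm (C.orderOf_dvd_natCard hgC) ?_
      rw [← Nat.card_zpowers]
      refine card_dvd_of_le fun x hx => ?_
      obtain ⟨j, hj⟩ := hgen x hx
      exact ⟨j, by simpa using hj⟩
    rw [hord] at h1
    have h2 := h1.of_dvd (dvd_trans (by norm_num : 2 ∣ 4) h4)
    simp [Nat.ModEq] at h2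
  have hsplit : ∀ c ∈ C, c ∈ C2 ∨ g * c ∈ C2 := by
    intro c hc
    obtain ⟨k, hk⟩ := hgen c hc
    rcases Nat.even_or_odd k with ⟨j, hj⟩ | ⟨j, hj⟩
    · exact Or.inl ⟨g ^ j, pow_mem hgC j, by rw [← pow_add, ← hj, hk]⟩
    · exact Or.inr ⟨g ^ (j + 1), pow_mem hgC _, by
        rw [← pow_add, ← hk, ← pow_succ']; congr 1; omega⟩
  have hinv : ∀ x ∈ S, x ∉ C → ∀ w ∈ C2, x * w ∈ S ∧ x * w = w⁻¹ * x := fun x hx hxC w hw =>
    ⟨mul_mem hx (h.le (hC2C hw)), by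
      rw [← h.inverts hx hxC (hC2C hw), inv_mul_cancel_right]⟩
  -- membership in the half
  let P : G → Prop := fun a => (a ∈ C ∧ a ∈ C2) ∨ (a ∈ S ∧ a ∉ C ∧ g * (a * r) ∈ C2)
  have hkey : ∀ a b, P a → P b → P (a * b) := by
    rintro a b (⟨ha, ha'⟩ | ⟨ha, haC, ha'⟩) (⟨hb, hb'⟩ | ⟨hb, hbC, hb'⟩)
    · exact Or.inl ⟨mul_mem ha hb, mul_mem ha' hb'⟩
    · refine Or.inr ⟨mul_mem (h.le ha) hb, h.cyclic_mul_refl hbC ha, ?_⟩
      rw [show g * (a * b * r) = g * a * (b * r) by group, h.comm_cyclic hgC ha, mul_assoc]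
      exact mul_mem ha' hb'
    · refine Or.inr ⟨mul_mem ha (h.le hb), h.refl_mul_cyclic ha haC hb, ?_⟩
      have e : b * r = r * b⁻¹ := by
        rw [← h.inverts hr hrC hb, h.refl_inv hr hrC, ← mul_assoc, ← mul_assoc, h.refl_sq hr hrC,
          one_mul]
      rw [show g * (a * b * r) = g * a * (b * r) by group, e,
        show g * a * (r * b⁻¹) = g * (a * r) * b⁻¹ by group]
      exact mul_mem ha' (inv_mem hb')
    · refine Or.inl ⟨h.mul a ha b hb haC hbC, ?_⟩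
      have e : a * b = g * (a * r) * (g * (b * r))⁻¹ := by
        have hbr := h.mul b hb r hr hbC hrC
        have har := h.mul a ha r hr haC hrC
        rw [mul_inv_rev, show g * (a * r) * ((b * r)⁻¹ * g⁻¹) = g * (a * r * (b * r)⁻¹) * g⁻¹ by group,
          h.comm_cyclic hgC (mul_mem har (inv_mem hbr)), mul_inv_cancel_right, mul_inv_rev,
          h.refl_inv hb hbC, h.refl_inv hr hrC, show a * r * (r * b) = a * (r * r) * b by group,
          h.refl_sq hr hrC, mul_one]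
      rw [e]
      exact mul_mem ha' (inv_mem hb')
  let M : Subgroup G :=
    { carrier := {a | P a}
      one_mem' := Or.inl ⟨one_mem _, one_mem _⟩
      mul_mem' := fun {a b} ha hb => hkey a b ha hb
      inv_mem' := by
        rintro a (⟨ha, ha'⟩ | ⟨ha, haC, ha'⟩)
        · exact Or.inl ⟨inv_mem ha, inv_mem ha'⟩
        · rw [h.refl_inv ha haC]; exact Or.inr ⟨ha, haC, ha'⟩ }
  have hMC : ∀ a ∈ C, a ∉ M → g * a ∈ C2 := fun a ha hn =>
    (hsplit a ha).resolve_left fun h' => hn (Or.inl ⟨ha, h'⟩)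
  have hMr : ∀ a ∈ S, a ∉ C → a ∉ M → a * r ∈ C2 := fun a ha haC hn =>
    (hsplit _ (h.mul a ha r hr haC hrC)).resolve_right fun h' => hn (Or.inr ⟨ha, haC, h'⟩)
  refine ⟨M, Or.inl ⟨h.zed_mem, ?_⟩, ?_, ?_, fun a ha haC hn => ?_⟩
  · obtain ⟨t, htC, -, htt, -⟩ := h.exists_tau h4
    exact ⟨t, htC, htt⟩
  · rintro (⟨hC, -⟩ | ⟨-, -, hg'⟩)
    · exact hrC hC
    · rw [h.refl_sq hr hrC, mul_one] at hg'; exact hgn hg'
  · intro a ha b hb haM hbM
    by_cases haC : a ∈ C <;> by_cases hbC : b ∈ C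
    · refine Or.inl ⟨mul_mem haC hbC, ?_⟩
      have h1 := mul_mem (mul_mem (hMC a haC haM) (hMC b hbC hbM)) (inv_mem (⟨g, hgC, rfl⟩ : g * g ∈ C2))
      rwa [show g * a * (g * b) * (g * g)⁻¹ = g * (a * g) * b * (g * g)⁻¹ by group,
        ← h.comm_cyclic hgC haC, show g * (g * a) * b = g * g * (a * b) by group,
        h.comm_cyclic (mul_mem hgC hgC) (mul_mem haC hbC), mul_inv_cancel_right] at h1
    · refine Or.inr ⟨mul_mem ha hb, h.cyclic_mul_refl hbC haC, ?_⟩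
      rw [show g * (a * b * r) = g * a * (b * r) by group]
      exact mul_mem (hMC a haC haM) (hMr b hb hbC hbM)
    · refine Or.inr ⟨mul_mem ha hb, h.refl_mul_cyclic ha haC hbC, ?_⟩
      have e : b * r = r * b⁻¹ := by
        rw [← h.inverts hr hrC hbC, h.refl_inv hr hrC, ← mul_assoc, ← mul_assoc, h.refl_sq hr hrC,
          one_mul]
      have har := h.mul a ha r hr haC hrC
      rw [show g * (a * b * r) = g * a * (b * r) by group, e,
        show g * a * (r * b⁻¹) = g * (a * r) * b⁻¹ by group, h.comm_cyclic hgC har, mul_assoc]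
      refine mul_mem (hMr a ha haC haM) ?_
      have h1 := mul_mem (⟨g, hgC, rfl⟩ : g * g ∈ C2) (inv_mem (hMC b hbC hbM))
      rwa [mul_inv_rev, ← mul_assoc, mul_assoc g g,
        h.comm_cyclic hgC (inv_mem hbC), show g * (b⁻¹ * g) * g⁻¹ = g * b⁻¹ by group] at h1
    · refine Or.inl ⟨h.mul a ha b hb haC hbC, ?_⟩
      have h1 := mul_mem (hMr a ha haC haM) (inv_mem (hMr b hb hbC hbM))
      rwa [mul_inv_rev, h.refl_inv hb hbC, h.refl_inv hr hrC,
        show a * r * (r * b) = a * (r * r) * b by group, h.refl_sq hr hrC, mul_one] at h1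
  · obtain ⟨d, hd, hde⟩ := hMr a ha haC hn
    refine ⟨d, hd, ?_⟩
    rw [h.refl_conj hr hrC hd, hde, mul_assoc, h.refl_sq hr hrC, mul_one]

end DihLike

namespace DD

variable {D : DD G}

/-- Elements of the normaliser map a rank four subgroup with suitable coordinates into itself. -/
theorem odd_normalises_half (h₂ : 4 ∣ Nat.card D.C₂) {r : G} (hr : r ∈ D.D₁) (hrC : r ∉ D.C₁) {x : G}
    (hx : x ∈ normalizer ((D.prod (D.dih₁.V r) D.D₂ : Subgroup G) : Set G))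
    (hodd : Odd (orderOf x)) {r' u : G}
    (hle : D.eSub r' u ≤ D.prod (D.dih₁.V r) D.D₂) (hR : D.IsRefl r' u) :
    x ∈ normalizer (D.eSub r' u : Set G) := by
  refine mem_normalizer_of_conj_le fun e he => ?_
  obtain ⟨h1, h2⟩ := odd_half h₂ hr hrC hx hodd e (hle he)
  have hr' : r' ∈ D.dih₁.V r := by
    have := (hle (left_mem_eSub hR)).2.1
    rwa [fst_left hR.1.1] at this
  have hV := D.dih₁.V_congr hr hrC hr' hR.1.2
  have hqP : e⁻¹ * (x * e * x⁻¹) ∈ (D.P : Subgroup G) :=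
    mul_mem (inv_mem he.1) ((mem_normalizer_iff.mp hx e).mp (hle he)).1
  have hmem : e⁻¹ * (x * e * x⁻¹) ∈ D.eSub r' u := by
    refine ⟨hqP, hV.symm ▸ h1, ?_⟩
    rcases h2 with h | h <;> rw [h]
    exacts [one_mem _, D.dih₂.zed_mem_V u]
  simpa using mul_mem he hmem

theorem odd_normalises (h₁ : 4 ∣ Nat.card D.C₁) (h₂ : 4 ∣ Nat.card D.C₂) {Q : Subgroup G}
    (hQ : GoodSub D.P Q) {x : G} (hx : x ∈ normalizer (Q : Set G)) (hodd : Odd (orderOf x))
    {r u : G} (hR : D.IsRefl r u) (hle : D.eSub r u ≤ Q) : x ∈ normalizer (D.eSub r u : Set G) := by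
  obtain ⟨A, B, hA, hB, rfl⟩ := classify hQ
  rcases hA with rfl | ⟨r₀, hr₀, hr₀C, rfl⟩ <;> rcases hB with rfl | ⟨u₀, hu₀, hu₀C, rfl⟩
  · rw [prod_top] at hx hle
    refine mem_normalizer_of_conj_le fun e he => ?_
    rw [odd_full h₁ h₂ hx hodd e he.1]
    exact he
  · rw [← prod_swap] at hx hle
    rw [← eSub_swap] at hle ⊢
    exact odd_normalises_half (D := D.swap) h₁ hu₀ hu₀C hx hodd hle hR.swap
  · exact odd_normalises_half h₂ hr₀ hr₀C hx hodd hle hR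
  · have heq : D.eSub r u = D.prod (D.dih₁.V r₀) (D.dih₂.V u₀) :=
      eq_of_le_of_card_ge hle (by rw [card_eSub hR, ← eSub, card_eSub ⟨⟨hr₀, hr₀C⟩, hu₀, hu₀C⟩])
    rw [heq]; exact hx

open Classical in
/-- The character attached to a subgroup of index two of the first factor. -/
noncomputable def halfChar (D : DD G) {M : Subgroup G}
    (hM : ∀ a ∈ D.D₁, ∀ b ∈ D.D₁, a ∉ M → b ∉ M → a * b ∈ M) :
    (D.P : Subgroup G) →* Multiplicative (ZMod 2) :=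
  MonoidHom.mk' (fun x => if D.fst (x : G) ∈ M then 1 else Multiplicative.ofAdd 1) fun x y => by
    simp only [Subgroup.coe_mul, fst_mul x.2 y.2]
    by_cases hx : D.fst (x : G) ∈ M <;> by_cases hy : D.fst (y : G) ∈ M
    · simp [hx, hy, mul_mem hx hy]
    · rw [if_pos hx, if_neg hy, if_neg fun h => hy (by simpa using mul_mem (inv_mem hx) h)]
      simp
    · rw [if_neg hx, if_pos hy, if_neg fun h => hx (by simpa using mul_mem h (inv_mem hy))]
      simp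
    · rw [if_neg hx, if_neg hy, if_pos (hM _ (fst_mem x.2) _ (fst_mem y.2) hx hy)]
      decide

theorem halfChar_apply {M : Subgroup G}
    (hM : ∀ a ∈ D.D₁, ∀ b ∈ D.D₁, a ∉ M → b ∉ M → a * b ∈ M) {x y : (D.P : Subgroup G)}
    (h : D.fst (x : G) ∈ M ↔ D.fst (y : G) ∈ M) : D.halfChar hM x = D.halfChar hM y := by
  simp only [halfChar, MonoidHom.mk'_apply]
  by_cases hx : D.fst (x : G) ∈ M
  · rw [if_pos hx, if_pos (h.mp hx)]
  · rw [if_neg hx, if_neg fun hy => hx (h.mpr hy)]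

theorem moved_conj {d r u : G} (hd : d ∈ D.D₁) (h : D.Moved (d * r * d⁻¹) u) : D.Moved r u := by
  obtain ⟨n, hn, hne⟩ := h
  have hdP := D.le₁ hd
  have hc : D.z₁ * d = d * D.z₁ := z₁_central hdP
  have hV : ∀ a ∈ D.dih₁.V r, d * a * d⁻¹ ∈ D.dih₁.V (d * r * d⁻¹) := by
    intro a ha
    suffices D.dih₁.V r ≤ (D.dih₁.V (d * r * d⁻¹)).comap (MulAut.conj d).toMonoidHom from this ha
    refine (closure_le _).mpr ?_
    rintro w (rfl | rfl)
    · show d * D.z₁ * d⁻¹ ∈ D.dih₁.V (d * r * d⁻¹)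
      rw [← hc, mul_inv_cancel_right]
      exact D.dih₁.zed_mem_V _
    · exact D.dih₁.self_mem_V _
  have hE : ∀ e ∈ D.eSub r u, d * e * d⁻¹ ∈ D.eSub (d * r * d⁻¹) u := by
    intro e he
    have h1 : D.fst (d * e * d⁻¹) = d * D.fst e * d⁻¹ := by
      rw [fst_mul (mul_mem hdP he.1) (inv_mem hdP), fst_mul hdP he.1, fst_inv hdP, fst_left hd]
    have h2 : D.snd (d * e * d⁻¹) = D.snd e := by
      rw [snd_mul (mul_mem hdP he.1) (inv_mem hdP), snd_mul hdP he.1, snd_inv hdP, snd_left hd,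
        one_mul, inv_one, mul_one]
    exact ⟨mul_mem (mul_mem hdP he.1) (inv_mem hdP), h1 ▸ hV _ he.2.1, h2 ▸ he.2.2⟩
  have hcard : D.eSub (d * r * d⁻¹) u ≤ (D.eSub r u).map (MulAut.conj d).toMonoidHom := by
    intro w hw
    refine ⟨d⁻¹ * w * d, ?_, by simp [mul_assoc]⟩
    have hwP : d⁻¹ * w * d ∈ (D.P : Subgroup G) := mul_mem (mul_mem (inv_mem hdP) hw.1) hdP
    refine ⟨hwP, ?_, ?_⟩
    · rw [fst_mul (mul_mem (inv_mem hdP) hw.1) hdP, fst_mul (inv_mem hdP) hw.1, fst_inv hdP,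
        fst_left hd]
      suffices D.dih₁.V (d * r * d⁻¹) ≤ (D.dih₁.V r).comap (MulAut.conj d⁻¹).toMonoidHom by
        simpa using this hw.2.1
      refine (closure_le _).mpr ?_
      rintro v (rfl | rfl)
      · show d⁻¹ * D.z₁ * d⁻¹⁻¹ ∈ D.dih₁.V r
        rw [inv_inv, mul_assoc, hc, inv_mul_cancel_left]
        exact D.dih₁.zed_mem_V _
      · show d⁻¹ * (d * r * d⁻¹) * d⁻¹⁻¹ ∈ D.dih₁.V r
        rw [show d⁻¹ * (d * r * d⁻¹) * d⁻¹⁻¹ = r by group]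
        exact D.dih₁.self_mem_V _
    · rw [snd_mul (mul_mem (inv_mem hdP) hw.1) hdP, snd_mul (inv_mem hdP) hw.1, snd_inv hdP,
        snd_left hd, inv_one, one_mul, mul_one]
      exact hw.2.2
  refine ⟨d⁻¹ * n * d, mem_normalizer_of_conj_le fun e he => ?_, fun hfix => hne ?_⟩
  · obtain ⟨w, hw, hwe⟩ := hcard ((mem_normalizer_iff.mp hn _).mp (hE e he))
    have hwe' : d * w * d⁻¹ = n * (d * e * d⁻¹) * n⁻¹ := hwe
    rwa [show d⁻¹ * n * d * e * (d⁻¹ * n * d)⁻¹ = d⁻¹ * (n * (d * e * d⁻¹) * n⁻¹) * d by group,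
      ← hwe', show d⁻¹ * (d * w * d⁻¹) * d = w by group]
  · have hdz : d * D.z₁ * d⁻¹ = D.z₁ := by rw [← hc, mul_inv_cancel_right]
    calc n * D.z₁ * n⁻¹ = n * (d * D.z₁ * d⁻¹) * n⁻¹ := by rw [hdz]
      _ = d * (d⁻¹ * n * d * D.z₁ * (d⁻¹ * n * d)⁻¹) * d⁻¹ := by group
      _ = D.z₁ := by rw [hfix, hdz]

/-- Every class of reflections is moved in some rank four subgroup. -/
theorem exists_moved (h2 : ∀ N : Subgroup G, N.Normal → N.index ≠ 2) (h₁ : 4 ∣ Nat.card D.C₁)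
    {t : G} (ht : t ∈ D.C₁) (htr : ∀ a ∈ D.D₁, a ∉ D.C₁ → t * a * t⁻¹ = D.z₁ * a)
    (hne : ∀ g : G, g * D.z₁ * g⁻¹ ≠ D.z₂)
    (hodd : ∀ Q, GoodSub D.P Q → ∀ x ∈ normalizer (Q : Set G), Odd (orderOf x) →
      ∀ r u, D.IsRefl r u → D.eSub r u ≤ Q → x ∈ normalizer (D.eSub r u : Set G))
    {r : G} (hr : r ∈ D.D₁) (hrC : r ∉ D.C₁) : ∃ u, D.IsRefl r u ∧ D.Moved r u := by
  by_contra hno
  push Not at hno
  obtain ⟨M, hzM, hrM, hMM, hMconj⟩ := D.dih₁.exists_half h₁ hr hrC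
  have hE : ∀ r' u', D.IsRefl r' u' → ∀ n ∈ normalizer (D.eSub r' u' : Set G), ∀ e ∈ D.eSub r' u',
      (D.fst (n * e * n⁻¹) ∈ M ↔ D.fst e ∈ M) := by
    intro r' u' hR n hn e he
    have hne' := (mem_normalizer_iff.mp hn e).mp he
    by_cases hr'M : r' ∈ M
    · have hV : D.dih₁.V r' ≤ M := (closure_le _).mpr (by
        rintro w (rfl | rfl); exacts [hzM, hr'M])
      exact iff_of_true (hV hne'.2.1) (hV he.2.1)
    obtain ⟨d, hd, hde⟩ := hMconj r' hR.1.1 hR.1.2 hr'M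
    have hfix : n * D.z₁ * n⁻¹ = D.z₁ := by
      by_contra hc
      exact hno u' ⟨⟨hr, hrC⟩, hR.2⟩ (moved_conj (D.dih₁.le hd) (hde ▸ ⟨n, hn, hc⟩))
    obtain ⟨hTt, hform⟩ := isTrans_tau ht htr hR
    have hk : IsTrans (D.eSub r' u') (n * t * n⁻¹) D.z₁ := hfix ▸ hTt.conj_of_mem hn
    have hsame := sameAct_of_commute ht htr hne hR hk hTt (g₁ := 1) (g₂ := 1) (by simp) (by simp)
      hk.fix hTt.fix
    have hiff : t * (n * e * n⁻¹) * t⁻¹ = n * e * n⁻¹ ↔ t * e * t⁻¹ = e := by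
      rw [← hsame _ hne', show n * t * n⁻¹ * (n * e * n⁻¹) * (n * t * n⁻¹)⁻¹ = n * (t * e * t⁻¹) * n⁻¹
        by group]
      exact ⟨fun h => mul_left_cancel (mul_right_cancel h), fun h => by rw [h]⟩
    have hC : ∀ w ∈ D.eSub r' u', (D.fst w ∈ M ↔ t * w * t⁻¹ = w) := by
      intro w hw
      refine ⟨fun hM => (hform w hw).1 ?_, fun hfw => ?_⟩
      · by_contra hf
        rcases (D.dih₁.mem_V hR.1.1 hR.1.2).mp hw.2.1 with k | k | k | k
        · exact hf (k ▸ one_mem _)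
        · exact hf (k ▸ D.dih₁.zed_mem)
        · exact hr'M (k ▸ hM)
        · exact hr'M (inv_mul_cancel_left D.z₁ r' ▸ mul_mem (inv_mem hzM) (k ▸ hM))
      · have hf : D.fst w ∈ D.C₁ := by
          by_contra hf
          rw [(hform w hw).2 hf] at hfw
          exact D.dih₁.zed_ne_one (mul_eq_left.mp hfw)
        rcases D.dih₁.eq_zed hf ((sq_iff hw.1).mp (eSub_sq hR hw)).1 with k | k <;> rw [k]
        exacts [one_mem _, hzM]
    rw [hC _ hne', hiff, ← hC e he]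
  refine false_of_invariant h2 D.P (D.halfChar hMM) ⟨⟨r, D.le₁ hr⟩, ?_⟩ ?_
  · simp only [halfChar, MonoidHom.mk'_apply]
    rw [if_neg (by rwa [fst_left hr])]
    decide
  intro Q hQ
  set χ := D.halfChar hMM with hχ
  have hQN : ∀ y ∈ normalizer (Q : Set G), ∀ a ∈ Q, y * a * y⁻¹ ∈ (D.P : Subgroup G) :=
    fun y hy a ha => hQ.le ((mem_normalizer_iff.mp hy a).mp ha)
  let K : Subgroup G :=
    { carrier := {y | ∃ hy : y ∈ normalizer (Q : Set G), ∀ a (ha : a ∈ Q),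
        χ ⟨y * a * y⁻¹, hQN y hy a ha⟩ = χ ⟨a, hQ.le ha⟩}
      one_mem' := ⟨one_mem _, fun a ha => congrArg χ (Subtype.ext (by simp))⟩
      mul_mem' := by
        rintro a b ⟨ha, ha'⟩ ⟨hb, hb'⟩
        refine ⟨mul_mem ha hb, fun q hq => ?_⟩
        have h1 := ha' _ ((mem_normalizer_iff.mp hb q).mp hq)
        rw [← hb' q hq, ← h1]
        exact congrArg χ (Subtype.ext (by group))
      inv_mem' := by
        rintro a ⟨ha, ha'⟩
        refine ⟨inv_mem ha, fun q hq => ?_⟩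
        have hq' : a⁻¹ * q * a⁻¹⁻¹ ∈ Q := (mem_normalizer_iff.mp (inv_mem ha) q).mp hq
        rw [← ha' _ hq']
        exact congrArg χ (Subtype.ext (by group)) }
  have hK : normalizer (Q : Set G) ≤ K := by
    refine normalizer_le hQ.fully (fun y hy => ⟨hy.2, fun a ha => ?_⟩) fun x hx hxodd => ⟨hx, ?_⟩
    · have e : (⟨y * a * y⁻¹, hQN y hy.2 a ha⟩ : (D.P : Subgroup G)) =
          ⟨y, hy.1⟩ * ⟨a, hQ.le ha⟩ * ⟨y, hy.1⟩⁻¹ := rfl
      rw [e, map_mul, map_mul, map_inv, mul_comm (χ ⟨y, hy.1⟩), mul_inv_cancel_right]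
    let Kx : Subgroup G :=
      { carrier := {a | ∃ ha : a ∈ Q, χ ⟨x * a * x⁻¹, hQN x hx a ha⟩ = χ ⟨a, hQ.le ha⟩}
        one_mem' := ⟨one_mem _, congrArg χ (Subtype.ext (by simp))⟩
        mul_mem' := by
          rintro a b ⟨ha, ha'⟩ ⟨hb, hb'⟩
          refine ⟨mul_mem ha hb, ?_⟩
          have e : (⟨x * (a * b) * x⁻¹, hQN x hx _ (mul_mem ha hb)⟩ : (D.P : Subgroup G)) =
              ⟨x * a * x⁻¹, hQN x hx a ha⟩ * ⟨x * b * x⁻¹, hQN x hx b hb⟩ :=
            Subtype.ext (by simp [mul_assoc])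
          rw [e, map_mul, ha', hb', ← map_mul]
          rfl
        inv_mem' := by
          rintro a ⟨ha, ha'⟩
          refine ⟨inv_mem ha, ?_⟩
          have e : (⟨x * a⁻¹ * x⁻¹, hQN x hx _ (inv_mem ha)⟩ : (D.P : Subgroup G)) =
              ⟨x * a * x⁻¹, hQN x hx a ha⟩⁻¹ := Subtype.ext (by simp [mul_assoc])
          rw [e, map_inv, ha', ← map_inv]
          rfl }
    have hEK : ∀ r' u', D.IsRefl r' u' → D.eSub r' u' ≤ Q → D.eSub r' u' ≤ Kx :=
      fun r' u' hR hle e he => ⟨hle he, halfChar_apply hMM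
        (hE r' u' hR x (hodd Q hQ x hx hxodd r' u' hR hle) e he)⟩
    obtain ⟨A, B, hA, hB, hQe⟩ := classify hQ
    have hall : Q ≤ Kx := by
      obtain ⟨u₀, hu₀, hu₀C, hu₀B⟩ : ∃ u₀ ∈ D.D₂, u₀ ∉ D.C₂ ∧ D.dih₂.V u₀ ≤ B := by
        rcases hB with rfl | ⟨u, hu, huC, rfl⟩
        · obtain ⟨u, hu, huC⟩ := D.dih₂.out
          exact ⟨u, hu, huC, D.dih₂.V_le hu⟩
        · exact ⟨u, hu, huC, le_rfl⟩
      obtain ⟨r₀, hr₀, hr₀C, hr₀A⟩ : ∃ r₀ ∈ D.D₁, r₀ ∉ D.C₁ ∧ D.dih₁.V r₀ ≤ A := by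
        rcases hA with rfl | ⟨r₁, hr₁, hr₁C, rfl⟩
        · exact ⟨r, hr, hrC, D.dih₁.V_le hr⟩
        · exact ⟨r₁, hr₁, hr₁C, le_rfl⟩
      have hsub : ∀ r' u', r' ∈ D.D₁ → r' ∉ D.C₁ → u' ∈ D.D₂ → u' ∉ D.C₂ → D.dih₁.V r' ≤ A →
          D.dih₂.V u' ≤ B → D.eSub r' u' ≤ Kx := fun r' u' h1 h1' h2' h2'' hA' hB' =>
        hEK r' u' ⟨⟨h1, h1'⟩, h2', h2''⟩ fun e he => hQe.symm ▸ ⟨he.1, hA' he.2.1, hB' he.2.2⟩
      have hleft : ∀ a ∈ D.D₁, a ∉ D.C₁ → D.dih₁.V a ≤ A → a ∈ Kx := fun a ha haC hA' =>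
        hsub a u₀ ha haC hu₀ hu₀C hA' hu₀B (left_mem_eSub ⟨⟨ha, haC⟩, hu₀, hu₀C⟩)
      have hright : ∀ b ∈ D.D₂, b ∉ D.C₂ → D.dih₂.V b ≤ B → b ∈ Kx := fun b hb hbC hB' =>
        hsub r₀ b hr₀ hr₀C hb hbC hr₀A hB' (eSub_swap (D := D) r₀ b ▸
          left_mem_eSub (D := D.swap) ⟨⟨hb, hbC⟩, hr₀, hr₀C⟩)
      have hz : D.z₁ ∈ Kx ∧ D.z₂ ∈ Kx := ⟨hsub r₀ u₀ hr₀ hr₀C hu₀ hu₀C hr₀A hu₀B (z₁_mem_eSub _ _),
        hsub r₀ u₀ hr₀ hr₀C hu₀ hu₀C hr₀A hu₀B (z₂_mem_eSub _ _)⟩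
      have hAK : ∀ a ∈ A, a ∈ Kx := by
        rcases hA with hA | ⟨r₁, hr₁, hr₁C, hA⟩
        · subst hA
          intro a ha
          have hV : ∀ v ∈ D.D₁, v ∉ D.C₁ → v ∈ Kx := fun v hv hvC =>
            hleft v hv hvC (D.dih₁.V_le hv)
          by_cases haC : a ∈ D.C₁
          · have := mul_mem (hV _ (mul_mem ha hr₀) (D.dih₁.cyclic_mul_refl hr₀C haC))
              (hV r₀ hr₀ hr₀C)
            rwa [mul_assoc, D.dih₁.refl_sq hr₀ hr₀C, mul_one] at this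
          · exact hV a ha haC
        · subst hA
          intro a ha
          have h1 : D.dih₁.V r₁ ≤ Kx := (closure_le _).mpr (by
            rintro w (rfl | rfl); exacts [hz.1, hleft _ hr₁ hr₁C le_rfl])
          exact h1 ha
      have hBK : ∀ b ∈ B, b ∈ Kx := by
        rcases hB with hB | ⟨u₁, hu₁, hu₁C, hB⟩
        · subst hB
          intro b hb
          have hV : ∀ v ∈ D.D₂, v ∉ D.C₂ → v ∈ Kx := fun v hv hvC =>
            hright v hv hvC (D.dih₂.V_le hv)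
          by_cases hbC : b ∈ D.C₂
          · have := mul_mem (hV _ (mul_mem hb hu₀) (D.dih₂.cyclic_mul_refl hu₀C hbC))
              (hV u₀ hu₀ hu₀C)
            rwa [mul_assoc, D.dih₂.refl_sq hu₀ hu₀C, mul_one] at this
          · exact hV b hb hbC
        · subst hB
          intro b hb
          have h1 : D.dih₂.V u₁ ≤ Kx := (closure_le _).mpr (by
            rintro w (rfl | rfl); exacts [hz.2, hright _ hu₁ hu₁C le_rfl])
          exact h1 hb
      intro q hq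
      rw [← fst_mul_snd (hQ.le hq)]
      have hq' : q ∈ D.prod A B := hQe ▸ hq
      exact mul_mem (hAK _ hq'.2.1) (hBK _ hq'.2.2)
    intro a ha
    obtain ⟨_, h⟩ := hall ha
    exact h
  intro x hx a ha haP hbP
  obtain ⟨_, h⟩ := hK (inv_mem hx)
  rw [← h a ha]
  exact congrArg χ (Subtype.ext (by group))

end DD

end Cfsg.Agent.ProdFus42
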