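import Cfsg.Agent.ProdFus42.DD.Parity

/-!
# Two nonabelian factors: every rank four subgroup moves both involutions
-/

set_option autoImplicit false
set_option linter.style.haveILetI false
set_option linter.unusedSectionVars false

namespace Cfsg.Agent.ProdFus42.DD

open Subgroup
open scoped Pointwise

variable {G : Type*} [Group G] [Finite G] {D : DD G}

theorem z₁_ne_z₂ : D.z₁ ≠ D.z₂ := fun e => D.dih₁.zed_ne_one (by
  have h := congrArg D.fst e
  rwa [fst_left D.dih₁.zed_mem', fst_right D.dih₂.zed_mem'] at h)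

theorem z₁_ne_mul : D.z₁ ≠ D.z₁ * D.z₂ := fun e => D.dih₂.zed_ne_one (mul_eq_left.mp e.symm)

theorem not_conj_central (h₁ : 4 ∣ Nat.card D.C₁) {g y : G}
    (hy : ∀ w ∈ (D.P : Subgroup G), y * w = w * y) (hg : g * D.z₁ * g⁻¹ = y) : y = D.z₁ := by
  obtain ⟨n, hn, hne⟩ := burnside D.P (A := {D.z₁}) (g := g)
    (by rintro a rfl w hw; exact z₁_central hw) (by rintro a rfl w hw; rw [hg]; exact hy w hw)
  rw [← hg, ← hne D.z₁ rfl]
  exact z₁_fixed h₁ hn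

theorem ne_z₂ (h₁ : 4 ∣ Nat.card D.C₁) (g : G) : g * D.z₁ * g⁻¹ ≠ D.z₂ := fun h =>
  z₁_ne_z₂ (not_conj_central h₁ (fun _ hw => z₁_central (D := D.swap) hw) h).symm

theorem ne_mul (h₁ : 4 ∣ Nat.card D.C₁) (g : G) : g * D.z₁ * g⁻¹ ≠ D.z₁ * D.z₂ := fun h => by
  refine z₁_ne_mul (D := D) (not_conj_central h₁ (fun w hw => ?_) h).symm
  have e1 : D.z₁ * w = w * D.z₁ := z₁_central hw
  have e2 : D.z₂ * w = w * D.z₂ := z₁_central (D := D.swap) hw
  rw [mul_assoc, e2, ← mul_assoc, e1, mul_assoc]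

theorem ne_z₂_swap (h₁ : 4 ∣ Nat.card D.C₁) (g : G) : g * D.swap.z₁ * g⁻¹ ≠ D.swap.z₂ := fun h =>
  ne_z₂ h₁ g⁻¹ (by
    show g⁻¹ * D.z₁ * g⁻¹⁻¹ = D.z₂
    rw [← show g * D.z₂ * g⁻¹ = D.z₁ from h]
    group)

theorem mem_of_pow_coprime {H : Subgroup G} {x : G} {a b : ℕ} (hab : Nat.Coprime a b)
    (ha : x ^ a ∈ H) (hb : x ^ b ∈ H) : x ∈ H := by
  have h := Nat.gcd_eq_gcd_ab a b
  rw [hab.gcd_eq_one] at h
  have hx : x = (x ^ a) ^ (Nat.gcdA a b) * (x ^ b) ^ (Nat.gcdB a b) := by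
    rw [← zpow_natCast, ← zpow_natCast, ← zpow_mul, ← zpow_mul, ← zpow_add, ← h]
    simp
  rw [hx]
  exact mul_mem (zpow_mem ha _) (zpow_mem hb _)

section
variable (h₁ : 4 ∣ Nat.card D.C₁) (h₂ : 4 ∣ Nat.card D.C₂)
  (h2 : ∀ N : Subgroup G, N.Normal → N.index ≠ 2)
include h₁ h₂ h2

theorem exists_moved₁ {r : G} (hr : r ∈ D.D₁) (hrC : r ∉ D.C₁) :
    ∃ u, D.IsRefl r u ∧ D.Moved r u := by
  obtain ⟨t, ht, -, -, htr⟩ := D.dih₁.exists_tau h₁
  exact exists_moved h2 h₁ ht htr (ne_z₂ h₁)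
    (fun Q hQ x hx hodd r' u' hR hle => odd_normalises h₁ h₂ hQ hx hodd hR hle) hr hrC

/-- An element with a reflection in the second coordinate and a central one in the first is not
conjugate to `z₁`. -/
theorem not_conj_of_second {y : G} (hy : y ∈ (D.P : Subgroup G))
    (hyf : D.fst y = 1 ∨ D.fst y = D.z₁) (hys : D.snd y ∉ D.C₂) (g : G) :
    g * D.z₁ * g⁻¹ ≠ y := by
  intro hg
  obtain ⟨t, ht, -, -, htr⟩ := D.dih₁.exists_tau h₁
  obtain ⟨t', ht', -, -, htr'⟩ := D.dih₂.exists_tau h₂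
  obtain ⟨r', hR', hm⟩ := exists_moved₁ (D := D.swap) h₂ h₁ h2 (r := D.snd y) (snd_mem hy) hys
  obtain ⟨m, hm, hd⟩ := hm
  have hR : D.IsRefl r' (D.snd y) := hR'.swap
  have hmE : m ∈ normalizer (D.eSub r' (D.snd y) : Set G) := by rw [← eSub_swap]; exact hm
  obtain ⟨hl, hlz, hdf, htd⟩ :=
    moved_centre (D := D.swap) ht' htr' (ne_z₂_swap h₁) hR' hm hd
  obtain ⟨htd2, hlz1⟩ := other_fixed ht htr (ne_z₂ h₁) hR ht' htr' (one_mem _) hmE
  simp only [one_mul, inv_one, mul_one] at htd2 hlz1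
  rw [eSub_swap] at hl
  replace hl : IsTrans (D.eSub r' (D.snd y)) (m * t' * m⁻¹) (m * D.z₂ * m⁻¹) := hl
  replace hlz : m * t' * m⁻¹ * D.z₂ * (m * t' * m⁻¹)⁻¹ = D.z₂ * (m * D.z₂ * m⁻¹) := hlz
  replace hdf : D.swap.fst (m * D.z₂ * m⁻¹) ∉ D.C₂ := hdf
  replace htd : t' * (m * D.z₂ * m⁻¹) * t'⁻¹ = m * D.z₂ * m⁻¹ * D.z₂ := htd
  set l := m * t' * m⁻¹
  set d := m * D.z₂ * m⁻¹
  have hdE := hl.centre_mem
  obtain ⟨-, hform⟩ := isTrans_tau ht htr hR
  rw [fst_swap (D := D) hdE.1] at hdf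
  have hfd : D.fst d = 1 ∨ D.fst d = D.z₁ := by
    refine D.dih₁.eq_zed ?_ ((sq_iff hdE.1).mp (eSub_sq hR hdE)).1
    by_contra h
    have h2 := (hform d hdE).2 h
    rw [htd2] at h2
    exact D.dih₁.zed_ne_one (mul_eq_left.mp h2.symm)
  -- `y` is `z₁^i d` or `z₁^i z₂ d`
  have hcase : ∃ a, (a = 1 ∨ a = D.z₁) ∧ (y = a * d ∨ y = a * (D.z₂ * d)) := by
    refine ⟨D.fst y * (D.fst d)⁻¹, ?_, ?_⟩
    · rcases hyf with k | k <;> rcases hfd with k' | k' <;> rw [k, k'] <;>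
        simp [Involution.inv_of_orderOf D.dih₁.orderOf_zed, D.dih₁.zed_sq]
    · have hs := hdE.2.2
      rcases (D.dih₂.mem_V hR.2.1 hR.2.2).mp hs with k | k | k | k
      · exact absurd (k ▸ one_mem _) hdf
      · exact absurd (k ▸ D.dih₂.zed_mem) hdf
      · left
        calc y = D.fst y * D.snd y := (fst_mul_snd hy).symm
          _ = D.fst y * (D.fst d)⁻¹ * (D.fst d * D.snd d) := by rw [k]; group
          _ = _ := by rw [fst_mul_snd hdE.1]
      · right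
        have hc : D.z₂ * D.fst d = D.fst d * D.z₂ :=
          (D.comm _ (fst_mem hdE.1) _ D.dih₂.zed_mem').symm
        have hk : D.snd y = D.z₂ * D.snd d := by
          rw [k, ← mul_assoc, D.dih₂.zed_sq, one_mul]
        calc y = D.fst y * D.snd y := (fst_mul_snd hy).symm
          _ = D.fst y * (D.fst d)⁻¹ * (D.fst d * D.z₂) * D.snd d := by rw [hk]; group
          _ = D.fst y * (D.fst d)⁻¹ * (D.z₂ * (D.fst d * D.snd d)) := by rw [← hc]; group
          _ = _ := by rw [fst_mul_snd hdE.1]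
  obtain ⟨a, ha, hay⟩ := hcase
  have ht'z1 : t' * D.z₁ * t'⁻¹ = D.z₁ := by
    rw [← z₁_central (D.le₂ (D.dih₂.le ht')), mul_inv_cancel_right]
  have hfixa : ∀ v, v * D.z₁ * v⁻¹ = D.z₁ → v * a * v⁻¹ = a := by
    intro v hv; rcases ha with rfl | rfl
    · simp
    · exact hv
  have hzd : D.z₂ * d = d * D.z₂ := eSub_comm hR (z₂_mem_eSub _ _) hdE
  have hl3 : l * (D.z₂ * d) * l⁻¹ = D.z₂ := by
    rw [show l * (D.z₂ * d) * l⁻¹ = l * D.z₂ * l⁻¹ * (l * d * l⁻¹) by group, hlz, hl.fix, mul_assoc,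
      eSub_sq hR hdE, mul_one]
  obtain ⟨v, hv⟩ : ∃ v, v * y * v⁻¹ = a * D.z₂ := by
    rcases hay with k | k
    · refine ⟨l * t', ?_⟩
      rw [k, show l * t' * (a * d) * (l * t')⁻¹ =
        l * (t' * a * t'⁻¹) * l⁻¹ * (l * (t' * d * t'⁻¹) * l⁻¹) by group, hfixa t' ht'z1,
        hfixa l hlz1, htd, ← hzd, hl3]
    · refine ⟨l, ?_⟩
      rw [k, show l * (a * (D.z₂ * d)) * l⁻¹ = l * a * l⁻¹ * (l * (D.z₂ * d) * l⁻¹) by group,
        hfixa l hlz1, hl3]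
  have hfin : v * g * D.z₁ * (v * g)⁻¹ = a * D.z₂ := by rw [← hv, ← hg]; group
  rcases ha with rfl | rfl
  · rw [one_mul] at hfin; exact ne_z₂ h₁ _ hfin
  · exact ne_mul h₁ _ hfin

/-- Every rank four subgroup moves the first involution. -/
theorem moved_all {r u : G} (hR : D.IsRefl r u) : D.Moved r u := by
  haveI := Fact.mk Nat.prime_two
  obtain ⟨t, ht, -, -, htr⟩ := D.dih₁.exists_tau h₁
  obtain ⟨t', ht', -, -, htr'⟩ := D.dih₂.exists_tau h₂
  obtain ⟨u₁, hR₁, hn₁⟩ := exists_moved₁ h₁ h₂ h2 hR.1.1 hR.1.2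
  obtain ⟨n, hn, hc⟩ := hn₁
  obtain ⟨hk, hkz, hcf, htc⟩ := moved_centre ht htr (ne_z₂ h₁) hR₁ hn hc
  obtain ⟨hkz2, ht'c⟩ := other_fixed ht htr (ne_z₂ h₁) hR₁ ht' htr' hn (one_mem _)
  simp only [one_mul, inv_one, mul_one] at hkz2 ht'c
  set k := n * t * n⁻¹ with hkdef
  set c := n * D.z₁ * n⁻¹ with hcdef
  have hcE := hk.centre_mem
  obtain ⟨-, hform'⟩ := isTrans_tau (D := D.swap) ht' htr' hR₁.swap
  have hsc : D.snd c = 1 ∨ D.snd c = D.z₂ := by
    refine D.dih₂.eq_zed ?_ ((sq_iff hcE.1).mp (eSub_sq hR₁ hcE)).2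
    by_contra h
    have h3 := (hform' c (by rw [eSub_swap]; exact hcE)).2 (by rwa [fst_swap (D := D) hcE.1])
    rw [ht'c] at h3
    exact D.dih₂.zed_ne_one (mul_eq_left.mp h3.symm)
  have hfc : D.fst c ∈ D.dih₁.V r := hcE.2.1
  -- the rank three subgroup
  set H := Subgroup.closure ({D.z₁, c, D.z₂} : Set G) with hH
  have hHE : H ≤ D.eSub r u₁ := (closure_le _).mpr (by
    rintro w (rfl | rfl | rfl); exacts [z₁_mem_eSub _ _, hcE, z₂_mem_eSub _ _])
  set rho := k * t with hrho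
  have htz1 : t * D.z₁ * t⁻¹ = D.z₁ := by
    rw [← z₁_central (D.le₁ (D.dih₁.le ht)), mul_inv_cancel_right]
  have htz2 : t * D.z₂ * t⁻¹ = D.z₂ := by
    have e : D.z₂ * t = t * D.z₂ := z₁_central (D := D.swap) (D.le₁ (D.dih₁.le ht))
    rw [← e, mul_inv_cancel_right]
  have hzc : D.z₁ * c = c * D.z₁ := eSub_comm hR₁ (z₁_mem_eSub _ _) hcE
  have hρ1 : rho * D.z₁ * rho⁻¹ = D.z₁ * c := by
    rw [hrho, show k * t * D.z₁ * (k * t)⁻¹ = k * (t * D.z₁ * t⁻¹) * k⁻¹ by group, htz1, hkz]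
  have hρc : rho * c * rho⁻¹ = D.z₁ := by
    rw [hrho, show k * t * c * (k * t)⁻¹ = k * (t * c * t⁻¹) * k⁻¹ by group, htc, ← hzc,
      show k * (D.z₁ * c) * k⁻¹ = k * D.z₁ * k⁻¹ * (k * c * k⁻¹) by group, hkz, hk.fix, mul_assoc,
      eSub_sq hR₁ hcE, mul_one]
  have hρ2 : rho * D.z₂ * rho⁻¹ = D.z₂ := by
    rw [hrho, show k * t * D.z₂ * (k * t)⁻¹ = k * (t * D.z₂ * t⁻¹) * k⁻¹ by group, htz2, hkz2]
  have hρN : rho ∈ normalizer (H : Set G) := by
    refine mem_normalizer_of_conj_le fun y hy => ?_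
    suffices H ≤ H.comap (MulAut.conj rho).toMonoidHom from this hy
    refine (closure_le _).mpr ?_
    rintro w (rfl | rfl | rfl)
    · show rho * D.z₁ * rho⁻¹ ∈ H
      rw [hρ1]; exact mul_mem (subset_closure (by simp)) (subset_closure (by simp))
    · show rho * c * rho⁻¹ ∈ H
      rw [hρc]; exact subset_closure (by simp)
    · show rho * D.z₂ * rho⁻¹ ∈ H
      rw [hρ2]; exact subset_closure (by simp)
  -- its centraliser
  set Q₀ := D.prod (D.dih₁.V r) D.D₂ with hQ₀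
  set C := centralizer (H : Set G) with hC
  have hHQ : ∀ w ∈ H, D.fst w ∈ D.dih₁.V r ∧ (D.snd w = 1 ∨ D.snd w = D.z₂) := by
    intro w hw
    refine ⟨(hHE hw).2.1, ?_⟩
    have hle : H ≤ D.prod D.D₁ (zpowers D.z₂) := (closure_le _).mpr (by
      rintro v (rfl | rfl | rfl)
      · exact left_le_prod le_rfl D.dih₁.zed_mem'
      · refine ⟨hcE.1, fst_mem hcE.1, ?_⟩
        rcases hsc with k | k <;> rw [k]
        exacts [one_mem _, mem_zpowers _]
      · exact right_le_prod (zpowers_le.mpr D.dih₂.zed_mem') (mem_zpowers _))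
    have h3 : zpowers D.z₂ ≤ D.C₂ := zpowers_le.mpr D.dih₂.zed_mem
    exact D.dih₂.eq_zed (h3 (hle hw).2.2) ((sq_iff (hHE hw).1).mp (eSub_sq hR₁ (hHE hw))).2
  have hQC : Q₀ ≤ C := by
    intro q hq
    refine mem_centralizer_iff.mpr fun w hw => ?_
    obtain ⟨h1, h3⟩ := hHQ w hw
    refine (commute_iff (hHE hw).1 hq.1).mpr ⟨D.dih₁.V_comm hR.1.1 hR.1.2 h1 hq.2.1, ?_⟩
    rcases h3 with e | e <;> rw [e]
    · simp
    · exact (D.dih₂.zed_comm hq.2.2).symm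
  have hCz : ∀ x ∈ C, x * D.z₂ = D.z₂ * x := fun x hx =>
    (mem_centralizer_iff.mp hx D.z₂ (subset_closure (by simp))).symm
  obtain ⟨R, hQR⟩ := ((D.P.isPGroup'.to_le prod_le).of_equiv (subgroupOfEquivOfLe hQC).symm :
    IsPGroup 2 (Q₀.subgroupOf C)).exists_le_sylow
  set C' := centralizer ({D.z₂} : Set G) with hC'
  have hPC' : (D.P : Subgroup G) ≤ C' := fun y hy => mem_centralizer_singleton_iff.mpr
    (z₁_central (D := D.swap) hy).symm
  have hRC' : (R : Subgroup C).map C.subtype ≤ C' := by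
    rintro _ ⟨x, -, rfl⟩
    exact mem_centralizer_singleton_iff.mpr (hCz _ x.2)
  obtain ⟨T, hT⟩ := ((R.isPGroup'.map C.subtype).of_equiv (subgroupOfEquivOfLe hRC').symm :
    IsPGroup 2 (((R : Subgroup C).map C.subtype).subgroupOf C')).exists_le_sylow
  obtain ⟨g, hg⟩ := MulAction.exists_smul_eq C' T (D.P.subtype hPC')
  have hgR : ∀ x : C, x ∈ R → (g : G) * x * (g : G)⁻¹ ∈ (D.P : Subgroup G) := by
    intro x hx
    have h1 := Involution.conj_mem_sylow_smul g (hT (show (⟨x, hRC' (mem_map_of_mem _ hx)⟩ : C') ∈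
      ((R : Subgroup C).map C.subtype).subgroupOf C' from mem_map_of_mem _ hx))
    rw [hg] at h1
    exact h1
  have hHR : ∀ w ∈ H, ∃ hw : w ∈ C, (⟨w, hw⟩ : C) ∈ R := by
    intro w hw
    obtain ⟨h1, h3⟩ := hHQ w hw
    have hwQ : w ∈ Q₀ := ⟨(hHE hw).1, h1, snd_mem (hHE hw).1⟩
    exact ⟨hQC hwQ, hQR hwQ⟩
  -- some conjugate of an element of `{z₁, c, z₁ c}` has a reflection as first coordinate
  obtain ⟨w, hw, hwf⟩ : ∃ w ∈ H, D.fst ((g : G) * w * (g : G)⁻¹) ∉ D.C₁ := by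
    by_contra hno
    push Not at hno
    have hone : ∀ w ∈ H, (∃ v : G, v * D.z₁ * v⁻¹ = w) → (g : G) * w * (g : G)⁻¹ = D.z₁ := by
      intro w hw hconj
      obtain ⟨v, hv⟩ := hconj
      obtain ⟨hwC, hwR⟩ := hHR w hw
      have hyP := hgR _ hwR
      set y := (g : G) * w * (g : G)⁻¹
      have hgv : (g : G) * v * D.z₁ * ((g : G) * v)⁻¹ = y := by
        show _ = (g : G) * w * (g : G)⁻¹
        rw [← hv]; group
      have hy2 : y * y = 1 := by
        show (g : G) * w * (g : G)⁻¹ * ((g : G) * w * (g : G)⁻¹) = 1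
        rw [show (g : G) * w * (g : G)⁻¹ * ((g : G) * w * (g : G)⁻¹) = g * (w * w) * (g : G)⁻¹ by group,
          eSub_sq hR₁ (hHE hw)]
        group
      obtain ⟨s1, s2⟩ := (sq_iff hyP).mp hy2
      have hf := D.dih₁.eq_zed (hno w hw) s1
      by_cases hs : D.snd y ∈ D.C₂
      · refine not_conj_central h₁ (fun x hx => (commute_iff hyP hx).mpr ⟨?_, ?_⟩) hgv
        · rcases hf with e | e <;> rw [e]
          · simp
          · exact (D.dih₁.zed_comm (fst_mem hx)).symm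
        · rcases D.dih₂.eq_zed hs s2 with e | e <;> rw [e]
          · simp
          · exact (D.dih₂.zed_comm (snd_mem hx)).symm
      · exact absurd hgv (not_conj_of_second h₁ h₂ h2 hyP hf hs _)
    have h3 := hone D.z₁ (subset_closure (by simp)) ⟨1, by simp⟩
    have h4 := hone c (subset_closure (by simp)) ⟨n, rfl⟩
    replace h3 := h3.trans h4.symm
    have e : D.z₁ = c := mul_left_cancel (mul_right_cancel h3)
    refine hcf ?_
    rw [show D.fst c = D.fst D.z₁ by rw [e], fst_left D.dih₁.zed_mem']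
    exact D.dih₁.zed_mem
  obtain ⟨hwC, hwR⟩ := hHR w hw
  set y := (g : G) * w * (g : G)⁻¹ with hy
  have hyP := hgR _ hwR
  have hVy : D.fst y ∈ D.D₁ := fst_mem hyP
  have hbound : Nat.card (R : Subgroup C) ≤ Nat.card Q₀ := by
    calc Nat.card (R : Subgroup C)
        ≤ Nat.card (D.prod (D.dih₁.V (D.fst y)) D.D₂) := by
          refine Nat.card_le_card_of_injective (fun x => ⟨(g : G) * (x : C) * (g : G)⁻¹,
            hgR _ x.2, ?_, snd_mem (hgR _ x.2)⟩) fun a b hab => ?_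
          · refine D.dih₁.mem_V_of_commute hVy hwf (fst_mem (hgR _ x.2)) ?_
            refine ((commute_iff (hgR _ x.2) hyP).mp ?_).1
            have hc : ((x : C) : G) * w = w * ((x : C) : G) :=
              (mem_centralizer_iff.mp (x : C).2 w hw).symm
            show (g : G) * (x : C) * (g : G)⁻¹ * ((g : G) * w * (g : G)⁻¹) =
              (g : G) * w * (g : G)⁻¹ * ((g : G) * (x : C) * (g : G)⁻¹)
            calc (g : G) * (x : C) * (g : G)⁻¹ * ((g : G) * w * (g : G)⁻¹)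
                = g * (((x : C) : G) * w) * (g : G)⁻¹ := by group
              _ = g * (w * ((x : C) : G)) * (g : G)⁻¹ := by rw [hc]
              _ = _ := by group
          · exact Subtype.ext (Subtype.ext (mul_left_cancel (mul_right_cancel
              (congrArg Subtype.val hab))))
      _ = Nat.card Q₀ := by
          rw [hQ₀, card_prod (D.dih₁.V_le hVy) le_rfl, card_prod (D.dih₁.V_le hR.1.1) le_rfl,
            D.dih₁.card_V hVy hwf, D.dih₁.card_V hR.1.1 hR.1.2]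
  have hReq : (R : Subgroup C) = Q₀.subgroupOf C := (eq_of_le_of_card_ge hQR (by
    rw [Nat.card_congr (subgroupOfEquivOfLe hQC).toEquiv]; exact hbound)).symm
  -- move into the normaliser of `Q₀`
  have hCn : ∀ x ∈ C, rho * x * rho⁻¹ ∈ C := fun x hx => mem_centralizer_iff.mpr fun w hw => by
    have hw' : rho⁻¹ * w * rho ∈ H := by simpa using (mem_normalizer_iff.mp (inv_mem hρN) w).mp hw
    have h3 := mem_centralizer_iff.mp hx _ hw'
    calc w * (rho * x * rho⁻¹) = rho * (rho⁻¹ * w * rho * x) * rho⁻¹ := by group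
      _ = rho * (x * (rho⁻¹ * w * rho)) * rho⁻¹ := by rw [h3]
      _ = _ := by group
  let R' : Subgroup C := (Q₀.map (MulAut.conj rho).toMonoidHom).subgroupOf C
  have hQ'C : Q₀.map (MulAut.conj rho).toMonoidHom ≤ C := by
    rintro _ ⟨x, hx, rfl⟩; exact hCn x (hQC hx)
  have hR'p : IsPGroup 2 R' := ((D.P.isPGroup'.to_le prod_le).map _).comap_subtype
  obtain ⟨T', hT'⟩ := hR'p.exists_le_sylow
  obtain ⟨c₀, hc₀⟩ := MulAction.exists_smul_eq C T' R
  set x₀ := (c₀ : G) * rho with hx₀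
  have hx₀Q : x₀ ∈ normalizer (Q₀ : Set G) := by
    refine mem_normalizer_of_conj_le fun q hq => ?_
    have hm : rho * q * rho⁻¹ ∈ Q₀.map (MulAut.conj rho).toMonoidHom := ⟨q, hq, rfl⟩
    have h3 := Involution.conj_mem_sylow_smul c₀ (hT' (show (⟨_, hQ'C hm⟩ : C) ∈ R' from hm))
    rw [hc₀] at h3
    change c₀ * ⟨_, hQ'C hm⟩ * c₀⁻¹ ∈ (R : Subgroup C) at h3
    rw [hReq] at h3
    rw [hx₀, show (c₀ : G) * rho * q * ((c₀ : G) * rho)⁻¹ = c₀ * (rho * q * rho⁻¹) * (c₀ : G)⁻¹ by group]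
    exact h3
  have hfixH : ∀ w ∈ H, (c₀ : G) * w * (c₀ : G)⁻¹ = w := fun w hw => by
    rw [← mem_centralizer_iff.mp c₀.2 w hw, mul_inv_cancel_right]
  have e1 : x₀ * D.z₁ * x₀⁻¹ = D.z₁ * c := by
    rw [hx₀, show (c₀ : G) * rho * D.z₁ * ((c₀ : G) * rho)⁻¹ = c₀ * (rho * D.z₁ * rho⁻¹) * (c₀ : G)⁻¹ by
      group, hρ1, hfixH _ (mul_mem (subset_closure (by simp)) (subset_closure (by simp)))]
  have e2 : x₀ * c * x₀⁻¹ = D.z₁ := by
    rw [hx₀, show (c₀ : G) * rho * c * ((c₀ : G) * rho)⁻¹ = c₀ * (rho * c * rho⁻¹) * (c₀ : G)⁻¹ by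
      group, hρc, hfixH _ (subset_closure (by simp))]
  have hne : x₀ ∉ centralizer ({D.z₁} : Set G) := fun h => by
    rw [mem_centralizer_singleton_iff.mp h, mul_inv_cancel_right] at e1
    exact hk.centre_ne (mul_eq_left.mp e1.symm)
  have h3 : x₀ ^ 3 ∈ centralizer ({D.z₁} : Set G) := mem_centralizer_singleton_iff.mpr (by
    rw [← mul_inv_eq_iff_eq_mul]
    calc x₀ ^ 3 * D.z₁ * (x₀ ^ 3)⁻¹
        = x₀ * (x₀ * (x₀ * D.z₁ * x₀⁻¹) * x₀⁻¹) * x₀⁻¹ := by rw [pow_succ, pow_two]; group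
      _ = x₀ * c * x₀⁻¹ := by
          rw [e1, show x₀ * (D.z₁ * c) * x₀⁻¹ = x₀ * D.z₁ * x₀⁻¹ * (x₀ * c * x₀⁻¹) by group, e1, e2,
            show D.z₁ * c * D.z₁ = c by rw [mul_assoc, ← hzc, ← mul_assoc]; simp [D.dih₁.zed_sq]]
          exact e2
      _ = D.z₁ := e2)
  obtain ⟨j, o, ho, hjo⟩ := Nat.exists_eq_two_pow_mul_odd (orderOf_pos x₀).ne'
  set x := x₀ ^ 2 ^ j with hx
  have hxodd : Odd (orderOf x) := by
    rw [hx, orderOf_pow' x₀ (by positivity), hjo, Nat.gcd_eq_right (dvd_mul_right _ _),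
      Nat.mul_div_cancel_left _ (by positivity)]
    exact ho
  have hxQ : x ∈ normalizer (Q₀ : Set G) := pow_mem hx₀Q _
  have hEQ : D.eSub r u ≤ Q₀ := fun e he => ⟨he.1, he.2.1, snd_mem he.1⟩
  refine ⟨x, odd_normalises_half h₂ hR.1.1 hR.1.2 hxQ hxodd hEQ hR, fun hfix => hne ?_⟩
  refine mem_of_pow_coprime (a := 3) (b := 2 ^ j) ((by norm_num : Nat.Coprime 3 2).pow_right j) h3 ?_
  exact mem_centralizer_singleton_iff.mpr (by rw [← mul_inv_eq_iff_eq_mul]; exact hfix)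

end

end Cfsg.Agent.ProdFus42.DD
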