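import Cfsg.Agent.ProdFus42.DD.Odd

/-!
# Transvections in the automiser of a rank four subgroup
-/

set_option autoImplicit false
set_option linter.style.haveILetI false
set_option linter.unusedSectionVars false

namespace Cfsg.Agent.ProdFus42

open Subgroup
open scoped Pointwise

variable {G : Type*} [Group G] [Finite G]

namespace DihLike

variable {S C : Subgroup G} (h : DihLike S C)
include h

theorem card_V {r : G} (hr : r ∈ S) (hrC : r ∉ C) : Nat.card (h.V r) = 4 := by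
  classical
  have he : (h.V r : Set G) = ↑({1, h.zed, r, h.zed * r} : Finset G) := by
    ext x
    simp [h.mem_V hr hrC]
  have hzr : h.zed * r ≠ 1 := h.refl_ne_one (h.zed_mul_refl hrC)
  have h1 : h.zed * r ≠ h.zed := fun e => h.refl_ne_one hrC (mul_eq_left.mp e)
  have h2 : h.zed * r ≠ r := fun e => h.zed_ne_one (mul_eq_right.mp e)
  rw [show Nat.card (h.V r) = Nat.card ((h.V r : Set G) : Set G) from rfl, Nat.card_coe_set_eq, he,
    Set.ncard_coe_finset]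
  simp [Ne.symm h.zed_ne_one, Ne.symm (h.refl_ne_one hrC), Ne.symm hzr, (h.refl_ne_zed hrC).symm,
    Ne.symm h1, Ne.symm h2]

end DihLike

/-- `k` acts on `E` as a transvection with centre `c`. -/
structure IsTrans (E : Subgroup G) (k c : G) : Prop where
  mem : k ∈ normalizer (E : Set G)
  centre_mem : c ∈ E
  centre_ne : c ≠ 1
  cases : ∀ e ∈ E, k * e * k⁻¹ = e ∨ k * e * k⁻¹ = e * c
  moved : ∃ e ∈ E, k * e * k⁻¹ ≠ e
  fix : k * c * k⁻¹ = c

/-- Two elements act in the same way. -/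
def SameAct (E : Subgroup G) (k l : G) : Prop := ∀ e ∈ E, k * e * k⁻¹ = l * e * l⁻¹

theorem IsTrans.centre_eq {E : Subgroup G} {k l c d : G} (hk : IsTrans E k c) (hl : IsTrans E l d)
    (h : SameAct E k l) : c = d := by
  obtain ⟨e, he, hne⟩ := hk.moved
  have h1 := (hk.cases e he).resolve_left hne
  have h2 := (hl.cases e he).resolve_left (h e he ▸ hne)
  rw [h e he, h2] at h1
  exact (mul_left_cancel h1).symm

theorem IsTrans.conj {E : Subgroup G} {k c g : G} (hk : IsTrans E k c) :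
    IsTrans (E.map (MulAut.conj g).toMonoidHom) (g * k * g⁻¹) (g * c * g⁻¹) := by
  refine ⟨?_, mem_map_of_mem _ hk.centre_mem,
    fun e => hk.centre_ne (by rwa [mul_inv_eq_one, mul_eq_left] at e), ?_, ?_, ?_⟩
  · refine mem_normalizer_of_conj_le ?_
    rintro _ ⟨e, he, rfl⟩
    exact ⟨k * e * k⁻¹, (mem_normalizer_iff.mp hk.mem e).mp he, by simp [mul_assoc]⟩
  · rintro _ ⟨e, he, rfl⟩
    show g * k * g⁻¹ * (g * e * g⁻¹) * (g * k * g⁻¹)⁻¹ = g * e * g⁻¹ ∨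
      g * k * g⁻¹ * (g * e * g⁻¹) * (g * k * g⁻¹)⁻¹ = g * e * g⁻¹ * (g * c * g⁻¹)
    rw [show g * k * g⁻¹ * (g * e * g⁻¹) * (g * k * g⁻¹)⁻¹ = g * (k * e * k⁻¹) * g⁻¹ by group]
    rcases hk.cases e he with h | h <;> rw [h]
    · exact Or.inl rfl
    · exact Or.inr (by group)
  · obtain ⟨e, he, hne⟩ := hk.moved
    refine ⟨_, mem_map_of_mem _ he, fun h => hne ?_⟩
    have h' : g * k * g⁻¹ * (g * e * g⁻¹) * (g * k * g⁻¹)⁻¹ = g * e * g⁻¹ := h
    rw [show g * k * g⁻¹ * (g * e * g⁻¹) * (g * k * g⁻¹)⁻¹ = g * (k * e * k⁻¹) * g⁻¹ by group] at h'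
    exact mul_left_cancel (mul_right_cancel h')
  · rw [show g * k * g⁻¹ * (g * c * g⁻¹) * (g * k * g⁻¹)⁻¹ = g * (k * c * k⁻¹) * g⁻¹ by group,
      hk.fix]

theorem IsTrans.conj_of_mem {E : Subgroup G} {k c g : G} (hk : IsTrans E k c)
    (hg : g ∈ normalizer (E : Set G)) : IsTrans E (g * k * g⁻¹) (g * c * g⁻¹) := by
  have h := hk.conj (g := g)
  have e : E.map (MulAut.conj g).toMonoidHom = E := by
    ext y
    refine ⟨?_, fun hy => ⟨g⁻¹ * y * g, ?_, by simp [mul_assoc]⟩⟩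
    · rintro ⟨z, hz, rfl⟩; exact (mem_normalizer_iff.mp hg z).mp hz
    · simpa using (mem_normalizer_iff.mp (inv_mem hg) y).mp hy
  rwa [e] at h

namespace DD

variable {D : DD G}

theorem card_prod {A B : Subgroup G} (hA : A ≤ D.D₁) (hB : B ≤ D.D₂) :
    Nat.card (D.prod A B) = Nat.card A * Nat.card B := by
  rw [← Nat.card_prod]
  refine (Nat.card_eq_of_bijective (fun x : A × B =>
    (⟨(x.1 : G) * x.2, mul_mem_prod hA hB x.1.2 x.2.2⟩ : D.prod A B)) ⟨?_, ?_⟩).symm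
  · intro x y h
    obtain ⟨e1, e2⟩ := coords_eq (hA x.1.2) (hB x.2.2) (hA y.1.2) (hB y.2.2) (congrArg Subtype.val h)
    exact Prod.ext (Subtype.ext e1) (Subtype.ext e2)
  · rintro ⟨w, hw⟩
    exact ⟨(⟨_, hw.2.1⟩, ⟨_, hw.2.2⟩), Subtype.ext (fst_mul_snd hw.1)⟩

theorem card_eSub {r u : G} (h : D.IsRefl r u) : Nat.card (D.eSub r u) = 16 := by
  rw [eSub, card_prod (D.dih₁.V_le h.1.1) (D.dih₂.V_le h.2.1), D.dih₁.card_V h.1.1 h.1.2,
    D.dih₂.card_V h.2.1 h.2.2]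

theorem exists_refl_fst {E : Subgroup G} (hEP : E ≤ (D.P : Subgroup G)) (hcard : Nat.card E = 16)
    (hsq : ∀ e ∈ E, e * e = 1) : ∃ e ∈ E, D.fst e ∉ D.C₁ := by
  by_contra h
  push Not at h
  have hcomm : ∀ a ∈ E, ∀ b ∈ E, a * b = b * a := fun a ha b hb => by
    have h1 := hsq _ (mul_mem ha hb)
    rw [← eq_inv_iff_mul_eq_one, mul_inv_rev, inv_eq_of_mul_eq_one_right (hsq a ha),
      inv_eq_of_mul_eq_one_right (hsq b hb)] at h1
    exact h1
  obtain ⟨u, hu, huC, hall⟩ : ∃ u ∈ D.D₂, u ∉ D.C₂ ∧ ∀ e ∈ E, D.snd e ∈ D.dih₂.V u := by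
    by_cases hs : ∃ e ∈ E, D.snd e ∉ D.C₂
    · obtain ⟨e, he, hes⟩ := hs
      exact ⟨_, snd_mem (hEP he), hes, fun w hw => D.dih₂.mem_V_of_commute (snd_mem (hEP he)) hes
        (snd_mem (hEP hw)) ((commute_iff (hEP hw) (hEP he)).mp (hcomm w hw e he)).2⟩
    · push Not at hs
      obtain ⟨u, hu, huC⟩ := D.dih₂.out
      refine ⟨u, hu, huC, fun e he => ?_⟩
      rcases D.dih₂.eq_zed (hs e he) ((sq_iff (hEP he)).mp (hsq e he)).2 with k | k <;> rw [k]
      exacts [one_mem _, D.dih₂.zed_mem_V u]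
  obtain ⟨r, hr, hrC⟩ := D.dih₁.out
  have hle : E ≤ D.eSub r u := fun e he => ⟨hEP he, by
    rcases D.dih₁.eq_zed (h e he) ((sq_iff (hEP he)).mp (hsq e he)).1 with k | k <;> rw [k]
    exacts [one_mem _, D.dih₁.zed_mem_V r], hall e he⟩
  have heq : E = D.eSub r u := eq_of_le_of_card_ge hle (by rw [card_eSub ⟨⟨hr, hrC⟩, hu, huC⟩, hcard])
  have hm : r ∈ E := heq ▸ left_mem_eSub ⟨⟨hr, hrC⟩, hu, huC⟩
  exact hrC (fst_left hr ▸ h r hm)

/-- Elementary subgroups of order 16. -/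
theorem eq_eSub {E : Subgroup G} (hEP : E ≤ (D.P : Subgroup G)) (hcard : Nat.card E = 16)
    (hsq : ∀ e ∈ E, e * e = 1) : ∃ r u, D.IsRefl r u ∧ E = D.eSub r u := by
  obtain ⟨a, ha, haf⟩ := exists_refl_fst hEP hcard hsq
  obtain ⟨b, hb, hbf⟩ := exists_refl_fst (D := D.swap) hEP hcard hsq
  rw [fst_swap (D := D) (hEP hb)] at hbf
  have hcomm : ∀ a ∈ E, ∀ b ∈ E, a * b = b * a := fun a ha b hb => by
    have h1 := hsq _ (mul_mem ha hb)
    rw [← eq_inv_iff_mul_eq_one, mul_inv_rev, inv_eq_of_mul_eq_one_right (hsq a ha),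
      inv_eq_of_mul_eq_one_right (hsq b hb)] at h1
    exact h1
  have hR : D.IsRefl (D.fst a) (D.snd b) := ⟨⟨fst_mem (hEP ha), haf⟩, snd_mem (hEP hb), hbf⟩
  refine ⟨_, _, hR, eq_of_le_of_card_ge (fun e he => ?_) (by rw [card_eSub hR, hcard])⟩
  exact ⟨hEP he, D.dih₁.mem_V_of_commute (fst_mem (hEP ha)) haf (fst_mem (hEP he))
      ((commute_iff (hEP he) (hEP ha)).mp (hcomm e he a ha)).1,
    D.dih₂.mem_V_of_commute (snd_mem (hEP hb)) hbf (snd_mem (hEP he))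
      ((commute_iff (hEP he) (hEP hb)).mp (hcomm e he b hb)).2⟩

/-- The standard transvection. -/
theorem isTrans_tau {t : G} (ht : t ∈ D.C₁) (htr : ∀ a ∈ D.D₁, a ∉ D.C₁ → t * a * t⁻¹ = D.z₁ * a)
    {r u : G} (hR : D.IsRefl r u) :
    IsTrans (D.eSub r u) t D.z₁ ∧ ∀ e ∈ D.eSub r u,
      (D.fst e ∈ D.C₁ → t * e * t⁻¹ = e) ∧ (D.fst e ∉ D.C₁ → t * e * t⁻¹ = e * D.z₁) := by
  have htD := D.dih₁.le ht
  have hform : ∀ e ∈ D.eSub r u,
      (D.fst e ∈ D.C₁ → t * e * t⁻¹ = e) ∧ (D.fst e ∉ D.C₁ → t * e * t⁻¹ = e * D.z₁) := by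
    intro e he
    have hc : D.snd e * t⁻¹ = t⁻¹ * D.snd e := (D.comm _ (inv_mem htD) _ (snd_mem he.1)).symm
    have hsplit : t * e * t⁻¹ = t * D.fst e * t⁻¹ * D.snd e := by
      conv_lhs => rw [← fst_mul_snd he.1]
      calc t * (D.fst e * D.snd e) * t⁻¹ = t * D.fst e * (D.snd e * t⁻¹) := by group
        _ = t * D.fst e * (t⁻¹ * D.snd e) := by rw [hc]
        _ = _ := by group
    refine ⟨fun hf => ?_, fun hf => ?_⟩
    · rw [hsplit, D.dih₁.comm_cyclic ht hf, mul_inv_cancel_right, fst_mul_snd he.1]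
    · rw [hsplit, htr _ (fst_mem he.1) hf, mul_assoc, fst_mul_snd he.1, z₁_central he.1]
  refine ⟨⟨?_, z₁_mem_eSub r u, D.dih₁.zed_ne_one, fun e he => ?_, ?_, ?_⟩, hform⟩
  · refine mem_normalizer_of_conj_le fun e he => ?_
    by_cases hf : D.fst e ∈ D.C₁
    · rw [(hform e he).1 hf]; exact he
    · rw [(hform e he).2 hf]; exact mul_mem he (z₁_mem_eSub r u)
  · by_cases hf : D.fst e ∈ D.C₁
    · exact Or.inl ((hform e he).1 hf)
    · exact Or.inr ((hform e he).2 hf)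
  · refine ⟨r, left_mem_eSub hR, ?_⟩
    rw [(hform r (left_mem_eSub hR)).2 (by rw [fst_left hR.1.1]; exact hR.1.2)]
    exact fun e => D.dih₁.zed_ne_one (mul_eq_left.mp e)
  · exact (hform _ (z₁_mem_eSub r u)).1 (by rw [fst_left D.dih₁.zed_mem']; exact D.dih₁.zed_mem)

/-- A transvection induced by the Sylow subgroup. -/
theorem trans_of_mem {t : G} (ht : t ∈ D.C₁) (htr : ∀ a ∈ D.D₁, a ∉ D.C₁ → t * a * t⁻¹ = D.z₁ * a)
    {r u : G} (hR : D.IsRefl r u) {y c : G} (hy : y ∈ (D.P : Subgroup G))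
    (hT : IsTrans (D.eSub r u) y c) (hc : c ≠ D.z₂) : c = D.z₁ ∧ SameAct (D.eSub r u) y t := by
  obtain ⟨hTt, hform⟩ := isTrans_tau ht htr hR
  have hrE := left_mem_eSub hR
  have huE : u ∈ D.eSub r u := eSub_swap (D := D) r u ▸ left_mem_eSub hR.swap
  have hyn := hT.mem
  have hz2c : D.z₂ * y = y * D.z₂ := z₁_central (D := D.swap) hy
  -- the images of `r` and `u`
  have hcase : ∀ (a : G) (ha : a ∈ D.D₁) (haC : a ∉ D.C₁), a ∈ D.eSub r u →
      y * a * y⁻¹ = a ∨ y * a * y⁻¹ = a * D.z₁ := by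
    intro a ha haC haE
    have hyaP : y * a * y⁻¹ ∈ D.eSub r u := (mem_normalizer_iff.mp hyn a).mp haE
    have hf : D.fst (y * a * y⁻¹) = D.fst y * a * (D.fst y)⁻¹ := by
      rw [fst_mul (mul_mem hy (D.le₁ ha)) (inv_mem hy), fst_mul hy (D.le₁ ha), fst_inv hy, fst_left ha]
    have hs : D.snd (y * a * y⁻¹) = 1 := by
      rw [snd_mul (mul_mem hy (D.le₁ ha)) (inv_mem hy), snd_mul hy (D.le₁ ha), snd_inv hy,
        snd_left ha, mul_one, mul_inv_cancel]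
    have e : y * a * y⁻¹ = D.fst y * a * (D.fst y)⁻¹ := by
      conv_lhs => rw [← fst_mul_snd hyaP.1, hs, mul_one, hf]
    have hnC : D.fst y * a * (D.fst y)⁻¹ ∉ D.C₁ := fun h => by
      by_cases hyC : D.fst y ∈ D.C₁
      · exact haC (by simpa [mul_assoc] using mul_mem (mul_mem (inv_mem hyC) h) hyC)
      · rw [D.dih₁.refl_inv (fst_mem hy) hyC] at h
        exact D.dih₁.refl_mul_cyclic (fst_mem hy) hyC (D.dih₁.mul _ (fst_mem hy) a ha hyC haC)
          (by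
            have h4 := mul_mem (D.dih₁.mul _ (fst_mem hy) a ha hyC haC) (one_mem D.C₁)
            have h5 := mul_mem (inv_mem (D.dih₁.mul _ (fst_mem hy) a ha hyC haC)) h
            rw [inv_mul_cancel_left] at h5
            exact absurd h5 hyC)
    have hm : D.fst y * a * (D.fst y)⁻¹ ∈ D.dih₁.V r := hf ▸ hyaP.2.1
    rw [← D.dih₁.V_congr hR.1.1 hR.1.2 (fst_left ha ▸ haE.2.1) haC, D.dih₁.mem_V ha haC] at hm
    rcases hm with h | h | h | h
    · exact absurd (h ▸ one_mem _) hnC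
    · exact absurd (h ▸ D.dih₁.zed_mem) hnC
    · exact Or.inl (e.trans h)
    · exact Or.inr (by rw [e, h, z₁_central (D.le₁ ha)])
  have hu' : y * u * y⁻¹ = u := by
    rcases hT.cases u huE with h | h
    · exact h
    exfalso
    have hyu : y * u * y⁻¹ ∈ D.eSub r u := (mem_normalizer_iff.mp hyn u).mp huE
    have hf : D.fst (y * u * y⁻¹) = 1 := by
      rw [fst_mul (mul_mem hy (D.le₂ hR.2.1)) (inv_mem hy), fst_mul hy (D.le₂ hR.2.1), fst_inv hy,
        fst_right hR.2.1, mul_one, mul_inv_cancel]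
    have hs : D.snd (y * u * y⁻¹) = D.snd y * u * (D.snd y)⁻¹ := by
      rw [snd_mul (mul_mem hy (D.le₂ hR.2.1)) (inv_mem hy), snd_mul hy (D.le₂ hR.2.1), snd_inv hy,
        snd_right hR.2.1]
    have hm := hyu.2.2
    rw [hs, D.dih₂.mem_V hR.2.1 hR.2.2] at hm
    have e : y * u * y⁻¹ = D.snd y * u * (D.snd y)⁻¹ := by
      conv_lhs => rw [← fst_mul_snd hyu.1, hf, one_mul, hs]
    rw [← e, h] at hm
    have huz : u * D.z₂ = D.z₂ * u := D.dih₂.zed_comm hR.2.1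
    have hu2 := D.dih₂.refl_sq hR.2.1 hR.2.2
    have hyu2 : y * u * y⁻¹ * (y * u * y⁻¹) = 1 := by
      rw [show y * u * y⁻¹ * (y * u * y⁻¹) = y * (u * u) * y⁻¹ by group, hu2]; group
    rcases hm with k | k | k | k
    · rw [k] at h
      exact D.dih₂.refl_ne_one hR.2.2 (by
        rw [show u = y⁻¹ * (y * u * y⁻¹) * y by group, h]; group)
    · have h6 : y * u * y⁻¹ = D.z₂ := h.trans k
      have h7 : u = D.z₂ := by
        rw [show u = y⁻¹ * (y * u * y⁻¹) * y by group, h6, mul_assoc,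
          hz2c, inv_mul_cancel_left]
      exact D.dih₂.refl_ne_zed hR.2.2 h7
    · exact hT.centre_ne (mul_eq_left.mp k)
    · rw [← huz] at k
      exact hc (mul_left_cancel k)
  have hrc : c = D.z₁ ∧ y * r * y⁻¹ = r * D.z₁ := by
    rcases hcase r hR.1.1 hR.1.2 hrE with h | h
    · exfalso
      obtain ⟨e, he, hne⟩ := hT.moved
      refine hne ?_
      have hz : y * D.z₁ * y⁻¹ = D.z₁ := by rw [← z₁_central hy, mul_inv_cancel_right]
      have hz' : y * D.z₂ * y⁻¹ = D.z₂ := by rw [← hz2c, mul_inv_cancel_right]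
      have key : ∀ a b : G, y * a * y⁻¹ = a → y * b * y⁻¹ = b → y * (a * b) * y⁻¹ = a * b :=
        fun a b ha hb => by rw [show y * (a * b) * y⁻¹ = y * a * y⁻¹ * (y * b * y⁻¹) by group, ha, hb]
      rw [← fst_mul_snd he.1]
      refine key _ _ ?_ ?_
      · rcases (D.dih₁.mem_V hR.1.1 hR.1.2).mp he.2.1 with k | k | k | k <;> rw [k]
        exacts [by simp, hz, h, key _ _ hz h]
      · rcases (D.dih₂.mem_V hR.2.1 hR.2.2).mp he.2.2 with k | k | k | k <;> rw [k]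
        exacts [by simp, hz', hu', key _ _ hz' hu']
    · refine ⟨?_, h⟩
      rcases hT.cases r hrE with k | k
      · rw [h] at k; exact absurd (mul_eq_left.mp k) D.dih₁.zed_ne_one
      · rw [h] at k; exact (mul_left_cancel k).symm
  refine ⟨hrc.1, fun e he => ?_⟩
  have hz : y * D.z₁ * y⁻¹ = D.z₁ := by rw [← z₁_central hy, mul_inv_cancel_right]
  have hz' : y * D.z₂ * y⁻¹ = D.z₂ := by rw [← hz2c, mul_inv_cancel_right]
  have hs : y * D.snd e * y⁻¹ = D.snd e := by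
    rcases (D.dih₂.mem_V hR.2.1 hR.2.2).mp he.2.2 with k | k | k | k <;> rw [k]
    · simp
    · exact hz'
    · exact hu'
    · rw [show y * (D.dih₂.zed * u) * y⁻¹ = y * D.z₂ * y⁻¹ * (y * u * y⁻¹) by group, hz', hu']
  have hsplit : y * e * y⁻¹ = y * D.fst e * y⁻¹ * D.snd e := by
    conv_lhs => rw [← fst_mul_snd he.1]
    rw [show y * (D.fst e * D.snd e) * y⁻¹ = y * D.fst e * y⁻¹ * (y * D.snd e * y⁻¹) by group, hs]
  by_cases hf : D.fst e ∈ D.C₁
  · rw [(hform e he).1 hf, hsplit]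
    conv_rhs => rw [← fst_mul_snd he.1]
    congr 1
    rcases (D.dih₁.mem_V hR.1.1 hR.1.2).mp he.2.1 with k | k | k | k
    · rw [k]; simp
    · rw [k]; exact hz
    · exact absurd (k ▸ hf) hR.1.2
    · exact absurd (k ▸ hf) (D.dih₁.zed_mul_refl hR.1.2)
  · rw [(hform e he).2 hf, hsplit, ← z₁_central he.1]
    conv_rhs => rw [← fst_mul_snd he.1, ← mul_assoc]
    congr 1
    rcases (D.dih₁.mem_V hR.1.1 hR.1.2).mp he.2.1 with k | k | k | k
    · exact absurd (k ▸ one_mem _) hf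
    · exact absurd (k ▸ D.dih₁.zed_mem) hf
    · rw [k, hrc.2, z₁_central (D.le₁ hR.1.1)]
    · rw [k, show y * (D.dih₁.zed * r) * y⁻¹ = y * D.z₁ * y⁻¹ * (y * r * y⁻¹) by group, hz, hrc.2,
        z₁_central (D.le₁ hR.1.1)]

/-- Commuting conjugates of the standard transvection are equal. -/
theorem sameAct_of_commute {t : G} (ht : t ∈ D.C₁)
    (htr : ∀ a ∈ D.D₁, a ∉ D.C₁ → t * a * t⁻¹ = D.z₁ * a) (hne : ∀ g : G, g * D.z₁ * g⁻¹ ≠ D.z₂)
    {r u : G} (hR : D.IsRefl r u) {k l c d g₁ g₂ : G} (hk : IsTrans (D.eSub r u) k c)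
    (hl : IsTrans (D.eSub r u) l d) (hg₁ : g₁ * D.z₁ * g₁⁻¹ = c) (hg₂ : g₂ * D.z₁ * g₂⁻¹ = d)
    (hkd : k * d * k⁻¹ = d) (hlc : l * c * l⁻¹ = c) : SameAct (D.eSub r u) k l := by
  haveI := Fact.mk Nat.prime_two
  set E := D.eSub r u with hE
  set N := normalizer (E : Set G) with hN
  set Cc : Subgroup N := centralizer ((E.subgroupOf N : Subgroup N) : Set N) with hCc
  haveI : (E.subgroupOf N).Normal := Subgroup.normal_in_normalizer
  haveI : Cc.Normal := Subgroup.normal_centralizer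
  set π := QuotientGroup.mk' Cc with hπ
  have hEc : ∀ a ∈ E, ∀ b ∈ E, a * b = b * a := fun a ha b hb => eSub_comm hR ha hb
  have hker : ∀ a b : N, SameAct E (a : G) b → π a = π b := by
    intro a b h
    refine QuotientGroup.eq.mpr (mem_centralizer_iff.mpr fun e he => Subtype.ext ?_)
    show (e : G) * ((a : G)⁻¹ * b) = (a : G)⁻¹ * b * e
    have h1 := h e he
    calc (e : G) * ((a : G)⁻¹ * b) = (a : G)⁻¹ * ((a : G) * e * (a : G)⁻¹) * b := by group
      _ = (a : G)⁻¹ * ((b : G) * e * (b : G)⁻¹) * b := by rw [h1]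
      _ = _ := by group
  have hsame : ∀ a b : N, π a = π b → SameAct E (a : G) b := by
    intro a b h e he
    have h1 := mem_centralizer_iff.mp (QuotientGroup.eq.mp h) ⟨e, le_normalizer he⟩ he
    have h2 : e * ((a : G)⁻¹ * b) = (a : G)⁻¹ * b * e := congrArg Subtype.val h1
    calc (a : G) * e * (a : G)⁻¹ = a * (e * ((a : G)⁻¹ * b)) * (b : G)⁻¹ := by group
      _ = a * ((a : G)⁻¹ * b * e) * (b : G)⁻¹ := by rw [h2]
      _ = _ := by group
  have hsq : ∀ {k c : G} (hk : IsTrans E k c), π ⟨k, hk.mem⟩ * π ⟨k, hk.mem⟩ = 1 := by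
    intro k c hk
    rw [← map_mul, ← map_one π]
    refine hker _ _ fun e he => ?_
    show k * k * e * (k * k)⁻¹ = 1 * e * 1⁻¹
    rw [show k * k * e * (k * k)⁻¹ = k * (k * e * k⁻¹) * k⁻¹ by group, one_mul, inv_one, mul_one]
    rcases hk.cases e he with h | h
    · rw [h, h]
    · rw [h, show k * (e * c) * k⁻¹ = k * e * k⁻¹ * (k * c * k⁻¹) by group, h, hk.fix, mul_assoc,
        eSub_sq hR hk.centre_mem, mul_one]
  have hcomm : π ⟨k, hk.mem⟩ * π ⟨l, hl.mem⟩ = π ⟨l, hl.mem⟩ * π ⟨k, hk.mem⟩ := by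
    rw [← map_mul, ← map_mul]
    refine hker _ _ fun e he => ?_
    show k * l * e * (k * l)⁻¹ = l * k * e * (l * k)⁻¹
    rw [show k * l * e * (k * l)⁻¹ = k * (l * e * l⁻¹) * k⁻¹ by group,
      show l * k * e * (l * k)⁻¹ = l * (k * e * k⁻¹) * l⁻¹ by group]
    rcases hl.cases e he with h | h <;> rcases hk.cases e he with h' | h' <;> rw [h, h']
    · rw [h]
    · rw [show l * (e * c) * l⁻¹ = l * e * l⁻¹ * (l * c * l⁻¹) by group, h, hlc]
    · rw [h, show k * (e * d) * k⁻¹ = k * e * k⁻¹ * (k * d * k⁻¹) by group, h', hkd]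
    · rw [show k * (e * d) * k⁻¹ = k * e * k⁻¹ * (k * d * k⁻¹) by group, h', hkd,
        show l * (e * c) * l⁻¹ = l * e * l⁻¹ * (l * c * l⁻¹) by group, h, hlc, mul_assoc, mul_assoc,
        hEc c hk.centre_mem d hl.centre_mem]
  obtain ⟨T, hT⟩ := (Involution.isPGroup_closure_pair_of_commute (hsq hk) (hsq hl) hcomm).exists_le_sylow
  obtain ⟨R₀⟩ : Nonempty (Sylow 2 N) := inferInstance
  obtain ⟨a, ha⟩ := MulAction.exists_smul_eq (N ⧸ Cc)
    (R₀.mapSurjective (QuotientGroup.mk'_surjective Cc)) T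
  obtain ⟨b, rfl⟩ := QuotientGroup.mk'_surjective Cc a
  set R : Sylow 2 N := b • R₀ with hR₀
  have hlift : ∀ w, w ∈ T → ∃ v ∈ R, π v = w := by
    intro w hw
    rw [← ha] at hw
    obtain ⟨w₀, ⟨v, hv, rfl⟩, rfl⟩ := hw
    exact ⟨b * v * b⁻¹, ⟨v, hv, rfl⟩, by simp [hπ]⟩
  obtain ⟨k', hk', hkk⟩ := hlift _ (hT (subset_closure (by simp : π ⟨k, hk.mem⟩ ∈ _)))
  obtain ⟨l', hl', hll⟩ := hlift _ (hT (subset_closure (by simp : π ⟨l, hl.mem⟩ ∈ _)))
  have hER : E.subgroupOf N ≤ (R : Subgroup N) :=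
    (Thompson.le_pCore Subgroup.normal_in_normalizer (D.P.isPGroup'.to_le eSub_le).comap_subtype).trans
      (Thompson.pCore_le_sylow R)
  obtain ⟨Q, hQ⟩ := (R.isPGroup'.map N.subtype).exists_le_sylow
  obtain ⟨g, hg⟩ := MulAction.exists_smul_eq G Q D.P
  have hgP : ∀ w : N, w ∈ R → g * (w : G) * g⁻¹ ∈ (D.P : Subgroup G) := by
    intro w hw
    rw [← hg, Sylow.coe_subgroup_smul]
    exact ⟨w, hQ (mem_map_of_mem _ hw), rfl⟩
  have hEP : E.map (MulAut.conj g).toMonoidHom ≤ (D.P : Subgroup G) := by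
    rintro _ ⟨e, he, rfl⟩
    exact hgP ⟨e, le_normalizer he⟩ (hER he)
  obtain ⟨r', u', hR', hE'⟩ := eq_eSub hEP
    (by rw [card_map_of_injective (MulAut.conj g).injective, card_eSub hR])
    (by rintro _ ⟨e, he, rfl⟩; rw [← map_mul, eSub_sq hR he, map_one])
  have main : ∀ {k c g₁ : G} (hk : IsTrans E k c) (k' : N), k' ∈ R → π k' = π ⟨k, hk.mem⟩ →
      g₁ * D.z₁ * g₁⁻¹ = c → SameAct (D.eSub r' u') (g * k * g⁻¹) t := by
    intro k c g₁ hk k' hk'R hkk hg₁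
    have hs := hsame _ _ hkk
    have hT' : IsTrans (D.eSub r' u') (g * k * g⁻¹) (g * c * g⁻¹) := hE' ▸ hk.conj
    have hsame' : SameAct (D.eSub r' u') (g * k' * g⁻¹) (g * k * g⁻¹) := by
      rw [← hE']
      rintro _ ⟨e, he, rfl⟩
      show g * k' * g⁻¹ * (g * e * g⁻¹) * (g * k' * g⁻¹)⁻¹ =
        g * k * g⁻¹ * (g * e * g⁻¹) * (g * k * g⁻¹)⁻¹
      calc g * k' * g⁻¹ * (g * e * g⁻¹) * (g * k' * g⁻¹)⁻¹ = g * (k' * e * (k' : G)⁻¹) * g⁻¹ := by group
        _ = g * (k * e * k⁻¹) * g⁻¹ := by rw [hs e he]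
        _ = _ := by group
    have hT'' : IsTrans (D.eSub r' u') (g * k' * g⁻¹) (g * c * g⁻¹) := by
      refine ⟨?_, hT'.centre_mem, hT'.centre_ne, fun e he => ?_, ?_, ?_⟩
      · refine mem_normalizer_of_conj_le fun e he => ?_
        rw [hsame' e he]; exact (mem_normalizer_iff.mp hT'.mem e).mp he
      · rw [hsame' e he]; exact hT'.cases e he
      · obtain ⟨e, he, hne⟩ := hT'.moved
        exact ⟨e, he, by rwa [hsame' e he]⟩
      · rw [hsame' _ hT'.centre_mem]; exact hT'.fix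
    obtain ⟨-, hres⟩ := trans_of_mem ht htr hR' (hgP k' hk'R) hT'' (by
      rw [← hg₁, show g * (g₁ * D.z₁ * g₁⁻¹) * g⁻¹ = g * g₁ * D.z₁ * (g * g₁)⁻¹ by group]
      exact hne _)
    exact fun e he => (hsame' e he).symm.trans (hres e he)
  intro e he
  have hm : g * e * g⁻¹ ∈ D.eSub r' u' := hE' ▸ mem_map_of_mem (MulAut.conj g).toMonoidHom he
  have h1 := (main hk k' hk' hkk hg₁ _ hm).trans (main hl l' hl' hll hg₂ _ hm).symm
  rw [show g * k * g⁻¹ * (g * e * g⁻¹) * (g * k * g⁻¹)⁻¹ = g * (k * e * k⁻¹) * g⁻¹ by group,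
    show g * l * g⁻¹ * (g * e * g⁻¹) * (g * l * g⁻¹)⁻¹ = g * (l * e * l⁻¹) * g⁻¹ by group] at h1
  exact mul_left_cancel (mul_right_cancel h1)

/-- If a conjugate of the standard transvection fixes the centre of another transvection, then
conversely. -/
theorem fix_symm {t : G} (ht : t ∈ D.C₁) (htr : ∀ a ∈ D.D₁, a ∉ D.C₁ → t * a * t⁻¹ = D.z₁ * a)
    (hne : ∀ g : G, g * D.z₁ * g⁻¹ ≠ D.z₂) {r u : G} (hR : D.IsRefl r u) {k l c d g₁ : G}
    (hk : IsTrans (D.eSub r u) k c) (hg₁ : g₁ * D.z₁ * g₁⁻¹ = c) (hl : IsTrans (D.eSub r u) l d)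
    (hkd : k * d * k⁻¹ = d) : l * c * l⁻¹ = c := by
  rcases hl.cases c hk.centre_mem with h | h
  · exact h
  exfalso
  have hk' : IsTrans (D.eSub r u) (l * k * l⁻¹) (c * d) := h ▸ hk.conj_of_mem hl.mem
  have hinv : l⁻¹ * c * l = c * d := by
    have e : l * (c * d) * l⁻¹ = c := by
      rw [show l * (c * d) * l⁻¹ = l * c * l⁻¹ * (l * d * l⁻¹) by group, h, hl.fix, mul_assoc,
        eSub_sq hR hl.centre_mem, mul_one]
    calc l⁻¹ * c * l = l⁻¹ * (l * (c * d) * l⁻¹) * l := by rw [e]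
      _ = c * d := by group
  have h1 : k * (c * d) * k⁻¹ = c * d := by
    rw [show k * (c * d) * k⁻¹ = k * c * k⁻¹ * (k * d * k⁻¹) by group, hk.fix, hkd]
  have h2 : l * k * l⁻¹ * c * (l * k * l⁻¹)⁻¹ = c := by
    rw [show l * k * l⁻¹ * c * (l * k * l⁻¹)⁻¹ = l * (k * (l⁻¹ * c * l) * k⁻¹) * l⁻¹ by group, hinv,
      h1, ← hinv]
    group
  have hs := sameAct_of_commute ht htr hne hR hk hk' hg₁ (g₂ := l * g₁)
    (by rw [← h, ← hg₁]; group) h1 h2
  exact hl.centre_ne (mul_eq_left.mp (hk.centre_eq hk' hs).symm)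

end DD

end Cfsg.Agent.ProdFus42
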